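/-
In dimension four over a field where five has order four, the subgroups of order five of any
group of matrices with coefficients in the prime field, or of unitary matrices, are conjugate.
-/
import Mathlib.GroupTheory.Sylow
import Mathlib.GroupTheory.PGroup
import Mathlib.LinearAlgebra.Matrix.Charpoly.Eigs
import Mathlib.LinearAlgebra.Matrix.NonsingularInverse
import Mathlib.FieldTheory.IsAlgClosed.Spectrum
import Mathlib.FieldTheory.IsAlgClosed.AlgebraicClosure
import Mathlib.Algebra.CharP.Lemmas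
import Cfsg.Agent.Lib.Unitary.Basic

set_option autoImplicit false
set_option linter.unusedSectionVars false

namespace Cfsg.Agent.Lib.Elusive19.Pauli4.Five

open scoped Matrix MatrixGroups

variable {F : Type*} [Field F] {ι : Type} [Fintype ι] [DecidableEq ι]

local notation "Mat" => Matrix ι ι F

/-- In a group without fixed vectors, commuting elements of order five generate the same
subgroup. -/
theorem mem_zpowers_of_commute (h5 : (5 : F) ≠ 0) [Nonempty ι] {G : Subgroup (GL ι F)}
    (H : ∀ c ∈ G, c ^ 5 = 1 → ((c : Mat) - 1).det = 0 → c = 1) {x y : GL ι F} (hx : x ∈ G)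
    (hy : y ∈ G) (hx5 : x ^ 5 = 1) (hy5 : y ^ 5 = 1) (hy1 : y ≠ 1) (hc : Commute x y) :
    x ∈ Subgroup.zpowers y := by
  by_contra hne
  have hgeo : ∀ c ∈ G, c ^ 5 = 1 → c ≠ 1 → ∑ k ∈ Finset.range 5, (c : Mat) ^ k = 0 := by
    intro c hc h5' h1
    have hu : IsUnit ((c : Mat) - 1) := (Matrix.isUnit_iff_isUnit_det _).mpr
      (isUnit_iff_ne_zero.mpr fun h => h1 (H c hc h5' h))
    refine hu.mul_left_cancel ?_
    rw [mul_geom_sum, mul_zero, sub_eq_zero, ← Units.val_pow_eq_pow_val, h5', Units.val_one]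
  have h1 : ∀ j : ℕ, ∑ k ∈ Finset.range 5, (x : Mat) ^ k * ((y : Mat) ^ k) ^ j = 0 := by
    intro j
    have := hgeo (x * y ^ j) (G.mul_mem hx (G.pow_mem hy j))
      (by rw [(hc.pow_right j).mul_pow, hx5, one_mul, ← pow_mul, mul_comm, pow_mul, hy5, one_pow])
      (fun h => by
        refine hne ?_
        rw [mul_eq_one_iff_eq_inv.mp h]
        exact Subgroup.inv_mem _ (Subgroup.pow_mem _ (Subgroup.mem_zpowers y) j))
    rw [← this]
    refine Finset.sum_congr rfl fun k _ => ?_
    rw [← pow_mul, ← Units.val_pow_eq_pow_val (x * y ^ j), (hc.pow_right j).mul_pow, ← pow_mul,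
      mul_comm j k]
    simp
  have h2 : ∑ k ∈ Finset.range 5, ∑ j ∈ Finset.range 5, (x : Mat) ^ k * ((y : Mat) ^ k) ^ j = 0 := by
    rw [Finset.sum_comm]; exact Finset.sum_eq_zero fun j _ => h1 j
  rw [Finset.sum_range_succ', Finset.sum_eq_zero] at h2
  · simp at h2
    have h3 := congrFun₂ h2 (Classical.arbitrary ι) (Classical.arbitrary ι)
    rw [show (5 : Mat) = Matrix.scalar ι (5 : F) from (map_ofNat (Matrix.scalar ι) 5).symm] at h3
    simp at h3
    exact h5 h3
  · intro k hk
    rw [← Finset.mul_sum, ← Units.val_pow_eq_pow_val y, hgeo _ (G.pow_mem hy _)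
      (by rw [← pow_mul, mul_comm, pow_mul, hy5, one_pow]) ?_, mul_zero]
    intro h
    have hd := orderOf_dvd_of_pow_eq_one h
    haveI : Fact (Nat.Prime 5) := ⟨by norm_num⟩
    rw [orderOf_eq_prime hy5 hy1] at hd
    have := Nat.le_of_dvd (by omega) hd
    simp at hk
    omega

/-- Sylow's theorem does the rest. -/
theorem exists_conj [Finite (GL ι F)] (h5 : (5 : F) ≠ 0) [Nonempty ι] {G : Subgroup (GL ι F)}
    (H : ∀ c ∈ G, c ^ 5 = 1 → ((c : Mat) - 1).det = 0 → c = 1) {x y : GL ι F} (hx : x ∈ G)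
    (hy : y ∈ G) (hx5 : x ^ 5 = 1) (hy5 : y ^ 5 = 1) (hx1 : x ≠ 1) (hy1 : y ≠ 1) :
    ∃ g ∈ G, g⁻¹ * x * g ∈ Subgroup.zpowers y := by
  haveI : Fact (Nat.Prime 5) := ⟨by norm_num⟩
  have hpg : ∀ t : G, t ^ 5 = 1 → IsPGroup 5 (Subgroup.zpowers t) := by
    intro t ht a
    refine ⟨1, Subtype.ext ?_⟩
    obtain ⟨k, hk⟩ := Subgroup.mem_zpowers_iff.mp a.2
    rw [SubgroupClass.coe_pow, pow_one, ← hk, ← zpow_natCast, ← zpow_mul, mul_comm, zpow_mul,
      zpow_natCast, ht, one_zpow]
    rfl
  obtain ⟨P, hP⟩ := (hpg ⟨y, hy⟩ (Subtype.ext hy5)).exists_le_sylow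
  obtain ⟨Q, hQ⟩ := (hpg ⟨x, hx⟩ (Subtype.ext hx5)).exists_le_sylow
  obtain ⟨g, hg⟩ := MulAction.exists_smul_eq G Q P
  have hxP : g * ⟨x, hx⟩ * g⁻¹ ∈ P := by
    rw [← hg]
    exact ⟨⟨x, hx⟩, hQ (Subgroup.mem_zpowers _), rfl⟩
  haveI : Nontrivial (P : Subgroup G) := by
    refine ⟨⟨⟨⟨y, hy⟩, hP (Subgroup.mem_zpowers _)⟩, 1, fun h => hy1 ?_⟩⟩
    exact congrArg (fun t : (P : Subgroup G) => ((t : G) : GL ι F)) h
  haveI := P.2.center_nontrivial
  have hdvd : 5 ∣ Nat.card (Subgroup.center (P : Subgroup G)) := by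
    obtain ⟨n, hn0, hn⟩ := (P.2.to_subgroup (Subgroup.center (P : Subgroup G))).nontrivial_iff_card.mp
      inferInstance
    rw [hn]; exact dvd_pow_self 5 (by omega)
  obtain ⟨z, hz⟩ := exists_prime_orderOf_dvd_card' 5 hdvd
  set z' : GL ι F := (((z : (P : Subgroup G)) : G) : GL ι F) with hz'
  have hz5 : z' ^ 5 = 1 := by
    have := congrArg (fun t : Subgroup.center (P : Subgroup G) =>
      (((t : (P : Subgroup G)) : G) : GL ι F)) (hz ▸ pow_orderOf_eq_one z)
    simpa [hz'] using this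
  have hz1 : z' ≠ 1 := by
    intro h
    have : z = 1 := Subtype.ext (Subtype.ext (Subtype.ext h))
    rw [this, orderOf_one] at hz
    omega
  have hcomm : ∀ t : G, t ∈ P → Commute (t : GL ι F) z' := fun t ht =>
    congrArg (fun s : (P : Subgroup G) => ((s : G) : GL ι F))
      (Subgroup.mem_center_iff.mp z.2 ⟨t, ht⟩)
  have hzG : z' ∈ G := ((z : (P : Subgroup G)) : G).2
  have h1 := mem_zpowers_of_commute h5 H hy hzG hy5 hz5 hz1 (hcomm _ (hP (Subgroup.mem_zpowers _)))
  have h2 : (g : GL ι F) * x * (g : GL ι F)⁻¹ ∈ Subgroup.zpowers z' :=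
    mem_zpowers_of_commute h5 H (G.mul_mem (G.mul_mem g.2 hx) (G.inv_mem g.2)) hzG
      (by rw [conj_pow, hx5, mul_one, mul_inv_cancel]) hz5 hz1
      (hcomm _ hxP)
  refine ⟨(g : GL ι F)⁻¹, G.inv_mem g.2, ?_⟩
  have hzy : z' ∈ Subgroup.zpowers y := by
    obtain ⟨k, hk⟩ := Subgroup.mem_zpowers_iff.mp h1
    have hcop : IsCoprime k (5 : ℤ) := by
      refine ((Prime.coprime_iff_not_dvd (by norm_num)).mpr fun hd => ?_).symm
      obtain ⟨m, rfl⟩ := hd
      refine hy1 ?_
      rw [← hk, zpow_mul]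
      rw [show z' ^ (5 : ℤ) = z' ^ 5 from zpow_natCast z' 5, hz5, one_zpow]
    obtain ⟨u, v, huv⟩ := hcop
    refine Subgroup.mem_zpowers_iff.mpr ⟨u, ?_⟩
    rw [← hk, ← zpow_mul, show k * u = 1 - v * 5 by linear_combination huv, zpow_sub, zpow_one,
      mul_comm v 5, zpow_mul, show z' ^ (5 : ℤ) = z' ^ 5 from zpow_natCast z' 5, hz5, one_zpow]
    simp
  rw [inv_inv]
  exact (Subgroup.zpowers_le.mpr hzy) h2

section closure

variable [Fintype F] {p : ℕ} [Fact p.Prime] [CharP F p]

omit [Fintype F] in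
/-- If the eigenvalues are closed under a power generating the units modulo five, an element of
order five with a fixed vector is trivial. -/
theorem eq_one_of_closed (hι : Fintype.card ι = 4) (h5 : (5 : F) ≠ 0) {y : GL ι F} (hy : y ^ 5 = 1)
    (hfix : ((y : Mat) - 1).det = 0) {k : ℕ} (hk : k % 5 = 2 ∨ k % 5 = 3)
    (hclosed : ∀ l : AlgebraicClosure F, l ^ 5 = 1 →
      (Matrix.scalar ι l - (y : Mat).map (algebraMap F (AlgebraicClosure F))).det = 0 →
      (Matrix.scalar ι (l ^ k) - (y : Mat).map (algebraMap F (AlgebraicClosure F))).det = 0) :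
    y = 1 := by
  classical
  haveI : Nonempty ι := Fintype.card_pos_iff.mp (by omega)
  set K := AlgebraicClosure F
  set φ := algebraMap F K
  set Y : Matrix ι ι K := (y : Mat).map φ with hY
  have hY5 : Y ^ 5 = 1 := by
    rw [hY, ← RingHom.mapMatrix_apply, ← map_pow, ← Units.val_pow_eq_pow_val, hy, Units.val_one,
      map_one]
  have h1 : (Matrix.scalar ι (1 : K) - Y).det = 0 := by
    have e : Matrix.scalar ι (1 : K) - Y = -(((y : Mat) - 1).map φ) := by
      rw [Matrix.map_sub φ (fun a b => map_sub φ a b), Matrix.map_one _ (map_zero _) (map_one _),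
        map_one, neg_sub]
    rw [e, Matrix.det_neg, ← RingHom.mapMatrix_apply, ← RingHom.map_det, hfix, map_zero, mul_zero]
  have heig : ∀ l : K, (Matrix.scalar ι l - Y).det = 0 → l ^ 5 = 1 := by
    intro l hl
    obtain ⟨v, hv, hv0⟩ := Matrix.exists_mulVec_eq_zero_iff.mpr hl
    rw [Matrix.sub_mulVec, sub_eq_zero] at hv0
    have hl' : Y *ᵥ v = l • v := by
      rw [← hv0]
      funext i
      simp [Matrix.mulVec_diagonal]
    have hn : ∀ n : ℕ, (Y ^ n) *ᵥ v = l ^ n • v := by
      intro n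
      induction n with
      | zero => simp
      | succ n ih => rw [pow_succ', ← Matrix.mulVec_mulVec, ih, Matrix.mulVec_smul, hl', smul_smul,
          ← pow_succ]
    have h := hn 5
    rw [hY5, Matrix.one_mulVec] at h
    exact (smul_left_injective K hv (h.symm.trans (one_smul K v).symm))
  -- every eigenvalue is one
  have hone : ∀ l : K, (Matrix.scalar ι l - Y).det = 0 → l = 1 := by
    intro l hl
    by_contra hl1
    haveI : Fact (Nat.Prime 5) := ⟨by norm_num⟩
    have ho : orderOf l = 5 := orderOf_eq_prime (heig l hl) hl1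
    have hroot : ∀ i : Fin 5, Y.charpoly.eval (l ^ (i : ℕ)) = 0 := by
      have hr : ∀ j, (Matrix.scalar ι (l ^ j) - Y).det = 0 →
          (Matrix.scalar ι (l ^ (j * k % 5)) - Y).det = 0 := fun j hj => by
        have := hclosed _ (by rw [← pow_mul, mul_comm, pow_mul, heig l hl, one_pow]) hj
        rwa [← pow_mul, ← pow_mod_orderOf, ho] at this
      have r1 : (Matrix.scalar ι (l ^ 1) - Y).det = 0 := by rw [pow_one]; exact hl
      have r2 := hr _ r1
      have r3 := hr _ r2
      have r4 := hr _ r3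
      intro i
      rw [Matrix.eval_charpoly]
      rcases hk with hk | hk <;> fin_cases i <;>
        simp only [one_mul, hk, Nat.mul_mod, Nat.mod_mod] at r2 r3 r4 <;>
        norm_num at r2 r3 r4 ⊢ <;> first | exact h1 | (simpa using h1) | exact hl | assumption |
          (simpa using hl)
    have hzero := Polynomial.eq_zero_of_natDegree_lt_card_of_eval_eq_zero Y.charpoly
      (f := fun i : Fin 5 => l ^ (i : ℕ)) (fun a b h => Fin.ext
        (pow_injOn_Iio_orderOf (by simp [ho]) (by simp [ho]) h)) hroot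
      (by rw [Matrix.charpoly_natDegree_eq_dim, hι]; simp)
    exact Y.charpoly_monic.ne_zero hzero
  set S : Matrix ι ι K := ∑ i ∈ Finset.range 5, Y ^ i with hS
  have hSu : IsUnit S := by
    by_contra hns
    have h0 : (0 : K) ∈ spectrum K (Polynomial.aeval Y (∑ i ∈ Finset.range 5, Polynomial.X ^ i : Polynomial K)) := by
      rw [spectrum.zero_mem_iff]
      simpa [hS] using hns
    rw [spectrum.map_polynomial_aeval_of_nonempty _ _
      (Set.nonempty_of_mem (Matrix.mem_spectrum_iff_isRoot_charpoly.mpr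
        (show Y.charpoly.IsRoot 1 by rw [Polynomial.IsRoot, Matrix.eval_charpoly]; exact h1)))] at h0
    obtain ⟨l, hl, hl0⟩ := h0
    have hl' := hone l (by
      rw [← Matrix.eval_charpoly]; exact Matrix.mem_spectrum_iff_isRoot_charpoly.mp hl)
    subst hl'
    simp at hl0
    exact h5 ((algebraMap F K).injective (by rw [map_ofNat, map_zero]; exact hl0))
  have hY1 : Y = 1 := by
    have h := mul_geom_sum Y 5
    rw [hY5, sub_self] at h
    exact sub_eq_zero.mp (hSu.mul_left_eq_zero.mp h)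
  exact Units.ext (Matrix.map_injective φ.injective
    (hY1.trans (Matrix.map_one φ (map_zero _) (map_one _)).symm))

theorem five_ne_zero_of (hp : p % 5 = 2 ∨ p % 5 = 3) : (5 : F) ≠ 0 := by
  intro h
  have h' : ((5 : ℕ) : F) = 0 := by exact_mod_cast h
  rw [CharP.cast_eq_zero_iff F p] at h'
  have := (Nat.prime_dvd_prime_iff_eq Fact.out (by norm_num)).mp h'
  omega

/-- Coefficients in the prime field. -/
theorem eq_one_of_prime_field (hF : Fintype.card F = p) (hι : Fintype.card ι = 4)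
    (hp : p % 5 = 2 ∨ p % 5 = 3) {y : GL ι F} (hy : y ^ 5 = 1) (hfix : ((y : Mat) - 1).det = 0) :
    y = 1 := by
  haveI := charP_of_injective_algebraMap (algebraMap F (AlgebraicClosure F)).injective p
  refine eq_one_of_closed hι (five_ne_zero_of (p := p) hp) hy hfix hp fun l _ hl => ?_
  have h := congrArg (frobenius (AlgebraicClosure F) p) hl
  rw [map_zero, RingHom.map_det, map_sub, RingHom.mapMatrix_apply, RingHom.mapMatrix_apply] at h
  convert h using 3
  · ext a b
    by_cases hab : a = b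
    · subst hab; simp [frobenius_def]
    · simp [hab]
  · ext a b
    simp only [Matrix.map_apply, frobenius_def, ← map_pow]
    rw [← hF, FiniteField.pow_card]

/-- Unitary matrices. -/
theorem eq_one_of_unitary (hF : Fintype.card F = p ^ 2)
    (hp : p % 5 = 2 ∨ p % 5 = 3) {y : GL (Fin 4) F} (hy : y ^ 5 = 1) (hU : y ∈ Cfsg.GU 4 F p)
    (hfix : ((y : Matrix (Fin 4) (Fin 4) F) - 1).det = 0) : y = 1 := by
  haveI := charP_of_injective_algebraMap (algebraMap F (AlgebraicClosure F)).injective p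
  refine eq_one_of_closed (Fintype.card_fin 4) (five_ne_zero_of (p := p) hp) hy hfix (k := 4 * p)
    (by omega) ?_
  set K := AlgebraicClosure F
  intro l hl5 hl
  set Y : Matrix (Fin 4) (Fin 4) K := (y : Matrix (Fin 4) (Fin 4) F).map (algebraMap F K) with hY
  have hYu : Yᵀ * Y.map (frobenius K p) = 1 := by
    ext a b
    have h := Unitary.mem_GU_iff.mp hU (Pi.single a 1) (Pi.single b 1)
    rw [Unitary.herm_std hF] at h
    have h' : ∑ m, (y : Matrix (Fin 4) (Fin 4) F) m a * (y : Matrix (Fin 4) (Fin 4) F) m b ^ p =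
        if a = b then 1 else 0 := by
      simpa [Cfsg.hermForm] using h
    have h'' := congrArg (algebraMap F K) h'
    simp only [map_sum, map_mul, map_pow] at h''
    rw [Matrix.mul_apply]
    simpa [hY, frobenius_def, Matrix.one_apply, apply_ite (algebraMap F K)] using h''
  have h := congrArg (frobenius K p) hl
  rw [map_zero, RingHom.map_det, map_sub, RingHom.mapMatrix_apply, RingHom.mapMatrix_apply] at h
  have e : (Matrix.scalar (Fin 4) l).map (frobenius K p) = Matrix.scalar (Fin 4) (l ^ p) := by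
    ext a b
    by_cases hab : a = b
    · subst hab; simp [frobenius_def]
    · simp [hab]
  rw [e] at h
  have hlp : l ^ p * l ^ (4 * p) = 1 := by
    rw [← pow_add, show p + 4 * p = 5 * p by ring, pow_mul, hl5, one_pow]
  have h2 : (Yᵀ * (Matrix.scalar (Fin 4) (l ^ p) - Y.map (frobenius K p))).det = 0 := by
    rw [Matrix.det_mul, h, mul_zero]
  rw [mul_sub, hYu] at h2
  have e2 : Yᵀ * Matrix.scalar (Fin 4) (l ^ p) - 1 =
      -((l ^ p) • (Matrix.scalar (Fin 4) (l ^ (4 * p)) - Y)ᵀ) := by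
    ext a b
    by_cases hab : a = b
    · subst hab; simp [mul_sub, hlp, mul_comm]; rw [mul_comm p 4]; exact hlp.symm
    · simp [hab, Ne.symm hab, mul_comm, hY]
  rw [e2, Matrix.det_neg, Matrix.det_smul, Matrix.det_transpose] at h2
  have hne : l ^ p ≠ 0 := left_ne_zero_of_mul_eq_one hlp
  simpa [hne] using h2

end closure

end Cfsg.Agent.Lib.Elusive19.Pauli4.Five
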