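/-
Four generators of a group of symplectic type in dimension four, and the sixteen words in them.
-/
import Mathlib.LinearAlgebra.Matrix.GeneralLinearGroup.Defs
import Mathlib.LinearAlgebra.Matrix.Trace
import Mathlib.LinearAlgebra.FreeModule.Finite.Matrix
import Mathlib.LinearAlgebra.FiniteDimensional.Lemmas
import Mathlib.Algebra.Field.ZMod
import Mathlib.Data.ZMod.Basic
import Mathlib.Tactic.NoncommRing
import Mathlib.Tactic.LinearCombination
import Mathlib.Tactic.Ring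
import Mathlib.Tactic.FinCases
import Mathlib.Tactic.Group

set_option autoImplicit false

namespace Cfsg.Agent.Lib.Elusive19.Pauli4

open scoped Matrix MatrixGroups

/-- The index set of the words. -/
abbrev E := ZMod 2 × ZMod 2 × ZMod 2 × ZMod 2

/-- The cocycle. -/
def cs (w u : E) : ZMod 2 :=
  w.2.1 * u.1 + w.2.2.2 * u.2.2.1 + w.2.2.1 * u.2.2.1 + w.2.2.2 * u.2.2.2

/-- The square of a word. -/
def qf (w : E) : ZMod 2 := cs w w

/-- The commutation form. -/
def bf (w u : E) : ZMod 2 := cs w u + cs u w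

theorem bf_nondeg : ∀ w : E, w ≠ 0 → ∃ u, bf w u = 1 := by decide

theorem bf_signs : ∀ e₁ e₂ e₃ e₄ : ZMod 2, ∃ v : E, bf v (1, 0, 0, 0) = e₁ ∧ bf v (0, 1, 0, 0) = e₂ ∧
    bf v (0, 0, 1, 0) = e₃ ∧ bf v (0, 0, 0, 1) = e₄ := by decide

theorem card_E : Fintype.card E = 16 := rfl

variable {F : Type*} [Field F]

/-- The sign. -/
def sgn (z : ZMod 2) : F := if z = 0 then 1 else -1

@[simp] theorem sgn_zero : (sgn 0 : F) = 1 := rfl

@[simp] theorem sgn_one : (sgn 1 : F) = -1 := rfl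

theorem two_cases : ∀ z : ZMod 2, z = 0 ∨ z = 1 := by decide

theorem sgn_add (z z' : ZMod 2) : (sgn (z + z') : F) = sgn z * sgn z' := by
  rcases two_cases z with rfl | rfl <;> rcases two_cases z' with rfl | rfl <;>
    simp [show (1 : ZMod 2) + 1 = 0 from rfl]

theorem sgn_sq (z : ZMod 2) : (sgn z : F) * sgn z = 1 := by
  rcases two_cases z with rfl | rfl <;> simp

theorem sgn_ne_zero (z : ZMod 2) : (sgn z : F) ≠ 0 := fun h => by
  simpa [h] using sgn_sq (F := F) z

theorem sgn_injective (h2 : (2 : F) ≠ 0) {z z' : ZMod 2} (h : (sgn z : F) = sgn z') : z = z' := by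
  rcases two_cases z with rfl | rfl <;> rcases two_cases z' with rfl | rfl <;> simp at h ⊢
  · exact h2 (by linear_combination h)
  · exact h2 (by linear_combination -h)

theorem exists_sgn {x : F} (hx : x * x = 1) : ∃ z : ZMod 2, x = sgn z := by
  rcases mul_self_eq_one_iff.mp hx with rfl | rfl
  · exact ⟨0, rfl⟩
  · exact ⟨1, rfl⟩

variable {ι : Type} [Fintype ι] [DecidableEq ι]

local notation "Mat" => Matrix ι ι F

theorem pair_mul {A B : Mat} {ε : F} (hA : A * A = ε • 1) (hB : B * B = ε • 1) (hBA : B * A = -(A * B))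
    (x y x' y' : ZMod 2) : A ^ x.val * B ^ y.val * (A ^ x'.val * B ^ y'.val) =
      (sgn (y * x') * (if x * x' = 0 then 1 else ε) * (if y * y' = 0 then 1 else ε)) •
        (A ^ (x + x').val * B ^ (y + y').val) := by
  have e1 : B * (A * B) = (-ε) • A := by
    rw [← mul_assoc, hBA, neg_mul, mul_assoc, hB, mul_smul_comm, mul_one, neg_smul]
  have e2 : A * (B * A) = (-ε) • B := by
    rw [hBA, mul_neg, ← mul_assoc, hA, smul_mul_assoc, one_mul, neg_smul]
  have e3 : A * (A * B) = ε • B := by rw [← mul_assoc, hA, smul_mul_assoc, one_mul]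
  rcases two_cases x with rfl | rfl <;> rcases two_cases y with rfl | rfl <;>
    rcases two_cases x' with rfl | rfl <;> rcases two_cases y' with rfl | rfl <;>
    simp [show (1 : ZMod 2) + 1 = 0 from rfl, ZMod.val_one, mul_assoc, hA, hB, hBA, e1, e2, e3,
      smul_smul, neg_smul, mul_neg, neg_mul, mul_smul_comm]

/-- Generators. -/
structure Quad (R : Subgroup (GL ι F)) where
  a1 : GL ι F
  b1 : GL ι F
  a2 : GL ι F
  b2 : GL ι F
  a1_mem : a1 ∈ R
  b1_mem : b1 ∈ R
  a2_mem : a2 ∈ R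
  b2_mem : b2 ∈ R
  a1_sq : (a1 : Mat) * a1 = 1
  b1_sq : (b1 : Mat) * b1 = 1
  a2_sq : (a2 : Mat) * a2 = -1
  b2_sq : (b2 : Mat) * b2 = -1
  anti1 : (b1 : Mat) * a1 = -((a1 : Mat) * b1)
  anti2 : (b2 : Mat) * a2 = -((a2 : Mat) * b2)
  c_aa : Commute (a1 : Mat) a2
  c_ab : Commute (a1 : Mat) b2
  c_ba : Commute (b1 : Mat) a2
  c_bb : Commute (b1 : Mat) b2

namespace Quad

variable {R : Subgroup (GL ι F)} (Q : Quad R)

/-- The words. -/
def W (w : E) : GL ι F :=
  Q.a1 ^ w.1.val * Q.b1 ^ w.2.1.val * (Q.a2 ^ w.2.2.1.val * Q.b2 ^ w.2.2.2.val)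

/-- The words as matrices. -/
def Wm (w : E) : Mat := (Q.W w : Mat)

theorem W_mem (w : E) : Q.W w ∈ R :=
  R.mul_mem (R.mul_mem (R.pow_mem Q.a1_mem _) (R.pow_mem Q.b1_mem _))
    (R.mul_mem (R.pow_mem Q.a2_mem _) (R.pow_mem Q.b2_mem _))

theorem Wm_zero : Q.Wm 0 = 1 := by simp [Wm, W]

theorem Wm_ne_zero [Nonempty ι] (w : E) : Q.Wm w ≠ 0 := (Q.W w).ne_zero

theorem Wm_mul (w u : E) : Q.Wm w * Q.Wm u = (sgn (cs w u) : F) • Q.Wm (w + u) := by
  obtain ⟨x₁, y₁, x₂, y₂⟩ := w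
  obtain ⟨x₁', y₁', x₂', y₂'⟩ := u
  simp only [Wm, W, Units.val_mul, Units.val_pow_eq_pow_val, Prod.mk_add_mk]
  have hc : Commute ((Q.a2 : Mat) ^ x₂.val * (Q.b2 : Mat) ^ y₂.val)
      ((Q.a1 : Mat) ^ x₁'.val * (Q.b1 : Mat) ^ y₁'.val) :=
    Commute.mul_left
      (Commute.mul_right (Q.c_aa.symm.pow_pow _ _) (Q.c_ba.symm.pow_pow _ _))
      (Commute.mul_right (Q.c_ab.symm.pow_pow _ _) (Q.c_bb.symm.pow_pow _ _))
  rw [hc.mul_mul_mul_comm,
    pair_mul (ε := (1 : F)) (by rw [Q.a1_sq, one_smul]) (by rw [Q.b1_sq, one_smul]) Q.anti1,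
    pair_mul (ε := (-1 : F)) (by rw [Q.a2_sq, neg_one_smul]) (by rw [Q.b2_sq, neg_one_smul]) Q.anti2,
    smul_mul_assoc, mul_smul_comm, smul_smul]
  congr 1
  simp only [cs, sgn_add, ite_self, mul_one]
  simp only [sgn]
  ring

theorem Wm_comm (w u : E) : Q.Wm w * Q.Wm u = (sgn (bf w u) : F) • (Q.Wm u * Q.Wm w) := by
  rw [Wm_mul, Wm_mul, smul_smul, bf, sgn_add, mul_assoc, sgn_sq, mul_one, add_comm u w]

theorem trace_Wm (h2 : (2 : F) ≠ 0) {w : E} (hw : w ≠ 0) : (Q.Wm w).trace = 0 := by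
  obtain ⟨u, hu⟩ := bf_nondeg w hw
  have h := congrArg (fun M => (M * ((Q.W u)⁻¹ : GL ι F).val).trace) (Q.Wm_comm w u)
  simp only [hu, sgn_one, neg_one_smul, neg_mul, Matrix.trace_neg] at h
  rw [mul_assoc, show Q.Wm u * ((Q.W u)⁻¹ : GL ι F).val = 1 from (Q.W u).mul_inv, mul_one,
    Matrix.trace_mul_cycle, show ((Q.W u)⁻¹ : GL ι F).val * Q.Wm u = 1 from (Q.W u).inv_mul,
    one_mul] at h
  exact mul_left_cancel₀ h2 (by linear_combination h)

section dim

variable (hι : Fintype.card ι = 4) (h2 : (2 : F) ≠ 0)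

include hι h2

theorem linearIndependent : LinearIndependent F Q.Wm := by
  rw [Fintype.linearIndependent_iff]
  intro a ha v
  have h := congrArg (fun M => (M * Q.Wm v).trace) ha
  simp only [Finset.sum_mul, smul_mul_assoc, Wm_mul, smul_smul, Matrix.trace_sum, Matrix.trace_smul,
    zero_mul, Matrix.trace_zero] at h
  rw [Finset.sum_eq_single v] at h
  · have hv : v + v = 0 := by
      have key : ∀ v : E, v + v = 0 := by decide
      exact key v
    rw [hv, Wm_zero, Matrix.trace_one, hι, smul_eq_mul] at h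
    have h4 : ((4 : ℕ) : F) ≠ 0 := by
      have e : ((4 : ℕ) : F) = 2 * 2 := by norm_num
      rw [e]; exact mul_ne_zero h2 h2
    exact ((mul_eq_zero.mp ((mul_eq_zero.mp h).resolve_right h4)).resolve_right (sgn_ne_zero _))
  · intro u _ hu
    have key : ∀ u v : E, u ≠ v → u + v ≠ 0 := by decide
    rw [Q.trace_Wm h2 (key u v hu), smul_zero]
  · simp

/-- The basis of words. -/
noncomputable def basis : Module.Basis E F Mat :=
  haveI : Nonempty ι := Fintype.card_pos_iff.mp (by omega)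
  basisOfLinearIndependentOfCardEqFinrank (Q.linearIndependent hι h2)
    (by rw [Module.finrank_matrix, Module.finrank_self, hι, card_E])

theorem basis_apply (w : E) : Q.basis hι h2 w = Q.Wm w := by simp [basis]

theorem sum_repr (M : Mat) : ∑ w, (Q.basis hι h2).repr M w • Q.Wm w = M := by
  conv_rhs => rw [← (Q.basis hι h2).sum_repr M]
  simp [basis_apply]

/-- A matrix commuting with the four generators is scalar. -/
theorem scalar_of_commute {M : Mat} (h1 : Commute M Q.a1) (h1' : Commute M Q.b1) (h2' : Commute M Q.a2)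
    (h2'' : Commute M Q.b2) : ∃ c : F, M = c • 1 := by
  have hall : ∀ w, Commute M (Q.Wm w) := fun w => by
    simp only [Wm, W, Units.val_mul, Units.val_pow_eq_pow_val]
    exact ((h1.pow_right _).mul_right (h1'.pow_right _)).mul_right
      ((h2'.pow_right _).mul_right (h2''.pow_right _))
  refine ⟨(Q.basis hι h2).repr M 0, ?_⟩
  conv_lhs => rw [← Q.sum_repr hι h2 M]
  rw [Finset.sum_eq_single 0]
  · rw [Wm_zero]
  · intro w _ hw
    obtain ⟨u, hu⟩ := bf_nondeg w hw
    suffices (Q.basis hι h2).repr M w = 0 by rw [this, zero_smul]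
    have h : ∑ v, ((Q.basis hι h2).repr M v * (1 - sgn (bf u v))) • (Q.Wm v * Q.Wm u) = 0 := by
      simp only [mul_sub, mul_one, sub_smul, Finset.sum_sub_distrib]
      rw [sub_eq_zero]
      calc ∑ v, (Q.basis hι h2).repr M v • (Q.Wm v * Q.Wm u) = M * Q.Wm u := by
            conv_rhs => rw [← Q.sum_repr hι h2 M]
            rw [Finset.sum_mul]
            simp only [smul_mul_assoc]
        _ = Q.Wm u * M := (hall u).eq
        _ = _ := by
            conv_lhs => rw [← Q.sum_repr hι h2 M]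
            rw [Finset.mul_sum]
            refine Finset.sum_congr rfl fun v _ => ?_
            rw [mul_smul_comm, Q.Wm_comm u v, smul_smul]
    simp only [Wm_mul, smul_smul] at h
    have hli : LinearIndependent F (fun v => Q.Wm (v + u)) :=
      (Q.linearIndependent hι h2).comp _ (add_left_injective u)
    have h0 := Fintype.linearIndependent_iff.mp hli _ h w
    have hb : bf u w = 1 := by rw [← hu, bf, bf, add_comm]
    rw [hb, sgn_one, sub_neg_eq_add] at h0
    exact (mul_eq_zero.mp ((mul_eq_zero.mp h0).resolve_right (sgn_ne_zero _))).resolve_right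
      fun h => h2 (by linear_combination h)
  · simp

/-- An element commuting with each generator up to sign is a multiple of a word. -/
theorem exists_word {x : GL ι F} {e₁ e₂ e₃ e₄ : ZMod 2}
    (h1 : (x : Mat) * Q.a1 = (sgn e₁ : F) • ((Q.a1 : Mat) * x))
    (h1' : (x : Mat) * Q.b1 = (sgn e₂ : F) • ((Q.b1 : Mat) * x))
    (h2' : (x : Mat) * Q.a2 = (sgn e₃ : F) • ((Q.a2 : Mat) * x))
    (h2'' : (x : Mat) * Q.b2 = (sgn e₄ : F) • ((Q.b2 : Mat) * x)) :
    ∃ (v : E) (c : F), c ≠ 0 ∧ (x : Mat) = c • Q.Wm v := by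
  haveI : Nonempty ι := Fintype.card_pos_iff.mp (by omega)
  obtain ⟨v, v1, v2, v3, v4⟩ := bf_signs e₁ e₂ e₃ e₄
  have key : ∀ (u : E) (e : ZMod 2), (x : Mat) * Q.Wm u = (sgn e : F) • (Q.Wm u * x) → bf v u = e →
      Commute ((((Q.W v)⁻¹ : GL ι F) : Mat) * x) (Q.Wm u) := by
    intro u e hxu hvu
    have h : ((Q.W v)⁻¹ : GL ι F).val * Q.Wm u = (sgn e : F) • (Q.Wm u * ((Q.W v)⁻¹ : GL ι F).val) := by
      have hv := congrArg (fun M => ((Q.W v)⁻¹ : GL ι F).val * M * ((Q.W v)⁻¹ : GL ι F).val)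
        (Q.Wm_comm v u)
      simp only [hvu, mul_smul_comm, smul_mul_assoc] at hv
      rw [← mul_assoc, show ((Q.W v)⁻¹ : GL ι F).val * Q.Wm v = 1 from (Q.W v).inv_mul, one_mul,
        mul_assoc, mul_assoc, show Q.Wm v * ((Q.W v)⁻¹ : GL ι F).val = 1 from (Q.W v).mul_inv,
        mul_one] at hv
      rw [hv, smul_smul, sgn_sq, one_smul]
    show _ * _ = _ * _
    rw [mul_assoc, hxu, mul_smul_comm, ← mul_assoc, h, smul_mul_assoc, smul_smul, sgn_sq, one_smul,
      mul_assoc]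
  have g1 : Q.Wm (1, 0, 0, 0) = (Q.a1 : Mat) := by simp [Wm, W, ZMod.val_one]
  have g2 : Q.Wm (0, 1, 0, 0) = (Q.b1 : Mat) := by simp [Wm, W, ZMod.val_one]
  have g3 : Q.Wm (0, 0, 1, 0) = (Q.a2 : Mat) := by simp [Wm, W, ZMod.val_one]
  have g4 : Q.Wm (0, 0, 0, 1) = (Q.b2 : Mat) := by simp [Wm, W, ZMod.val_one]
  obtain ⟨c, hc⟩ := Q.scalar_of_commute hι h2
    (g1 ▸ key _ e₁ (by rw [g1]; exact h1) v1) (g2 ▸ key _ e₂ (by rw [g2]; exact h1') v2)
    (g3 ▸ key _ e₃ (by rw [g3]; exact h2') v3) (g4 ▸ key _ e₄ (by rw [g4]; exact h2'') v4)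
  have hx : (x : Mat) = c • Q.Wm v := by
    have h := congrArg (fun M => Q.Wm v * M) hc
    simp only [mul_smul_comm, mul_one] at h
    rwa [← mul_assoc, show Q.Wm v * ((Q.W v)⁻¹ : GL ι F).val = 1 from (Q.W v).mul_inv, one_mul] at h
  refine ⟨v, c, fun h0 => x.ne_zero ?_, hx⟩
  rw [hx, h0, zero_smul]

/-- Multiples of different words differ. -/
theorem word_inj {c d : F} {v w : E} (hc : c ≠ 0) (h : c • Q.Wm v = d • Q.Wm w) : v = w ∧ c = d := by
  have h' := congrArg (fun M => (Q.basis hι h2).repr M v) h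
  simp only [← Q.basis_apply hι h2, map_smul, Module.Basis.repr_self, Finsupp.smul_apply,
    Finsupp.single_eq_same, smul_eq_mul, mul_one] at h'
  by_cases hvw : v = w
  · subst hvw
    exact ⟨rfl, by simpa using h'⟩
  · rw [Finsupp.single_eq_of_ne hvw, mul_zero] at h'
    exact absurd h' hc

end dim

end Quad

end Cfsg.Agent.Lib.Elusive19.Pauli4
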