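/-
The permutation of the sixteen words induced by an element normalizing the group, the size of
its commutant and its trace.
-/
import Cfsg.Agent.Lib.Elusive19.Pauli4.Frame
import Cfsg.Agent.Lib.Flavell19.Perm
import Mathlib.GroupTheory.Coset.Card

set_option autoImplicit false

namespace Cfsg.Agent.Lib.Elusive19.Pauli4

open scoped Matrix MatrixGroups

variable {F : Type*} [Field F] {ι : Type} [Fintype ι] [DecidableEq ι]

local notation "Mat" => Matrix ι ι F

/-- `g` permutes the words up to scalars. -/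
structure Act {R : Subgroup (GL ι F)} (Q : Quad R) (g : GL ι F) where
  σ : Equiv.Perm E
  t : E → F
  t_ne : ∀ w, t w ≠ 0
  eq : ∀ w, (g : Mat) * Q.Wm w = t w • (Q.Wm (σ w) * g)
  add : ∀ w u, σ (w + u) = σ w + σ u

namespace Quad

variable {R : Subgroup (GL ι F)} (Q : Quad R) (hι : Fintype.card ι = 4) (h2 : (2 : F) ≠ 0)

include hι h2

/-- Everything in the group is a multiple of a word. -/
theorem exists_word_of_pm (hpm : ∀ x ∈ R, ∀ y ∈ R, (x : Mat) * y = y * x ∨ (x : Mat) * y = -(y * x))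
    {x : GL ι F} (hx : x ∈ R) : ∃ (v : E) (c : F), c ≠ 0 ∧ (x : Mat) = c • Q.Wm v := by
  have key : ∀ y ∈ R, ∃ e : ZMod 2, (x : Mat) * y = (sgn e : F) • ((y : Mat) * x) := fun y hy => by
    rcases hpm x hx y hy with h | h
    · exact ⟨0, by rw [sgn_zero, one_smul, h]⟩
    · exact ⟨1, by rw [sgn_one, neg_one_smul, h]⟩
  obtain ⟨e₁, h1⟩ := key _ Q.a1_mem
  obtain ⟨e₂, h2'⟩ := key _ Q.b1_mem
  obtain ⟨e₃, h3⟩ := key _ Q.a2_mem
  obtain ⟨e₄, h4⟩ := key _ Q.b2_mem
  exact Q.exists_word hι h2 h1 h2' h3 h4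

theorem add_right_cancel_word {c d : F} {v w : E} {g : GL ι F} (hc : c ≠ 0)
    (h : c • (Q.Wm v * g) = d • (Q.Wm w * g)) : v = w ∧ c = d := by
  refine Q.word_inj hι h2 hc ?_
  have h' := congrArg (fun M => M * ((g⁻¹ : GL ι F) : Mat)) h
  simpa [smul_mul_assoc, mul_assoc] using h'

/-- The action of an element of the normalizer. -/
theorem exists_act (hgen : ∀ x ∈ R, ∃ (v : E) (c : F), c ≠ 0 ∧ (x : Mat) = c • Q.Wm v) {g : GL ι F}
    (hg : g ∈ Subgroup.normalizer (R : Set (GL ι F))) : Nonempty (Act Q g) := by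
  classical
  have hex : ∀ w, ∃ (v : E) (c : F), c ≠ 0 ∧ (g : Mat) * Q.Wm w = c • (Q.Wm v * g) := by
    intro w
    obtain ⟨v, c, hc, h⟩ := hgen _ ((Subgroup.mem_normalizer_iff.mp hg _).mp (Q.W_mem w))
    refine ⟨v, c, hc, ?_⟩
    have h' := congrArg (fun M => M * (g : Mat)) h
    simpa [Quad.Wm, smul_mul_assoc, mul_assoc] using h'
  choose σ t ht heq using hex
  have hinj : Function.Injective σ := by
    intro w u h
    have h1 : t u • ((g : Mat) * Q.Wm w) = t w • ((g : Mat) * Q.Wm u) := by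
      rw [heq, heq, h, smul_smul, smul_smul, mul_comm]
    rw [← mul_smul_comm, ← mul_smul_comm] at h1
    exact (Q.word_inj hι h2 (ht u) (g.isUnit.mul_left_cancel h1)).1
  refine ⟨⟨Equiv.ofBijective σ (Finite.injective_iff_bijective.mp hinj), t, ht, heq, fun w u => ?_⟩⟩
  have h1 : (g : Mat) * (Q.Wm w * Q.Wm u) = (t w * t u) • (Q.Wm (σ w) * Q.Wm (σ u) * g) := by
    rw [← mul_assoc, heq, smul_mul_assoc, mul_assoc, heq, mul_smul_comm, smul_smul, ← mul_assoc]
  rw [Quad.Wm_mul, Quad.Wm_mul, mul_smul_comm, heq, smul_smul, smul_mul_assoc, smul_smul] at h1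
  exact (Q.add_right_cancel_word hι h2 (mul_ne_zero (sgn_ne_zero _) (ht _)) h1).1

end Quad

namespace Act

variable {R : Subgroup (GL ι F)} {Q : Quad R} {g : GL ι F} (A : Act Q g)

theorem σ_zero : A.σ 0 = 0 := by
  have h := A.add 0 0
  rw [add_zero] at h
  simpa using h

theorem pow_eq (n : ℕ) (w : E) : ∃ c : F, c ≠ 0 ∧
    ((g ^ n : GL ι F) : Mat) * Q.Wm w = c • (Q.Wm ((A.σ ^ n) w) * ((g ^ n : GL ι F) : Mat)) := by
  induction n with
  | zero => exact ⟨1, one_ne_zero, by simp⟩
  | succ n ih =>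
    obtain ⟨c, hc, h⟩ := ih
    refine ⟨c * A.t ((A.σ ^ n) w), mul_ne_zero hc (A.t_ne _), ?_⟩
    rw [pow_succ' g, Units.val_mul, mul_assoc, h, mul_smul_comm, ← mul_assoc, A.eq, smul_mul_assoc,
      smul_smul, mul_assoc, pow_succ' A.σ]
    rfl

section dim

variable (hι : Fintype.card ι = 4) (h2 : (2 : F) ≠ 0)

include hι h2

theorem σ_pow_eq_one {r : ℕ} {z : F} (hz : ((g ^ r : GL ι F) : Mat) = z • 1) : A.σ ^ r = 1 := by
  refine Equiv.ext fun w => ?_
  obtain ⟨c, hc, h⟩ := A.pow_eq r w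
  have hz0 : z ≠ 0 := fun h0 => by
    haveI : Nonempty ι := Fintype.card_pos_iff.mp (by omega)
    exact (g ^ r).ne_zero (by rw [hz, h0, zero_smul])
  rw [hz, smul_mul_assoc, one_mul, mul_smul_comm, mul_one, smul_smul] at h
  exact (Q.word_inj hι h2 hz0 h).1.symm

/-- With `g` of odd order modulo scalars, a trivial permutation means that `g` is scalar. -/
theorem scalar_of_trivial (hσ : A.σ = 1) {r : ℕ} (hr : Odd r) {z : F}
    (hz : ((g ^ r : GL ι F) : Mat) = z • 1) : ∃ c : F, (g : Mat) = c • 1 := by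
  have hkey : ∀ w : E, ∃ e : ZMod 2, (g : Mat) * Q.Wm w = (sgn e : F) • (Q.Wm w * g) := by
    intro w
    have h1 := A.eq w
    rw [hσ, Equiv.Perm.one_apply] at h1
    have h2' : (g : Mat) * (Q.Wm w * Q.Wm w) = (A.t w * A.t w) • (Q.Wm w * Q.Wm w * g) := by
      rw [← mul_assoc, h1, smul_mul_assoc, mul_assoc, h1, mul_smul_comm, smul_smul, ← mul_assoc]
    have hww : w + w = 0 := by
      have key : ∀ w : E, w + w = 0 := by decide
      exact key w
    rw [Quad.Wm_mul, hww, Quad.Wm_zero, mul_smul_comm, mul_one, smul_mul_assoc, one_mul,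
      smul_smul] at h2'
    have h3 : A.t w * A.t w = 1 := by
      have h4 : (1 * sgn (cs w w) : F) • (g : Mat) = (A.t w * A.t w * sgn (cs w w)) • (g : Mat) := by
        rw [one_mul]; exact h2'
      haveI : Nonempty ι := Fintype.card_pos_iff.mp (by omega)
      exact (mul_right_cancel₀ (sgn_ne_zero _) (smul_left_injective F g.ne_zero h4)).symm
    obtain ⟨e, he⟩ := exists_sgn h3
    exact ⟨e, by rw [← he]; exact h1⟩
  have g1 : Q.Wm (1, 0, 0, 0) = (Q.a1 : Mat) := by simp [Quad.Wm, Quad.W, ZMod.val_one]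
  have g2 : Q.Wm (0, 1, 0, 0) = (Q.b1 : Mat) := by simp [Quad.Wm, Quad.W, ZMod.val_one]
  have g3 : Q.Wm (0, 0, 1, 0) = (Q.a2 : Mat) := by simp [Quad.Wm, Quad.W, ZMod.val_one]
  have g4 : Q.Wm (0, 0, 0, 1) = (Q.b2 : Mat) := by simp [Quad.Wm, Quad.W, ZMod.val_one]
  obtain ⟨e₁, h1⟩ := hkey (1, 0, 0, 0)
  obtain ⟨e₂, h1'⟩ := hkey (0, 1, 0, 0)
  obtain ⟨e₃, h3⟩ := hkey (0, 0, 1, 0)
  obtain ⟨e₄, h4⟩ := hkey (0, 0, 0, 1)
  rw [g1] at h1; rw [g2] at h1'; rw [g3] at h3; rw [g4] at h4
  obtain ⟨v, c, hc, hv⟩ := Q.exists_word hι h2 h1 h1' h3 h4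
  refine ⟨c, ?_⟩
  obtain ⟨k, rfl⟩ := hr
  have hw : ∀ k : ℕ, ∃ d : F, d ≠ 0 ∧ Q.Wm v ^ (2 * k + 1) = d • Q.Wm v := by
    intro k
    induction k with
    | zero => exact ⟨1, one_ne_zero, by simp⟩
    | succ k ih =>
      obtain ⟨d, hd, hd'⟩ := ih
      refine ⟨d * sgn (cs v v), mul_ne_zero hd (sgn_ne_zero _), ?_⟩
      have hww : v + v = 0 := by
        have key : ∀ v : E, v + v = 0 := by decide
        exact key v
      rw [show 2 * (k + 1) + 1 = 2 * k + 1 + 2 by ring, pow_add, hd', pow_two, Quad.Wm_mul, hww,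
        Quad.Wm_zero, mul_smul_comm, mul_one, smul_smul, mul_comm]
  obtain ⟨d, hd, hd'⟩ := hw k
  rw [Units.val_pow_eq_pow_val, hv, smul_pow, hd', smul_smul, ← Quad.Wm_zero Q] at hz
  obtain ⟨rfl, -⟩ := Q.word_inj hι h2 (mul_ne_zero (pow_ne_zero _ hc) hd) hz
  rw [hv, Quad.Wm_zero]

omit hι h2 in
/-- The fixed words form a subgroup. -/
def fixed : AddSubgroup E where
  carrier := {w | A.σ w = w}
  zero_mem' := A.σ_zero
  add_mem' {a b} (ha : A.σ a = a) (hb : A.σ b = b) := by
    show A.σ (a + b) = a + b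
    rw [A.add, ha, hb]
  neg_mem' {a} (ha : A.σ a = a) := by
    show A.σ (-a) = -a
    have key : ∀ w : E, -w = w := by decide
    rw [key, ha]

omit hι h2 in
theorem card_fixed_cases : Nat.card {w : E // A.σ w = w} ∈ ({1, 2, 4, 8, 16} : Finset ℕ) := by
  have h := AddSubgroup.card_addSubgroup_dvd_card A.fixed
  rw [Nat.card_eq_fintype_card (α := E), card_E, show (16 : ℕ) = 2 ^ 4 by norm_num,
    Nat.dvd_prime_pow Nat.prime_two] at h
  obtain ⟨j, hj, hj'⟩ := h
  have e : Nat.card {w : E // A.σ w = w} = Nat.card A.fixed := rfl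
  rw [e, hj']
  interval_cases j <;> simp

omit hι h2 in
theorem eq_one_of_card (h : Nat.card {w : E // A.σ w = w} = 16) : A.σ = 1 := by
  have htop : A.fixed = ⊤ := AddSubgroup.eq_top_of_card_eq _ (by
    rw [Nat.card_eq_fintype_card (α := E), card_E]; exact h)
  exact Equiv.ext fun w => (htop ▸ AddSubgroup.mem_top w : w ∈ A.fixed)

include A in
/-- Elements of prime order `r ≥ 7` modulo scalars in the normalizer are scalar. -/
theorem scalar_of_large {r : ℕ} (hr : r.Prime) (hr7 : 7 ≤ r) {z : F}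
    (hz : ((g ^ r : GL ι F) : Mat) = z • 1) : ∃ c : F, (g : Mat) = c • 1 := by
  classical
  refine A.scalar_of_trivial hι h2 ?_ (hr.odd_of_ne_two (by omega)) hz
  have hσr := A.σ_pow_eq_one hι h2 hz
  obtain ⟨S, -, hS⟩ := Flavell19.Perm.exists_orbit_reps A.σ hr hσr
  rw [Nat.card_eq_fintype_card (α := E), card_E] at hS
  have hdvd : r ∣ 16 + (r - 1) * Nat.card {w : E // A.σ w = w} := ⟨_, hS.symm⟩
  have hcases := A.card_fixed_cases
  simp only [Finset.mem_insert, Finset.mem_singleton] at hcases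
  by_contra hne
  have h16 : Nat.card {w : E // A.σ w = w} ≠ 16 := fun h => hne (A.eq_one_of_card h)
  have hmod : ∀ f, f ≤ 16 → r ∣ 16 + (r - 1) * f → r ∣ 16 - f := fun f hf hd => by
    have e : 16 + (r - 1) * f = (16 - f) + r * f := by
      obtain ⟨q, rfl⟩ := Nat.exists_eq_add_of_le (show 1 ≤ r by omega)
      rw [Nat.add_sub_cancel_left, add_mul, one_mul]
      omega
    rw [e] at hd
    exact (Nat.dvd_add_iff_left (Dvd.intro f rfl)).mpr hd
  rcases hcases with h | h | h | h | h
  · rw [h] at hdvd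
    rcases hr.dvd_mul.mp (show r ∣ 3 * 5 from hmod 1 (by norm_num) hdvd) with h' | h'
    · have := Nat.le_of_dvd (by norm_num) h'; omega
    · have := Nat.le_of_dvd (by norm_num) h'; omega
  · -- a single fixed point: its perpendicular has eight elements
    rw [h] at hdvd
    have hr7' : r = 7 := by
      rcases hr.dvd_mul.mp (show r ∣ 2 * 7 from hmod 2 (by norm_num) hdvd) with h' | h'
      · have := Nat.le_of_dvd (by norm_num) h'; omega
      · have := Nat.le_of_dvd (by norm_num) h'; omega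
    subst hr7'
    obtain ⟨v, hv, hv0⟩ : ∃ v, A.σ v = v ∧ v ≠ 0 := by
      by_contra hh
      push_neg at hh
      haveI : Subsingleton {w : E // A.σ w = w} :=
        ⟨fun a b => Subtype.ext ((hh a a.2).trans (hh b b.2).symm)⟩
      have := Finite.card_le_one_iff_subsingleton.mpr this
      omega
    have hbf : ∀ w, bf v (A.σ w) = bf v w := by
      intro w
      have h1 : (g : Mat) * (Q.Wm v * Q.Wm w) = (A.t v * A.t w) • (Q.Wm v * Q.Wm (A.σ w) * g) := by
        rw [← mul_assoc, A.eq, hv, smul_mul_assoc, mul_assoc, A.eq, mul_smul_comm, smul_smul,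
          ← mul_assoc]
      have h2' : (g : Mat) * (Q.Wm w * Q.Wm v) = (A.t v * A.t w) • (Q.Wm (A.σ w) * Q.Wm v * g) := by
        rw [← mul_assoc, A.eq, smul_mul_assoc, mul_assoc, A.eq, hv, mul_smul_comm, smul_smul,
          ← mul_assoc, mul_comm]
      rw [Q.Wm_comm v w, mul_smul_comm, h2', Q.Wm_comm v (A.σ w), smul_mul_assoc, smul_smul,
        smul_smul] at h1
      simp only [Quad.Wm_mul, smul_mul_assoc, smul_smul] at h1
      obtain ⟨-, h3⟩ := Q.add_right_cancel_word hι h2 (mul_ne_zero (mul_ne_zero (sgn_ne_zero _)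
        (mul_ne_zero (A.t_ne _) (A.t_ne _))) (sgn_ne_zero _)) h1
      refine (sgn_injective h2 ?_).symm
      exact (mul_left_cancel₀ (mul_ne_zero (A.t_ne v) (A.t_ne w))
        (mul_right_cancel₀ (sgn_ne_zero (cs (A.σ w) v))
          (by rw [mul_comm (A.t v * A.t w) (sgn (bf v w) : F)]; exact h3)))
    let τ : Equiv.Perm {w : E // bf v w = 0} :=
      A.σ.subtypePerm fun w => by rw [hbf]
    have hτ : τ ^ 7 = 1 := by
      have hτ' : ∀ (n : ℕ) (w : {w : E // bf v w = 0}), (((τ ^ n) w : _) : E) = (A.σ ^ n) w := by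
        intro n
        induction n with
        | zero => intro w; rfl
        | succ n ih =>
          intro w
          rw [pow_succ', pow_succ', Equiv.Perm.mul_apply, Equiv.Perm.mul_apply]
          show A.σ _ = A.σ _
          rw [ih]
      refine Equiv.ext fun w => Subtype.ext ?_
      rw [hτ', hσr]; rfl
    obtain ⟨T, -, hT⟩ := Flavell19.Perm.exists_orbit_reps τ hr hτ
    have hP : Nat.card {w : E // bf v w = 0} = 8 := by
      rw [Nat.card_eq_fintype_card]
      have key : ∀ v : E, v ≠ 0 → Fintype.card {w : E // bf v w = 0} = 8 := by decide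
      exact key v hv0
    have hf : Nat.card {w : {w : E // bf v w = 0} // τ w = w} = 2 := by
      refine (Nat.card_congr ?_).trans h
      refine
        { toFun := fun w => ⟨w.1.1, congrArg Subtype.val w.2⟩
          invFun := fun w => ⟨⟨w.1, ?_⟩, Subtype.ext w.2⟩
          left_inv := fun w => rfl
          right_inv := fun w => rfl }
      haveI : Subsingleton {u : {w : E // A.σ w = w} // u.1 ≠ 0} := by
        have hc : Nat.card {u : {w : E // A.σ w = w} // u.1 ≠ 0} < 2 :=
          lt_of_lt_of_eq (Finite.card_subtype_lt (x := ⟨0, A.σ_zero⟩) (by simp)) h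
        exact Finite.card_le_one_iff_subsingleton.mp (by omega)
      have key : ∀ v : E, bf v 0 = 0 ∧ bf v v = 0 := by decide
      by_cases hw0 : w.1 = 0
      · rw [hw0]; exact (key v).1
      · have := congrArg (fun u : {u : {w : E // A.σ w = w} // u.1 ≠ 0} => u.1.1)
          (Subsingleton.elim (⟨w, hw0⟩ : {u : {w : E // A.σ w = w} // u.1 ≠ 0}) ⟨⟨v, hv⟩, hv0⟩)
        simp only at this
        rw [this]; exact (key v).2
    rw [hP, hf] at hT
    omega
  · rw [h] at hdvd
    rcases hr.dvd_mul.mp (show r ∣ 3 * 4 from hmod 4 (by norm_num) hdvd) with h' | h'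
    · have := Nat.le_of_dvd (by norm_num) h'; omega
    · have := Nat.le_of_dvd (by norm_num) h'; omega
  · rw [h] at hdvd
    have h8 : r ∣ 2 ^ 3 := hmod 8 (by norm_num) hdvd
    have := (Nat.prime_dvd_prime_iff_eq hr Nat.prime_two).mp (hr.dvd_of_dvd_pow h8)
    omega
  · exact h16 h

/-- The commutant. -/
noncomputable def commutant (g : GL ι F) : Submodule F Mat :=
  LinearMap.ker (LinearMap.mulLeft F (g : Mat) - LinearMap.mulRight F (g : Mat))

omit hι h2 in
theorem mem_commutant {X : Mat} : X ∈ commutant g ↔ (g : Mat) * X = X * g := by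
  simp [commutant, sub_eq_zero]

theorem finrank_commutant_le (S : Finset E) (hS : ∀ w, ∃ i : ℕ, (A.σ ^ i) w ∈ S) :
    Module.finrank F (commutant g) ≤ S.card := by
  classical
  let B := Q.basis hι h2
  let f : commutant g →ₗ[F] (S → F) :=
    (LinearMap.pi fun w : S => (B.coord w.1)).comp (commutant g).subtype
  have hf : Function.Injective f := by
    refine (injective_iff_map_eq_zero f).mpr fun X hX => ?_
    set a := B.repr (X : Mat) with ha
    have hrel : ∀ w, a (A.σ w) = a w * A.t w := by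
      intro w
      have hgX : ∑ u, (a u * A.t u) • (Q.Wm (A.σ u) * g) = ∑ u, a u • (Q.Wm u * g) := by
        have h := mem_commutant.mp X.2
        rw [← Q.sum_repr hι h2 (X : Mat), Finset.mul_sum, Finset.sum_mul] at h
        simp only [mul_smul_comm, A.eq, smul_smul, smul_mul_assoc] at h
        exact h
      have h' := congrArg (fun M => M * ((g⁻¹ : GL ι F) : Mat)) hgX
      simp only [Finset.sum_mul, smul_mul_assoc, mul_assoc, Units.mul_inv, mul_one] at h'
      rw [← Equiv.sum_comp A.σ (fun u => a u • Q.Wm u), ← sub_eq_zero,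
        ← Finset.sum_sub_distrib] at h'
      simp only [← sub_smul] at h'
      have hli : LinearIndependent F (fun u => Q.Wm (A.σ u)) :=
        (Q.linearIndependent hι h2).comp _ A.σ.injective
      exact (sub_eq_zero.mp (Fintype.linearIndependent_iff.mp hli _ h' w)).symm
    have hall : ∀ (i : ℕ) (w : E), (A.σ ^ i) w ∈ S → a w = 0 := by
      intro i
      induction i with
      | zero => exact fun w h => congrFun hX ⟨w, h⟩
      | succ i ih =>
        intro w h
        rw [pow_succ, Equiv.Perm.mul_apply] at h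
        have := ih _ h
        rw [hrel] at this
        exact (mul_eq_zero.mp this).resolve_right (A.t_ne w)
    refine Subtype.ext ?_
    rw [← Q.sum_repr hι h2 (X : Mat)]
    exact Finset.sum_eq_zero fun w _ => by
      obtain ⟨i, hi⟩ := hS w
      rw [show (Q.basis hι h2).repr (X : Mat) w = 0 from hall i w hi, zero_smul]
  have h := LinearMap.finrank_le_finrank_of_injective hf
  simpa using h

include A in
/-- An element of order three or five modulo scalars: the commutant is small. -/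
theorem commutant_bound {r : ℕ} (hr : r.Prime) (hr35 : r = 3 ∨ r = 5) {z : F}
    (hz : ((g ^ r : GL ι F) : Mat) = z • 1) (hns : ∀ c : F, (g : Mat) ≠ c • 1) :
    (r = 3 → Module.finrank F (commutant g) ≤ 8 ∧
      (Nat.card {w : E // A.σ w = w} = 1 ∨ Nat.card {w : E // A.σ w = w} = 4)) ∧
    (r = 5 → Module.finrank F (commutant g) ≤ 4) := by
  classical
  obtain ⟨S, hS, hcard⟩ := Flavell19.Perm.exists_orbit_reps A.σ hr (A.σ_pow_eq_one hι h2 hz)
  rw [Nat.card_eq_fintype_card (α := E), card_E] at hcard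
  have hle := A.finrank_commutant_le hι h2 S hS
  have hodd : Odd r := by rcases hr35 with rfl | rfl <;> decide
  have h16 : Nat.card {w : E // A.σ w = w} ≠ 16 := fun h => by
    obtain ⟨c, hc⟩ := A.scalar_of_trivial hι h2 (A.eq_one_of_card h) hodd hz
    exact hns c hc
  have hcases := A.card_fixed_cases
  simp only [Finset.mem_insert, Finset.mem_singleton] at hcases
  refine ⟨?_, ?_⟩
  · rintro rfl
    constructor <;> omega
  · rintro rfl
    omega

/-- The product of the traces of `g` and its inverse is the sum over the fixed words. -/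
theorem trace_mul_trace :
    (g : Mat).trace * ((g⁻¹ : GL ι F) : Mat).trace = ∑ w ∈ Finset.univ.filter (fun w => A.σ w = w), A.t w := by
  classical
  set M : Mat := ((g⁻¹ : GL ι F) : Mat) with hM
  have hinv : ∀ w : E, ((Q.W w)⁻¹ : GL ι F).val = (sgn (cs w w) : F) • Q.Wm w := by
    intro w
    have hww : w + w = 0 := by
      have key : ∀ w : E, w + w = 0 := by decide
      exact key w
    refine (Q.W w).inv_eq_of_mul_eq_one_right ?_
    show Q.Wm w * _ = 1
    rw [mul_smul_comm, Quad.Wm_mul, hww, Quad.Wm_zero, smul_smul, sgn_sq, one_smul]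
  set S : Mat := ∑ w, Q.Wm w * M * ((Q.W w)⁻¹ : GL ι F).val with hS
  have hcomm : ∀ u, Commute S (Q.Wm u) := by
    intro u
    show S * Q.Wm u = Q.Wm u * S
    rw [hS, Finset.mul_sum, Finset.sum_mul]
    refine (Fintype.sum_bijective (fun w => u + w) (Equiv.addLeft u).bijective _ _ fun w => ?_).symm
    have key : ∀ u w : E, cs (u + w) (u + w) + cs u w + cs (u + w) u = cs w w := by decide
    have huw : u + w + u = w := by
      have key' : ∀ u w : E, u + w + u = w := by decide
      exact key' u w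
    rw [hinv, hinv]
    simp only [mul_smul_comm, smul_mul_assoc, mul_assoc]
    rw [Quad.Wm_mul, huw, ← mul_assoc (Q.Wm u) (Q.Wm w), Quad.Wm_mul]
    simp only [smul_mul_assoc, mul_smul_comm, smul_smul]
    congr 1
    rw [← key u w, sgn_add, sgn_add]
    linear_combination (sgn (cs (u + w) (u + w)) * sgn (cs (u + w) u) : F) * sgn_sq (F := F) (cs u w)
  have g1 : Q.Wm (1, 0, 0, 0) = (Q.a1 : Mat) := by simp [Quad.Wm, Quad.W, ZMod.val_one]
  have g2 : Q.Wm (0, 1, 0, 0) = (Q.b1 : Mat) := by simp [Quad.Wm, Quad.W, ZMod.val_one]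
  have g3 : Q.Wm (0, 0, 1, 0) = (Q.a2 : Mat) := by simp [Quad.Wm, Quad.W, ZMod.val_one]
  have g4 : Q.Wm (0, 0, 0, 1) = (Q.b2 : Mat) := by simp [Quad.Wm, Quad.W, ZMod.val_one]
  obtain ⟨c, hc⟩ := Q.scalar_of_commute hι h2 (g1 ▸ hcomm (1, 0, 0, 0)) (g2 ▸ hcomm (0, 1, 0, 0))
    (g3 ▸ hcomm (0, 0, 1, 0)) (g4 ▸ hcomm (0, 0, 0, 1))
  have h4 : (4 : F) ≠ 0 := by
    rw [show (4 : F) = 2 * 2 by norm_num]; exact mul_ne_zero h2 h2
  have htrS : S.trace = 16 * M.trace := by
    rw [hS, Matrix.trace_sum, Finset.sum_congr rfl fun w _ => by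
      rw [Matrix.trace_mul_cycle, show ((Q.W w)⁻¹ : GL ι F).val * Q.Wm w = 1 from (Q.W w).inv_mul,
        one_mul]]
    rw [Finset.sum_const, Finset.card_univ, card_E, nsmul_eq_mul]
    norm_num
  have hc' : c = 4 * M.trace := by
    rw [hc, Matrix.trace_smul, Matrix.trace_one, hι, smul_eq_mul, Nat.cast_ofNat] at htrS
    exact mul_right_cancel₀ h4 (by linear_combination htrS)
  have key2 := congrArg (fun X => ((g : Mat) * X).trace) hc
  simp only [hS, Finset.mul_sum, Matrix.trace_sum, mul_smul_comm, mul_one, Matrix.trace_smul,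
    smul_eq_mul] at key2
  have hterm : ∀ w, ((g : Mat) * (Q.Wm w * M * ((Q.W w)⁻¹ : GL ι F).val)).trace =
      if A.σ w = w then 4 * A.t w else 0 := by
    intro w
    rw [← mul_assoc, ← mul_assoc, A.eq, smul_mul_assoc, smul_mul_assoc, mul_assoc (Q.Wm (A.σ w)),
      hM, Units.mul_inv, mul_one, Matrix.trace_smul, smul_eq_mul]
    by_cases hw : A.σ w = w
    · rw [if_pos hw, hw, show Q.Wm w * ((Q.W w)⁻¹ : GL ι F).val = 1 from (Q.W w).mul_inv,
        Matrix.trace_one, hι, mul_comm, Nat.cast_ofNat]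
    · rw [if_neg hw, hinv, mul_smul_comm, Quad.Wm_mul, Matrix.trace_smul, Matrix.trace_smul,
        Q.trace_Wm h2 (by
          have key : ∀ u w : E, u ≠ w → u + w ≠ 0 := by decide
          exact key _ _ hw), smul_zero, smul_zero, mul_zero]
  rw [Finset.sum_congr rfl fun w _ => hterm w, Finset.sum_ite, Finset.sum_const_zero, add_zero,
    ← Finset.mul_sum, hc', mul_assoc] at key2
  rw [mul_left_cancel₀ h4 key2, mul_comm]

end dim

end Act

end Cfsg.Agent.Lib.Elusive19.Pauli4
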