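/-
Four generators in an absolutely irreducible group of symplectic type of order `2⁶` or `2⁵` of
minus type, and elements normalizing it.
-/
import Cfsg.Prelude.Def_GeometricClasses
import Cfsg.Agent.Lib.K41.SymplecticExp4
import Cfsg.Agent.Lib.Elusive19.Pauli4.Perm

set_option autoImplicit false
set_option linter.unusedSectionVars false

namespace Cfsg.Agent.Lib.Elusive19.Pauli4

open Cfsg.Geo
open scoped Matrix MatrixGroups commutatorElement

variable {F : Type*} [Field F] {ι : Type} [Fintype ι] [DecidableEq ι]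

local notation "Mat" => Matrix ι ι F

/-- `x` and `y` commute up to the sign `e`. -/
def Sg (e : ZMod 2) (x y : GL ι F) : Prop := (x : Mat) * y = (sgn e : F) • ((y : Mat) * x)

theorem Sg.symm {e : ZMod 2} {x y : GL ι F} (h : Sg e x y) : Sg e y x := by
  rw [Sg, h, smul_smul, sgn_sq, one_smul]

theorem Sg.refl (x : GL ι F) : Sg 0 x x := by rw [Sg, sgn_zero, one_smul]

theorem Sg.one (y : GL ι F) : Sg 0 1 y := by rw [Sg, sgn_zero, one_smul]; simp

theorem Sg.mul {e e' : ZMod 2} {x x' y : GL ι F} (h : Sg e x y) (h' : Sg e' x' y) :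
    Sg (e + e') (x * x') y := by
  rw [Sg, Units.val_mul, mul_assoc, h', mul_smul_comm, ← mul_assoc, h, smul_mul_assoc, smul_smul,
    mul_assoc, sgn_add, mul_comm (sgn e : F)]

theorem Sg.pow {e : ZMod 2} {x y : GL ι F} (h : Sg e x y) (j : ZMod 2) : Sg (j * e) (x ^ j.val) y := by
  rcases two_cases j with rfl | rfl
  · rw [zero_mul, ZMod.val_zero, pow_zero]; exact Sg.one y
  · rw [one_mul, ZMod.val_one, pow_one]; exact h

theorem Sg.scalar {e : ZMod 2} {x x' y : GL ι F} {c : F} (h : Sg e x y) (hx : (x' : Mat) = c • (x : Mat)) :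
    Sg e x' y := by
  rw [Sg, hx, smul_mul_assoc, h, mul_smul_comm, smul_comm]

theorem Sg.commute {x y : GL ι F} (h : Sg 0 x y) : Commute (x : Mat) y := by
  have h' : (x : Mat) * y = (sgn 0 : F) • ((y : Mat) * x) := h
  rw [sgn_zero, one_smul] at h'
  exact h'

theorem Sg.anti {x y : GL ι F} (h : Sg 1 x y) : (x : Mat) * y = -((y : Mat) * x) := by
  have h' : (x : Mat) * y = (sgn 1 : F) • ((y : Mat) * x) := h
  rwa [sgn_one, neg_one_smul] at h'

section setup

variable [Fintype F] [Nonempty ι] {R : Subgroup (GL ι F)} (hRs : IsSymplecticTypeGroup 2 R)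
  (hRi : ActsAbsolutelyIrreducibly (matrixSet R))

include hRs hRi

theorem center_scalar {x : R} (hx : x ∈ Subgroup.center R) :
    ∃ c : F, ((x : GL ι F) : Mat) = c • 1 := by
  refine hRi.2 _ ?_
  rintro s ⟨y, hy, rfl⟩
  exact congrArg (fun t : R => ((t : GL ι F) : Mat)) (Subgroup.mem_center_iff.mp hx ⟨y, hy⟩).symm

theorem pow_four (t : R) : t ^ 4 = 1 := by
  have h := Monoid.pow_exponent_eq_one t
  rwa [hRs.exponent_eq, Nat.gcd_self] at h

theorem sq_central (hc : Nat.card (Subgroup.center R) = 2 ∨ Nat.card (Subgroup.center R) = 4) :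
    (∀ x : R, x * x ∈ Subgroup.center R) ∧ ∀ x y : R, ⁅x, y⁆ * ⁅x, y⁆ = 1 := by
  have h4 := pow_four hRs hRi
  have hcc : ∀ x y : R, ⁅x, y⁆ ∈ Subgroup.center R := fun x y =>
    K41.Symplectic.commElem_mem_center ⟨hRs.pGroup, hRs.cyclic_of_characteristic⟩ h4 x y
  have hxy : ∀ x y : R, x * x * y = ⁅x, y⁆ * ⁅x, y⁆ * (y * (x * x)) := by
    intro x y
    have h1 : x * y = ⁅x, y⁆ * (y * x) := by rw [commutatorElement_def]; group
    have hz := Subgroup.mem_center_iff.mp (hcc x y) x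
    calc x * x * y = x * (x * y) := mul_assoc _ _ _
      _ = x * ⁅x, y⁆ * (y * x) := by rw [h1, mul_assoc]
      _ = ⁅x, y⁆ * (x * y) * x := by rw [hz]; simp only [mul_assoc]
      _ = _ := by rw [h1]; simp only [mul_assoc]
  suffices h : ∀ x y : R, ⁅x, y⁆ * ⁅x, y⁆ = 1 by
    refine ⟨fun x => Subgroup.mem_center_iff.mpr fun y => ?_, h⟩
    rw [hxy, h, one_mul]
  rcases hc with hc | hc
  · intro x y
    have h1 := pow_card_eq_one' (x := (⟨_, hcc x y⟩ : Subgroup.center R))
    rw [hc, pow_two] at h1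
    exact congrArg Subtype.val h1
  · let S : Set R := {t | (∃ x, t = x * x) ∨ t ∈ Subgroup.center R}
    have hS : ∀ s ∈ S, ∀ t ∈ S, s * t = t * s := by
      intro s hs t ht
      rcases hs with ⟨x, rfl⟩ | hs
      · rcases ht with ⟨y, rfl⟩ | ht
        · set e := ⁅x, y⁆
          have he : ∀ t, e * t = t * e := fun t => (Subgroup.mem_center_iff.mp (hcc x y) t).symm
          have he4 : e * e * (e * e) = 1 := by
            have := h4 e
            rwa [show (4 : ℕ) = 2 * 2 from rfl, pow_mul, pow_two, pow_two] at this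
          have hee : ∀ t, e * e * t = t * (e * e) := fun t => by
            rw [mul_assoc, he, ← mul_assoc, he, mul_assoc]
          calc x * x * (y * y) = x * x * y * y := (mul_assoc _ _ _).symm
            _ = e * e * (y * (x * x)) * y := by rw [hxy x y]
            _ = e * e * y * (x * x * y) := by simp only [mul_assoc]
            _ = e * e * y * (e * e * (y * (x * x))) := by rw [hxy x y]
            _ = e * e * (y * (e * e)) * (y * (x * x)) := by simp only [mul_assoc]
            _ = e * e * (e * e) * (y * (y * (x * x))) := by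
              rw [← hee y]; simp only [mul_assoc]
            _ = y * y * (x * x) := by rw [he4, one_mul]; simp only [mul_assoc]
        · exact Subgroup.mem_center_iff.mp ht _
      · exact (Subgroup.mem_center_iff.mp hs _).symm
    haveI : IsMulCommutative (Subgroup.closure S) := by
      have hle : Subgroup.closure S ≤ Subgroup.centralizer (Subgroup.closure S : Set R) := by
        rw [Subgroup.centralizer_closure, Subgroup.closure_le]
        intro s hs
        exact Subgroup.mem_centralizer_iff.mpr fun t ht => hS t ht s hs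
      exact ⟨⟨fun a b => Subtype.ext (Subgroup.mem_centralizer_iff.mp (hle b.2) a a.2)⟩⟩
    have hchar : (Subgroup.closure S).Characteristic := by
      rw [Subgroup.characteristic_iff_map_le]
      intro φ
      rw [MonoidHom.map_closure, Subgroup.closure_le]
      rintro _ ⟨s, hs, rfl⟩
      refine Subgroup.subset_closure ?_
      rcases hs with ⟨x, rfl⟩ | hs
      · exact Or.inl ⟨φ x, map_mul φ x x⟩
      · exact Or.inr ((Subgroup.centerCharacteristic.fixed φ).ge hs)
    haveI := hRs.cyclic_of_characteristic _ hchar inferInstance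
    obtain ⟨g, hg⟩ := IsCyclic.exists_generator (α := Subgroup.closure S)
    have hcard : Nat.card (Subgroup.closure S) ≤ 4 := by
      rw [← orderOf_eq_card_of_forall_mem_zpowers hg]
      exact Nat.le_of_dvd (by norm_num) (orderOf_dvd_of_pow_eq_one (Subtype.ext (h4 g.1)))
    have hZ : Subgroup.center R ≤ Subgroup.closure S := fun t ht => Subgroup.subset_closure (Or.inr ht)
    have heq := Subgroup.eq_of_le_of_card_ge hZ (hc ▸ hcard)
    intro x y
    have hx2 : x * x ∈ Subgroup.center R := heq ▸ Subgroup.subset_closure (Or.inl ⟨x, rfl⟩)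
    have := hxy x y
    rw [← Subgroup.mem_center_iff.mp hx2 y] at this
    exact mul_eq_right.mp this.symm

theorem exists_sg (hc : Nat.card (Subgroup.center R) = 2 ∨ Nat.card (Subgroup.center R) = 4)
    {x y : GL ι F} (hx : x ∈ R) (hy : y ∈ R) : ∃ e, Sg e x y := by
  have h := (sq_central hRs hRi hc).2 ⟨x, hx⟩ ⟨y, hy⟩
  obtain ⟨c, hc'⟩ := center_scalar hRs hRi
    (K41.Symplectic.commElem_mem_center ⟨hRs.pGroup, hRs.cyclic_of_characteristic⟩ (pow_four hRs hRi)
      (⟨x, hx⟩ : R) ⟨y, hy⟩)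
  have hc1 : c * c = 1 := by
    have h1 := congrArg (fun t : R => ((t : GL ι F) : Mat)) h
    simp only [Subgroup.coe_mul, Units.val_mul, hc', smul_mul_assoc, one_mul, smul_smul,
      OneMemClass.coe_one, Units.val_one] at h1
    exact smul_left_injective F (one_ne_zero (α := Mat)) (by simpa using h1)
  obtain ⟨e, rfl⟩ := exists_sgn hc1
  refine ⟨e, ?_⟩
  have h2 : ((⁅(⟨x, hx⟩ : R), ⟨y, hy⟩⁆ : R) : GL ι F) * (y * x) = x * y := by
    simp [commutatorElement_def, mul_assoc]
  rw [Sg, ← Units.val_mul, ← h2, Units.val_mul, hc', smul_mul_assoc, one_mul, Units.val_mul]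

theorem sq_eq (hc : Nat.card (Subgroup.center R) = 2 ∨ Nat.card (Subgroup.center R) = 4)
    {x : GL ι F} (hx : x ∈ R) : (x : Mat) * x = 1 ∨ (x : Mat) * x = -1 := by
  obtain ⟨c, hc'⟩ := center_scalar hRs hRi ((sq_central hRs hRi hc).1 ⟨x, hx⟩)
  simp only [Subgroup.coe_mul, Units.val_mul] at hc'
  have h := congrArg (fun t : R => ((t : GL ι F) : Mat)) (pow_four hRs hRi ⟨x, hx⟩)
  simp only [SubgroupClass.coe_pow, Units.val_pow_eq_pow_val, OneMemClass.coe_one, Units.val_one,
    show (4 : ℕ) = 2 * 2 from rfl, pow_mul, pow_two, Subgroup.coe_mul, Units.val_mul] at h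
  rw [hc', smul_mul_assoc, one_mul, smul_smul] at h
  have hc1 : c * c = 1 := smul_left_injective F (one_ne_zero (α := Mat)) (by simpa using h)
  rcases mul_self_eq_one_iff.mp hc1 with rfl | rfl
  · exact Or.inl (by rw [hc', one_smul])
  · exact Or.inr (by rw [hc', neg_one_smul])

omit [Nonempty ι] in
theorem mem_center_of {x : R} {c : F} (h : ((x : GL ι F) : Mat) = c • 1) : x ∈ Subgroup.center R :=
  Subgroup.mem_center_iff.mpr fun y => Subtype.ext (Units.ext (by simp [h]))

theorem exists_i (hc : Nat.card (Subgroup.center R) = 4) :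
    ∃ (u : GL ι F) (i : F), u ∈ R ∧ (u : Mat) = i • 1 ∧ i * i = -1 := by
  haveI : IsCyclic (Subgroup.center R) :=
    hRs.cyclic_of_characteristic _ inferInstance inferInstance
  obtain ⟨g, hg⟩ := IsCyclic.exists_generator (α := Subgroup.center R)
  obtain ⟨c, hc'⟩ := center_scalar hRs hRi g.2
  refine ⟨_, c, g.1.2, hc', ?_⟩
  rcases sq_eq hRs hRi (Or.inr hc) g.1.2 with h | h
  · exfalso
    have h1 : g ^ 2 = 1 := Subtype.ext (Subtype.ext (Units.ext (by rw [pow_two]; exact h)))
    have h2 := Nat.le_of_dvd two_pos (orderOf_dvd_of_pow_eq_one h1)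
    rw [orderOf_eq_card_of_forall_mem_zpowers hg, hc] at h2
    omega
  · rw [hc', smul_mul_assoc, one_mul, smul_smul, ← neg_one_smul F (1 : Mat)] at h
    exact smul_left_injective F (one_ne_zero (α := Mat)) h

/-- Two commuting anticommuting pairs. -/
theorem exists_pairs (hc : Nat.card (Subgroup.center R) = 2 ∨ Nat.card (Subgroup.center R) = 4)
    (hbig : 4 * Nat.card (Subgroup.center R) < Nat.card R) :
    ∃ a ∈ R, ∃ b ∈ R, ∃ c ∈ R, ∃ d ∈ R, Sg 1 b a ∧ Sg 1 d c ∧
      Sg 0 a c ∧ Sg 0 a d ∧ Sg 0 b c ∧ Sg 0 b d := by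
  classical
  have hsg : ∀ x : R, ∀ y : R, ∃ e, Sg e (x : GL ι F) y := fun x y =>
    exists_sg hRs hRi hc x.2 y.2
  have hncen : ∀ x : R, x ∉ Subgroup.center R → ∃ y : R, Sg 1 (y : GL ι F) x := by
    intro x hx
    by_contra h
    push Not at h
    refine hx (Subgroup.mem_center_iff.mpr fun y => ?_)
    obtain ⟨e, he⟩ := hsg y x
    rcases two_cases e with rfl | rfl
    · exact Subtype.ext (Units.ext he.commute.eq)
    · exact absurd he (h y)
  obtain ⟨a, ha⟩ : ∃ a : R, a ∉ Subgroup.center R := by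
    by_contra h
    push Not at h
    rw [show Subgroup.center R = ⊤ from eq_top_iff.mpr fun x _ => h x, Subgroup.card_top] at hbig
    omega
  obtain ⟨b, hba⟩ := hncen a ha
  have hadj : ∀ x : R, ∃ i j : ZMod 2,
      Sg 0 ((x * (a ^ i.val * b ^ j.val) : R) : GL ι F) a ∧
      Sg 0 ((x * (a ^ i.val * b ^ j.val) : R) : GL ι F) b ∧
      ∀ (z : GL ι F) (e : ZMod 2), Sg 0 (a : GL ι F) z → Sg 0 (b : GL ι F) z → Sg e (x : GL ι F) z →
        Sg e ((x * (a ^ i.val * b ^ j.val) : R) : GL ι F) z := by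
    intro x
    obtain ⟨ea, hea⟩ := hsg x a
    obtain ⟨eb, heb⟩ := hsg x b
    refine ⟨eb, ea, ?_, ?_, ?_⟩
    · have h := hea.mul (((Sg.refl (a : GL ι F)).pow eb).mul (hba.pow ea))
      have hz : ea + (eb * 0 + ea * 1) = 0 := by
        rcases two_cases ea with rfl | rfl <;> rcases two_cases eb with rfl | rfl <;> rfl
      rw [hz] at h; simpa using h
    · have h := heb.mul ((hba.symm.pow eb).mul ((Sg.refl (b : GL ι F)).pow ea))
      have hz : eb + (eb * 1 + ea * 0) = 0 := by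
        rcases two_cases ea with rfl | rfl <;> rcases two_cases eb with rfl | rfl <;> rfl
      rw [hz] at h; simpa using h
    · intro z e h1 h2 h3
      have h := h3.mul ((h1.pow eb).mul (h2.pow ea))
      simpa using h
  obtain ⟨c, hca, hcb, hcz⟩ : ∃ c : R, Sg 0 (c : GL ι F) a ∧ Sg 0 (c : GL ι F) b ∧
      c ∉ Subgroup.center R := by
    by_contra h
    push Not at h
    have hsurj : Function.Surjective (fun t : (ZMod 2 × ZMod 2) × Subgroup.center R =>
        (t.2 : R) * (a ^ t.1.1.val * b ^ t.1.2.val)⁻¹) := by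
      intro x
      obtain ⟨i, j, h1, h2, -⟩ := hadj x
      exact ⟨⟨⟨i, j⟩, ⟨_, h _ h1 h2⟩⟩, by simp [mul_assoc]⟩
    have hle := Nat.card_le_card_of_surjective _ hsurj
    rw [Nat.card_prod, Nat.card_prod, Nat.card_zmod] at hle
    omega
  obtain ⟨d, hdc⟩ := hncen c hcz
  obtain ⟨i, j, h1, h2, h3⟩ := hadj d
  exact ⟨a, a.2, b, b.2, c, c.2, _, (d * (a ^ i.val * b ^ j.val) : R).2, hba,
    h3 c 1 hca.symm hcb.symm hdc, hca.symm, h1.symm, hcb.symm, h2.symm⟩

omit hRi hRs [Nonempty ι] in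
theorem neg_one_mem {a b : GL ι F} (ha : a ∈ R) (hb : b ∈ R) (h : Sg 1 b a) :
    ∃ n ∈ R, (n : Mat) = -1 := by
  refine ⟨(b * a) * (a * b)⁻¹, R.mul_mem (R.mul_mem hb ha) (R.inv_mem (R.mul_mem ha hb)), ?_⟩
  rw [Units.val_mul, Units.val_mul b a, h.anti, ← Units.val_mul a b, neg_mul, Units.mul_inv]

/-- With a square root of `-1` in the group, squares can be prescribed. -/
theorem exists_quad_of_i (hc : Nat.card (Subgroup.center R) = 4)
    (hbig : 16 < Nat.card R) : Nonempty (Quad R) := by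
  obtain ⟨a, ha, b, hb, c, hcR, d, hd, hba, hdc, hac, had, hbc, hbd⟩ :=
    exists_pairs hRs hRi (Or.inr hc) (by omega)
  obtain ⟨u, i, hu, hui, hi⟩ := exists_i hRs hRi hc
  have hfix : ∀ (x : GL ι F), x ∈ R → ∀ ε : F, ε = 1 ∨ ε = -1 → ∃ (x' : GL ι F) (s : F),
      x' ∈ R ∧ (x' : Mat) = s • (x : Mat) ∧ (x' : Mat) * x' = ε • (1 : Mat) := by
    intro x hx ε hε
    have hux : ((u * x : GL ι F) : Mat) = i • (x : Mat) := by
      rw [Units.val_mul, hui, smul_mul_assoc, one_mul]
    rcases sq_eq hRs hRi (Or.inr hc) hx with h | h <;> rcases hε with rfl | rfl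
    · exact ⟨x, 1, hx, (one_smul _ _).symm, by rw [h, one_smul]⟩
    · exact ⟨u * x, i, R.mul_mem hu hx, hux, by
        rw [hux, smul_mul_assoc, mul_smul_comm, smul_smul, h, hi]⟩
    · exact ⟨u * x, i, R.mul_mem hu hx, hux, by
        rw [hux, smul_mul_assoc, mul_smul_comm, smul_smul, h, hi, neg_one_smul, neg_neg, one_smul]⟩
    · exact ⟨x, 1, hx, (one_smul _ _).symm, by rw [h, neg_one_smul]⟩
  obtain ⟨a', sa, ha', hsa, ha2⟩ := hfix a ha 1 (Or.inl rfl)
  obtain ⟨b', sb, hb', hsb, hb2⟩ := hfix b hb 1 (Or.inl rfl)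
  obtain ⟨c', sc, hc', hsc, hc2⟩ := hfix c hcR (-1) (Or.inr rfl)
  obtain ⟨d', sd, hd', hsd, hd2⟩ := hfix d hd (-1) (Or.inr rfl)
  rw [one_smul] at ha2 hb2
  rw [neg_one_smul] at hc2 hd2
  exact ⟨⟨a', b', c', d', ha', hb', hc', hd', ha2, hb2, hc2, hd2,
    (((hba.scalar hsb).symm.scalar hsa).symm).anti, (((hdc.scalar hsd).symm.scalar hsc).symm).anti,
    ((hac.scalar hsa).symm.scalar hsc).symm.commute, ((had.scalar hsa).symm.scalar hsd).symm.commute,
    ((hbc.scalar hsb).symm.scalar hsc).symm.commute, ((hbd.scalar hsb).symm.scalar hsd).symm.commute⟩⟩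

omit hRi hRs in
/-- Two commuting involutions, independent modulo `±1`, give an elementary abelian group of order
eight. -/
theorem not_minus {n u v y₁ y₂ : GL ι F} (hn : n ∈ R) (hu : u ∈ R) (hv : v ∈ R)
    (hnm : (n : Mat) = -1) (hu2 : (u : Mat) * u = 1) (hv2 : (v : Mat) * v = 1) (huv : Sg 0 u v)
    (h11 : Sg 1 u y₁) (h12 : Sg 0 v y₁) (h21 : Sg 0 u y₂) (h22 : Sg 1 v y₂) (h2 : (2 : F) ≠ 0) :
    ¬ IsOfMinusType 2 R := by
  intro hm
  let n' : R := ⟨n, hn⟩
  let u' : R := ⟨u, hu⟩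
  let v' : R := ⟨v, hv⟩
  have hnn : n' * n' = 1 := Subtype.ext (Units.ext (by simp [n', hnm]))
  have huu : u' * u' = 1 := Subtype.ext (Units.ext (by simp [u', hu2]))
  have hvv : v' * v' = 1 := Subtype.ext (Units.ext (by simp [v', hv2]))
  have hnu : n' * u' = u' * n' := Subtype.ext (Units.ext (by simp [u', n', hnm]))
  have hnv : n' * v' = v' * n' := Subtype.ext (Units.ext (by simp [v', n', hnm]))
  have huv' : u' * v' = v' * u' := Subtype.ext (Units.ext huv.commute.eq)
  let S : Set R := {n', u', v'}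
  have hS : ∀ s ∈ S, ∀ t ∈ S, s * t = t * s := by
    intro s hs t ht
    simp only [S, Set.mem_insert_iff, Set.mem_singleton_iff] at hs ht
    rcases hs with rfl | rfl | rfl <;> rcases ht with rfl | rfl | rfl <;>
      first | rfl | assumption | exact hnu.symm | exact hnv.symm | exact huv'.symm
  haveI hcomm : IsMulCommutative (Subgroup.closure S) := by
    have hle : Subgroup.closure S ≤ Subgroup.centralizer (Subgroup.closure S : Set R) := by
      rw [Subgroup.centralizer_closure, Subgroup.closure_le]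
      intro s hs
      exact Subgroup.mem_centralizer_iff.mpr fun t ht => hS t ht s hs
    exact ⟨⟨fun a b => Subtype.ext (Subgroup.mem_centralizer_iff.mp (hle b.2) a a.2)⟩⟩
  have hinv : ∀ x ∈ Subgroup.closure S, x * x = 1 := by
    intro x hx
    induction hx using Subgroup.closure_induction with
    | mem s hs =>
      simp only [S, Set.mem_insert_iff, Set.mem_singleton_iff] at hs
      rcases hs with rfl | rfl | rfl <;> assumption
    | one => exact one_mul 1
    | mul a b ha hb h1 h2 =>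
      have hab : a * b = b * a :=
        congrArg Subtype.val (hcomm.is_comm.comm ⟨a, ha⟩ ⟨b, hb⟩)
      calc a * b * (a * b) = a * (b * b) * a := by
            nth_rw 2 [hab]; simp only [mul_assoc]
        _ = 1 := by rw [h2, mul_one, h1]
    | inv a _ h1 => rw [← mul_inv_rev, h1, inv_one]
  have hlt := hm _ hcomm hinv
  let f : ZMod 2 × ZMod 2 × ZMod 2 → Subgroup.closure S := fun t =>
    ⟨n' ^ t.1.val * (u' ^ t.2.1.val * v' ^ t.2.2.val),
      Subgroup.mul_mem _ (Subgroup.pow_mem _ (Subgroup.subset_closure (by simp [S])) _)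
        (Subgroup.mul_mem _ (Subgroup.pow_mem _ (Subgroup.subset_closure (by simp [S])) _)
          (Subgroup.pow_mem _ (Subgroup.subset_closure (by simp [S])) _))⟩
  have hn0 : ∀ y, Sg 0 n y := fun y => (Sg.one y).scalar (c := -1) (by rw [hnm]; simp)
  have hf : Function.Injective f := by
    rintro ⟨i, j, k⟩ ⟨i', j', k'⟩ h
    have h' : n ^ i.val * (u ^ j.val * v ^ k.val) = n ^ i'.val * (u ^ j'.val * v ^ k'.val) := by
      simpa [f, n', u', v'] using congrArg (fun t : Subgroup.closure S => ((t : R) : GL ι F)) h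
    have key : ∀ y e₁ e₂, Sg e₁ u y → Sg e₂ v y → j * e₁ + k * e₂ = j' * e₁ + k' * e₂ := by
      intro y e₁ e₂ g1 g2
      have q1 := ((hn0 y).pow i).mul ((g1.pow j).mul (g2.pow k))
      have q2 := ((hn0 y).pow i').mul ((g1.pow j').mul (g2.pow k'))
      rw [h'] at q1
      simp only [mul_zero, zero_add] at q1 q2
      refine sgn_injective h2 (smul_left_injective F ?_ (Eq.trans (Eq.symm q1) q2))
      rw [← Units.val_mul]
      exact Units.ne_zero _
    obtain rfl : j = j' := by simpa using key y₁ 1 0 h11 h12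
    obtain rfl : k = k' := by simpa using key y₂ 0 1 h21 h22
    have hi := congrArg (fun t : GL ι F => (t : Mat)) (mul_right_cancel h')
    simp only [Units.val_pow_eq_pow_val, hnm] at hi
    rcases two_cases i with rfl | rfl <;> rcases two_cases i' with rfl | rfl <;>
      simp [ZMod.val_one] at hi ⊢
    all_goals
      have h3 := congrFun₂ hi (Classical.arbitrary ι) (Classical.arbitrary ι)
      simp at h3
      exact h2 (by first | linear_combination h3 | linear_combination -h3)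
  have hle := Nat.card_le_card_of_injective f hf
  rw [Nat.card_prod, Nat.card_prod, Nat.card_zmod] at hle
  omega

/-- In a group of minus type the squares come out by themselves. -/
theorem exists_quad_of_minus (hc : Nat.card (Subgroup.center R) = 2) (hbig : 8 < Nat.card R)
    (hm : IsOfMinusType 2 R) (h2 : (2 : F) ≠ 0) : Nonempty (Quad R) := by
  obtain ⟨a, ha, b, hb, c, hcR, d, hd, hba, hdc, hac, had, hbc, hbd⟩ :=
    exists_pairs hRs hRi (Or.inl hc) (by omega)
  have hnorm : ∀ x ∈ R, ∀ y ∈ R, Sg 1 y x → ∃ x' ∈ R, ∃ y' ∈ R, Sg 1 y' x' ∧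
      (((x' : Mat) * x' = 1 ∧ (y' : Mat) * y' = 1) ∨ ((x' : Mat) * x' = -1 ∧ (y' : Mat) * y' = -1)) ∧
      ∀ z, Sg 0 x z → Sg 0 y z → Sg 0 x' z ∧ Sg 0 y' z := by
    intro x hx y hy h
    have hyxx : Sg 1 (y * x) x := by simpa using h.mul (Sg.refl x)
    have hyxy : Sg 1 (y * x) y := by simpa using (Sg.refl y).mul h.symm
    have hprod : ((y * x : GL ι F) : Mat) * (y * x : GL ι F) =
        -(((y : Mat) * y) * ((x : Mat) * x)) := by
      rw [Units.val_mul, mul_assoc, ← mul_assoc (x : Mat), h.symm.anti, neg_mul, mul_neg, mul_assoc,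
        mul_assoc]
    have hcomb : ∀ z, Sg 0 x z → Sg 0 y z → Sg 0 (y * x) z := fun z h1 h2 => by
      simpa using h2.mul h1
    rcases sq_eq hRs hRi (Or.inl hc) hx with h1 | h1 <;>
      rcases sq_eq hRs hRi (Or.inl hc) hy with h3 | h3
    · exact ⟨x, hx, y, hy, h, Or.inl ⟨h1, h3⟩, fun z a b => ⟨a, b⟩⟩
    · exact ⟨x, hx, y * x, R.mul_mem hy hx, hyxx, Or.inl ⟨h1, by rw [hprod, h1, h3]; simp⟩,
        fun z a b => ⟨a, hcomb z a b⟩⟩
    · exact ⟨y, hy, y * x, R.mul_mem hy hx, hyxy, Or.inl ⟨h3, by rw [hprod, h1, h3]; simp⟩,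
        fun z a b => ⟨b, hcomb z a b⟩⟩
    · exact ⟨x, hx, y, hy, h, Or.inr ⟨h1, h3⟩, fun z a b => ⟨a, b⟩⟩
  obtain ⟨a', ha', b', hb', hba', hsq1, h1⟩ := hnorm a ha b hb hba
  obtain ⟨c', hc', d', hd', hdc', hsq2, h3⟩ := hnorm c hcR d hd hdc
  have hcross : Sg 0 a' c' ∧ Sg 0 a' d' ∧ Sg 0 b' c' ∧ Sg 0 b' d' := by
    obtain ⟨p1, p2⟩ := h1 c hac hbc
    obtain ⟨p3, p4⟩ := h1 d had hbd
    obtain ⟨q1, q2⟩ := h3 a' p1.symm p3.symm
    obtain ⟨q3, q4⟩ := h3 b' p2.symm p4.symm
    exact ⟨q1.symm, q2.symm, q3.symm, q4.symm⟩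
  obtain ⟨gac, gad, gbc, gbd⟩ := hcross
  obtain ⟨n, hn, hnm⟩ := neg_one_mem ha hb hba
  rcases hsq1 with ⟨sa, sb⟩ | ⟨sa, sb⟩ <;> rcases hsq2 with ⟨sc, sd⟩ | ⟨sc, sd⟩
  · exact absurd hm (not_minus hn ha' hc' hnm sa sc gac hba'.symm gbc.symm gad hdc'.symm h2)
  · exact ⟨⟨a', b', c', d', ha', hb', hc', hd', sa, sb, sc, sd, hba'.anti, hdc'.anti, gac.commute,
      gad.commute, gbc.commute, gbd.commute⟩⟩
  · exact ⟨⟨c', d', a', b', hc', hd', ha', hb', sc, sd, sa, sb, hdc'.anti, hba'.anti,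
      gac.commute.symm, gbc.commute.symm, gad.commute.symm, gbd.commute.symm⟩⟩
  · -- both pairs quaternion
    refine absurd hm (not_minus hn (R.mul_mem ha' hc') (R.mul_mem hb' hd') hnm ?_ ?_ ?_ ?_ ?_ ?_ ?_ h2
      (y₁ := b') (y₂ := a'))
    · rw [Units.val_mul, gac.commute.symm.mul_mul_mul_comm, sa, sc]; simp
    · rw [Units.val_mul, gbd.commute.symm.mul_mul_mul_comm, sb, sd]; simp
    · simpa [show (1 : ZMod 2) + 1 = 0 from rfl] using
        (((hba'.mul gad.symm).symm).mul ((gbc.mul hdc').symm))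
    · simpa using hba'.symm.mul gbc.symm
    · simpa using (Sg.refl b').mul gbd.symm
    · simpa using (Sg.refl a').mul gac.symm
    · simpa using hba'.mul gad.symm

/-- What the group provides, once and for all. -/
theorem gen_word (hc : Nat.card (Subgroup.center R) = 2 ∨ Nat.card (Subgroup.center R) = 4)
    (Q : Quad R) (hι : Fintype.card ι = 4) (h2 : (2 : F) ≠ 0) :
    ∀ x ∈ R, ∃ (v : E) (c : F), c ≠ 0 ∧ (x : Mat) = c • Q.Wm v := fun x hx => by
  refine Q.exists_word_of_pm hι h2 (fun a ha b hb => ?_) hx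
  obtain ⟨e, he⟩ := exists_sg hRs hRi hc ha hb
  rcases two_cases e with rfl | rfl
  · exact Or.inl he.commute.eq
  · exact Or.inr he.anti

end setup

namespace Quad

variable [Fintype F] {R : Subgroup (GL ι F)} (Q : Quad R)

/-- Whatever sends the generators into the group normalizes it. -/
theorem mem_normalizer_of_gens
    (hgen : ∀ x ∈ R, ∃ (v : E) (c : F), c ≠ 0 ∧ (x : Mat) = c • Q.Wm v) {g : GL ι F}
    (h1 : g * Q.a1 * g⁻¹ ∈ R) (h2 : g * Q.b1 * g⁻¹ ∈ R) (h3 : g * Q.a2 * g⁻¹ ∈ R)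
    (h4 : g * Q.b2 * g⁻¹ ∈ R) : g ∈ subgroupNormalizer R := by
  classical
  have hle : ∀ x ∈ R, g * x * g⁻¹ ∈ R := by
    intro x hx
    obtain ⟨v, c, hc, hxv⟩ := hgen x hx
    have hW : g * Q.W v * g⁻¹ ∈ R := by
      have e : g * Q.W v * g⁻¹ = MulAut.conj g (Q.W v) := rfl
      rw [e, Quad.W]
      simp only [map_mul, map_pow, MulAut.conj_apply]
      exact R.mul_mem (R.mul_mem (R.pow_mem h1 _) (R.pow_mem h2 _))
        (R.mul_mem (R.pow_mem h3 _) (R.pow_mem h4 _))
    have hs : x * (Q.W v)⁻¹ ∈ R := R.mul_mem hx (R.inv_mem (Q.W_mem v))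
    have hsv : ((x * (Q.W v)⁻¹ : GL ι F) : Mat) = c • 1 := by
      rw [Units.val_mul, hxv, smul_mul_assoc, Quad.Wm, Units.mul_inv]
    have hcomm : g * (x * (Q.W v)⁻¹) = x * (Q.W v)⁻¹ * g := Units.ext (by
      rw [Units.val_mul g (x * (Q.W v)⁻¹), Units.val_mul (x * (Q.W v)⁻¹) g, hsv, mul_smul_comm, mul_one, smul_mul_assoc, one_mul])
    have e : g * x * g⁻¹ = x * (Q.W v)⁻¹ * (g * Q.W v * g⁻¹) :=
      calc g * x * g⁻¹ = g * (x * (Q.W v)⁻¹) * (Q.W v * g⁻¹) := by group
        _ = _ := by rw [hcomm]; group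
    rw [e]
    exact R.mul_mem hs hW
  show g ∈ Subgroup.normalizer (R : Set (GL ι F))
  rw [Subgroup.mem_normalizer_iff]
  intro x
  refine ⟨hle x, fun hx => ?_⟩
  obtain ⟨y, hy⟩ := (Finite.injective_iff_surjective.mp
    (fun a b h => Subtype.ext (by
      have := congrArg Subtype.val h
      simpa using this) : Function.Injective
        (fun y : R => (⟨g * y * g⁻¹, hle y y.2⟩ : R)))) ⟨_, hx⟩
  have : g * (y : GL ι F) * g⁻¹ = g * x * g⁻¹ := congrArg Subtype.val hy
  rw [mul_right_cancel_iff, mul_left_cancel_iff] at this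
  exact this ▸ y.2

end Quad

/-- Scalar multiples of elements of a normalizer are in it. -/
theorem mem_normalizer_smul {R : Subgroup (GL ι F)} {x y : GL ι F} {c : F}
    (hy : y ∈ subgroupNormalizer R) (h : (x : Mat) = c • (y : Mat)) : x ∈ subgroupNormalizer R := by
  have hs : ((x * y⁻¹ : GL ι F) : Mat) = c • 1 := by
    rw [Units.val_mul, h, smul_mul_assoc, Units.mul_inv]
  have hmem : x * y⁻¹ ∈ subgroupNormalizer R := by
    show x * y⁻¹ ∈ Subgroup.normalizer (R : Set (GL ι F))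
    rw [Subgroup.mem_normalizer_iff]
    intro z
    have : x * y⁻¹ * z * (x * y⁻¹)⁻¹ = z := by
      rw [mul_inv_eq_iff_eq_mul]
      exact Units.ext (by
        rw [Units.val_mul, Units.val_mul z, hs, smul_mul_assoc, one_mul, mul_smul_comm, mul_one])
    rw [this]
  simpa using Subgroup.mul_mem _ hmem hy

end Cfsg.Agent.Lib.Elusive19.Pauli4
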