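/-
An element of order five modulo scalars normalizing the group: the intertwiner of two systems of
generators.
-/
import Cfsg.Agent.Lib.Elusive19.Pauli4.Setup
import Mathlib.LinearAlgebra.Matrix.NonsingularInverse

set_option autoImplicit false
set_option linter.unusedSectionVars false

namespace Cfsg.Agent.Lib.Elusive19.Pauli4

open Cfsg.Geo
open scoped Matrix MatrixGroups

variable {F : Type*} [Field F] {ι : Type} [Fintype ι] [DecidableEq ι]

local notation "Mat" => Matrix ι ι F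

/-- An isometry of order five of the quadratic form. -/
def Lf (w : E) : E := (w.2.1, w.1 + w.2.1 + w.2.2.2, w.2.2.2, w.2.1 + w.2.2.1)

theorem Lf_five : ∀ w : E, Lf (Lf (Lf (Lf (Lf w)))) = w := by decide

theorem Lf_four : Lf (Lf (Lf (Lf (1, 0, 0, 0)))) ≠ (1, 0, 0, 0) := by decide

theorem qf_Lf : ∀ w : E, qf (Lf w) = qf w := by decide

theorem bf_Lf : ∀ w u : E, bf (Lf w) (Lf u) = bf w u := by decide

theorem Lf_add : ∀ w u : E, Lf (w + u) = Lf w + Lf u := by decide

namespace Quad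

variable {R : Subgroup (GL ι F)} (Q : Quad R)

theorem W_sq (w : E) : (Q.W w : Mat) * Q.W w = (sgn (qf w) : F) • (1 : Mat) := by
  have h := Q.Wm_mul w w
  have hww : w + w = 0 := by
    have key : ∀ w : E, w + w = 0 := by decide
    exact key w
  rwa [hww, Quad.Wm_zero] at h

theorem W_anti {w u : E} (h : bf w u = 1) : (Q.W w : Mat) * Q.W u = -((Q.W u : Mat) * Q.W w) := by
  have h' := Q.Wm_comm w u
  rwa [h, sgn_one, neg_one_smul] at h'

theorem W_commute {w u : E} (h : bf w u = 0) : Commute (Q.W w : Mat) (Q.W u) := by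
  have h' := Q.Wm_comm w u
  rwa [h, sgn_zero, one_smul] at h'

/-- The new generators. -/
def moved : Quad R where
  a1 := Q.W (0, 1, 0, 0)
  b1 := Q.W (1, 1, 0, 1)
  a2 := Q.W (0, 0, 0, 1)
  b2 := Q.W (0, 1, 1, 0)
  a1_mem := Q.W_mem _
  b1_mem := Q.W_mem _
  a2_mem := Q.W_mem _
  b2_mem := Q.W_mem _
  a1_sq := by rw [Q.W_sq, show qf (0, 1, 0, 0) = 0 by decide, sgn_zero, one_smul]
  b1_sq := by rw [Q.W_sq, show qf (1, 1, 0, 1) = 0 by decide, sgn_zero, one_smul]
  a2_sq := by rw [Q.W_sq, show qf (0, 0, 0, 1) = 1 by decide, sgn_one, neg_one_smul]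
  b2_sq := by rw [Q.W_sq, show qf (0, 1, 1, 0) = 1 by decide, sgn_one, neg_one_smul]
  anti1 := Q.W_anti (by decide)
  anti2 := Q.W_anti (by decide)
  c_aa := Q.W_commute (by decide)
  c_ab := Q.W_commute (by decide)
  c_ba := Q.W_commute (by decide)
  c_bb := Q.W_commute (by decide)

variable (hι : Fintype.card ι = 4) (h2 : (2 : F) ≠ 0)

include hι h2

/-- An intertwiner between two systems of generators. -/
theorem exists_intertwiner (Q' : Quad R) : ∃ T : GL ι F, ∀ w, (T : Mat) * Q.Wm w = Q'.Wm w * T := by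
  classical
  let B : E → Mat := fun w => ((Q.W w)⁻¹ : GL ι F).val
  let T : Mat → Mat := fun X => ∑ u, Q'.Wm u * X * B u
  have hint : ∀ X v, Q'.Wm v * T X = T X * Q.Wm v := by
    intro X v
    simp only [T, Finset.mul_sum, Finset.sum_mul]
    refine Fintype.sum_bijective (fun u => v + u) (Equiv.addLeft v).bijective _ _ fun u => ?_
    have hB : B (v + u) * Q.Wm v = (sgn (cs v u) : F) • B u := by
      have h := congrArg (fun M => B (v + u) * M * B u) (Q.Wm_mul v u)
      have e1 : B (v + u) * Q.Wm (v + u) = 1 := (Q.W (v + u)).inv_mul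
      have e2 : Q.Wm u * B u = 1 := (Q.W u).mul_inv
      simp only [mul_smul_comm, smul_mul_assoc, mul_assoc, e2, mul_one] at h
      rw [← mul_assoc, e1, one_mul] at h
      exact h
    rw [mul_assoc (Q'.Wm (v + u) * X) (B (v + u)), hB, mul_smul_comm, ← mul_assoc, ← mul_assoc,
      Q'.Wm_mul, smul_mul_assoc, smul_mul_assoc]
  haveI : Nonempty ι := Fintype.card_pos_iff.mp (by omega)
  obtain ⟨X, hX⟩ : ∃ X, T X ≠ 0 := by
    by_contra h
    push Not at h
    let i : ι := Classical.arbitrary ι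
    have h1 : ∑ u, B u i i • Q'.Wm u = 0 := by
      ext a b
      have := congrFun₂ (h (Matrix.single b i 1)) a i
      simp only [T, Matrix.sum_apply, Matrix.zero_apply] at this
      simp only [Matrix.sum_apply, Matrix.smul_apply, smul_eq_mul, Matrix.zero_apply]
      refine (Finset.sum_congr rfl fun u _ => ?_).trans this
      rw [Matrix.mul_apply, Finset.sum_eq_single i]
      · rw [Matrix.mul_single_apply_same, mul_one, mul_comm]
      · intro c _ hc
        simp [Matrix.mul_apply, Matrix.single_apply, Ne.symm hc]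
      · simp
    have h0 := Fintype.linearIndependent_iff.mp (Q'.linearIndependent hι h2) _ h1 0
    have hB0 : B 0 = 1 := by
      have := (Q.W 0).inv_mul
      rwa [show ((Q.W 0 : GL ι F) : Mat) = 1 from Q.Wm_zero, mul_one] at this
    rw [hB0, Matrix.one_apply_eq] at h0
    exact one_ne_zero h0
  have hdet : (T X).det ≠ 0 := by
    intro hd
    obtain ⟨v, hv, hTv⟩ := Matrix.exists_mulVec_eq_zero_iff.mpr hd
    obtain ⟨j, hj⟩ := Function.ne_iff.mp hv
    refine hX (Matrix.ext_of_mulVec_single fun k => ?_)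
    rw [Matrix.zero_mulVec]
    set M : Mat := Matrix.vecMulVec (Pi.single k 1) (Pi.single j (v j)⁻¹) with hM
    have hMv : M *ᵥ v = Pi.single k 1 := by
      rw [hM, Matrix.vecMulVec_mulVec, single_dotProduct, inv_mul_cancel₀ hj]
      simp
    rw [← hMv, ← Q.sum_repr hι h2 M]
    show T X *ᵥ _ = 0
    simp only [Matrix.sum_mulVec, Matrix.mulVec_sum]
    refine Finset.sum_eq_zero fun w _ => ?_
    rw [Matrix.smul_mulVec, Matrix.mulVec_smul, Matrix.mulVec_mulVec, ← hint, ← Matrix.mulVec_mulVec,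
      hTv, Matrix.mulVec_zero, smul_zero]
  exact ⟨Matrix.GeneralLinearGroup.mkOfDetNeZero (T X) hdet, fun w => (hint X w).symm⟩

/-- An element of order five modulo scalars in the normalizer. -/
theorem exists_five [Fintype F]
    (hgen : ∀ x ∈ R, ∃ (v : E) (c : F), c ≠ 0 ∧ (x : Mat) = c • Q.Wm v) :
    ∃ g ∈ subgroupNormalizer R, (∃ s : F, ((g ^ 5 : GL ι F) : Mat) = s • 1) ∧
      ∀ c : F, (g : Mat) ≠ c • 1 := by
  haveI : Nonempty ι := Fintype.card_pos_iff.mp (by omega)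
  obtain ⟨T, hT⟩ := Q.exists_intertwiner hι h2 Q.moved
  have hconj : ∀ w, T * Q.W w * T⁻¹ = Q.moved.W w := fun w => by
    rw [mul_inv_eq_iff_eq_mul]
    exact Units.ext (by simpa [Quad.Wm] using hT w)
  have g1 : Q.W (1, 0, 0, 0) = Q.a1 := by simp [Quad.W, ZMod.val_one]
  have g2 : Q.W (0, 1, 0, 0) = Q.b1 := by simp [Quad.W, ZMod.val_one]
  have g3 : Q.W (0, 0, 1, 0) = Q.a2 := by simp [Quad.W, ZMod.val_one]
  have g4 : Q.W (0, 0, 0, 1) = Q.b2 := by simp [Quad.W, ZMod.val_one]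
  have hTN : T ∈ subgroupNormalizer R := by
    refine Q.mem_normalizer_of_gens hgen ?_ ?_ ?_ ?_
    · rw [← g1, hconj]; exact Q.moved.W_mem _
    · rw [← g2, hconj]; exact Q.moved.W_mem _
    · rw [← g3, hconj]; exact Q.moved.W_mem _
    · rw [← g4, hconj]; exact Q.moved.W_mem _
  obtain ⟨A⟩ := Q.exists_act hι h2 hgen hTN
  have hσ : ∀ w, A.σ w = Lf w := by
    have hb : ∀ e : E, ∀ v : E, Q.moved.W e = Q.W v → A.σ e = v := by
      intro e v h
      have h' := (A.eq e).symm.trans (hT e)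
      rw [show Q.moved.Wm e = Q.Wm v from congrArg Units.val h,
        ← one_smul F (Q.Wm v * (T : Mat))] at h'
      exact (Q.add_right_cancel_word hι h2 (A.t_ne _) h').1
    have b1 : A.σ (1, 0, 0, 0) = (0, 1, 0, 0) :=
      hb _ _ (by simp [Quad.W, Quad.moved, ZMod.val_one])
    have b2 : A.σ (0, 1, 0, 0) = (1, 1, 0, 1) :=
      hb _ _ (by simp [Quad.W, Quad.moved, ZMod.val_one])
    have b3 : A.σ (0, 0, 1, 0) = (0, 0, 0, 1) :=
      hb _ _ (by simp [Quad.W, Quad.moved, ZMod.val_one])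
    have b4 : A.σ (0, 0, 0, 1) = (0, 1, 1, 0) :=
      hb _ _ (by simp [Quad.W, Quad.moved, ZMod.val_one])
    rintro ⟨x, y, z, u⟩
    have e : ((x, y, z, u) : E) = (x, 0, 0, 0) + (0, y, 0, 0) + (0, 0, z, 0) + (0, 0, 0, u) := by simp
    have z0 : A.σ (0, 0, 0, 0) = Lf (0, 0, 0, 0) := A.σ_zero.trans (by decide)
    have c1 : A.σ (x, 0, 0, 0) = Lf (x, 0, 0, 0) := by
      rcases two_cases x with rfl | rfl; exacts [z0, b1.trans (by decide)]
    have c2 : A.σ (0, y, 0, 0) = Lf (0, y, 0, 0) := by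
      rcases two_cases y with rfl | rfl; exacts [z0, b2.trans (by decide)]
    have c3 : A.σ (0, 0, z, 0) = Lf (0, 0, z, 0) := by
      rcases two_cases z with rfl | rfl; exacts [z0, b3.trans (by decide)]
    have c4 : A.σ (0, 0, 0, u) = Lf (0, 0, 0, u) := by
      rcases two_cases u with rfl | rfl; exacts [z0, b4.trans (by decide)]
    rw [e, A.add, A.add, A.add, c1, c2, c3, c4, ← Lf_add, ← Lf_add, ← Lf_add]
  have h5 : ∀ w, (A.σ ^ 5) w = w := fun w => by
    simp only [pow_succ', pow_zero, Equiv.Perm.mul_apply, Equiv.Perm.one_apply, hσ]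
    exact Lf_five w
  -- the fifth power moves each word by a sign
  have hsg : ∀ w, ∃ e : ZMod 2, ((T ^ 5 : GL ι F) : Mat) * Q.Wm w =
      (sgn e : F) • (Q.Wm w * ((T ^ 5 : GL ι F) : Mat)) := by
    intro w
    obtain ⟨c, hc, h⟩ := A.pow_eq 5 w
    rw [h5] at h
    set G := ((T ^ 5 : GL ι F) : Mat)
    have h2' : G * (Q.Wm w * Q.Wm w) = (c * c) • (Q.Wm w * Q.Wm w * G) := by
      rw [← mul_assoc, h, smul_mul_assoc, mul_assoc, h, mul_smul_comm, smul_smul, ← mul_assoc]
    rw [show Q.Wm w * Q.Wm w = (sgn (qf w) : F) • (1 : Mat) from Q.W_sq w, mul_smul_comm, mul_one,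
      smul_mul_assoc, one_mul, smul_smul] at h2'
    have h3 : c * c = 1 := by
      have h4 : (1 * sgn (qf w) : F) • G = (c * c * sgn (qf w)) • G := by rw [one_mul]; exact h2'
      exact (mul_right_cancel₀ (sgn_ne_zero _)
        (smul_left_injective F (T ^ 5).ne_zero h4)).symm
    obtain ⟨e, rfl⟩ := exists_sgn h3
    exact ⟨e, h⟩
  obtain ⟨e₁, h1⟩ := hsg (1, 0, 0, 0)
  obtain ⟨e₂, h2'⟩ := hsg (0, 1, 0, 0)
  obtain ⟨e₃, h3⟩ := hsg (0, 0, 1, 0)
  obtain ⟨e₄, h4⟩ := hsg (0, 0, 0, 1)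
  simp only [Quad.Wm, g1, g2, g3, g4] at h1 h2' h3 h4
  obtain ⟨v, c, -, hv⟩ := Q.exists_word hι h2 h1 h2' h3 h4
  refine ⟨T ^ 4, Subgroup.pow_mem _ hTN 4, ⟨c ^ 4, ?_⟩, fun d hd => ?_⟩
  · have h22 : Q.Wm v ^ 4 = 1 := by
      rw [show (4 : ℕ) = 2 * 2 from rfl, pow_mul, pow_two, pow_two,
        show Q.Wm v * Q.Wm v = _ from Q.W_sq v,
        smul_mul_assoc, one_mul, smul_smul, sgn_sq, one_smul]
    rw [← pow_mul, show 4 * 5 = 5 * 4 from rfl, pow_mul, Units.val_pow_eq_pow_val, hv, smul_pow, h22]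
  · obtain ⟨c', hc', h⟩ := A.pow_eq 4 (1, 0, 0, 0)
    rw [hd] at h
    simp only [smul_mul_assoc, one_mul, mul_smul_comm, mul_one, smul_smul] at h
    have hd0 : d ≠ 0 := fun h0 => (T ^ 4).ne_zero (by rw [hd, h0, zero_smul])
    have := (Q.word_inj hι h2 hd0 h).1
    simp only [pow_succ', pow_zero, Equiv.Perm.mul_apply, Equiv.Perm.one_apply, hσ] at this
    exact Lf_four this.symm

end Quad

end Cfsg.Agent.Lib.Elusive19.Pauli4
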