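/-
An element of order five of the normalizer preserves any form preserved by the group.
-/
import Cfsg.Agent.Lib.Elusive19.Pauli4.Intertwine
import Mathlib.FieldTheory.Finite.Basic

set_option autoImplicit false
set_option linter.unusedSectionVars false

namespace Cfsg.Agent.Lib.Elusive19.Pauli4

open Cfsg.Geo
open scoped Matrix MatrixGroups

variable {F : Type*} [Field F] {ι : Type} [Fintype ι] [DecidableEq ι]

local notation "Mat" => Matrix ι ι F

/-- The form is preserved. -/
theorem preserves_form [Nonempty ι] {R : Subgroup (GL ι F)}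
    (habs : ActsAbsolutelyIrreducibly (matrixSet R)) (τ : Mat → Mat)
    (hτ : ∀ a b, τ (a * b) = τ b * τ a) (hτ1 : τ 1 = 1) {J Ji : Mat} (hJ : Ji * J = 1) (hJ' : J * Ji = 1)
    (hR : ∀ s ∈ R, τ (s : Mat) * J * (s : Mat) = J) {y : GL ι F} (hy : y ∈ subgroupNormalizer R)
    (hy5 : y ^ 5 = 1) (hroot : ∀ c : F, c ^ 5 = 1 → c = 1) : τ (y : Mat) * J * (y : Mat) = J := by
  have hcomm : ∀ s ∈ matrixSet R, (Ji * (τ (y : Mat) * J * (y : Mat))) * s =
      s * (Ji * (τ (y : Mat) * J * (y : Mat))) := by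
    rintro _ ⟨s, hs, rfl⟩
    obtain ⟨t, ht, hyt⟩ : ∃ t ∈ R, y * s = t * y := by
      refine ⟨y * s * y⁻¹, (Subgroup.mem_normalizer_iff.mp hy s).mp hs, ?_⟩
      rw [inv_mul_cancel_right]
    set K := τ (y : Mat) * J * (y : Mat)
    have h1 : τ (s : Mat) * K * (s : Mat) = K := by
      calc τ (s : Mat) * K * (s : Mat) = τ ((y : Mat) * s) * J * ((y : Mat) * s) := by
            rw [hτ]; simp only [K, mul_assoc]
        _ = τ ((t : Mat) * y) * J * ((t : Mat) * y) := by rw [← Units.val_mul, hyt, Units.val_mul]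
        _ = τ (y : Mat) * (τ (t : Mat) * J * (t : Mat)) * (y : Mat) := by
            rw [hτ]; simp only [mul_assoc]
        _ = K := by rw [hR t ht]
    have hs' := hR s hs
    have h2 : (s : Mat) * Ji * τ (s : Mat) = Ji := by
      have h3 : Ji * τ (s : Mat) * J * (s : Mat) = 1 := by
        rw [mul_assoc Ji, mul_assoc Ji, hs', hJ]
      have h4 := mul_eq_one_comm.mp h3
      calc (s : Mat) * Ji * τ (s : Mat) = (s : Mat) * (Ji * τ (s : Mat) * J) * Ji := by
            simp only [mul_assoc, hJ', mul_one]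
        _ = Ji := by rw [h4, one_mul]
    show Ji * K * (s : Mat) = (s : Mat) * (Ji * K)
    calc Ji * K * (s : Mat) = (s : Mat) * Ji * τ (s : Mat) * K * (s : Mat) := by rw [h2]
      _ = (s : Mat) * Ji * (τ (s : Mat) * K * (s : Mat)) := by simp only [mul_assoc]
      _ = _ := by rw [h1, mul_assoc]
  obtain ⟨c, hc⟩ := habs.2 _ hcomm
  have hK : τ (y : Mat) * J * (y : Mat) = c • J := by
    have h := congrArg (fun M => J * M) hc
    simp only [mul_smul_comm, mul_one] at h
    rwa [← mul_assoc, hJ', one_mul] at h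
  have hn : ∀ n : ℕ, τ ((y : Mat) ^ n) * J * (y : Mat) ^ n = c ^ n • J := by
    intro n
    induction n with
    | zero => simp [hτ1]
    | succ n ih =>
      calc τ ((y : Mat) ^ (n + 1)) * J * (y : Mat) ^ (n + 1)
          = τ ((y : Mat) ^ n) * (τ (y : Mat) * J * (y : Mat)) * (y : Mat) ^ n := by
            rw [pow_succ', hτ]; simp only [mul_assoc]
        _ = c ^ (n + 1) • J := by
            rw [hK, mul_smul_comm, smul_mul_assoc, ih, smul_smul, ← pow_succ']
  have h5 := hn 5
  rw [← Units.val_pow_eq_pow_val, hy5, Units.val_one, hτ1, one_mul, mul_one] at h5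
  have hJ0 : J ≠ 0 := fun h => one_ne_zero (α := Mat) (by rw [← hJ, h, mul_zero])
  have : c ^ 5 = 1 := smul_left_injective F hJ0 (show c ^ 5 • J = (1 : F) • J by rw [one_smul, ← h5])
  rw [hK, hroot c this, one_smul]

/-- Fifth roots are unique when five does not divide the number of units. -/
theorem fifth_root [Fintype F] (h : ¬ 5 ∣ Fintype.card F - 1) :
    (∀ c : F, c ^ 5 = 1 → c = 1) ∧ ∀ s : F, s ≠ 0 → ∃ c : F, c ≠ 0 ∧ c ^ 5 * s = 1 := by
  classical
  have hcop : (Nat.card Fˣ).Coprime 5 := by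
    rw [Nat.card_eq_fintype_card, Fintype.card_units]
    exact ((show Nat.Prime 5 by norm_num).coprime_iff_not_dvd.mpr h).symm
  refine ⟨fun c hc => ?_, fun s hs => ?_⟩
  · have hc0 : c ≠ 0 := by rintro rfl; simp at hc
    have : (powCoprime hcop) (Units.mk0 c hc0) = (powCoprime hcop) 1 := by
      ext; simp [hc]
    exact congrArg Units.val ((powCoprime hcop).injective this)
  · obtain ⟨c, hc⟩ := (powCoprime hcop).surjective (Units.mk0 s hs)⁻¹
    refine ⟨c, c.ne_zero, ?_⟩
    have := congrArg Units.val hc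
    simp at this
    rw [this, inv_mul_cancel₀ hs]

/-- An element of order five of the normalizer. -/
theorem exists_five_exact [Fintype F] {R : Subgroup (GL ι F)} (Q : Quad R) (hι : Fintype.card ι = 4)
    (h2 : (2 : F) ≠ 0) (hgen : ∀ x ∈ R, ∃ (v : E) (c : F), c ≠ 0 ∧ (x : Mat) = c • Q.Wm v)
    (h : ¬ 5 ∣ Fintype.card F - 1) :
    ∃ y ∈ subgroupNormalizer R, y ^ 5 = 1 ∧ y ≠ 1 ∧ (y : Mat).det = 1 := by
  haveI : Nonempty ι := Fintype.card_pos_iff.mp (by omega)
  obtain ⟨g, hg, ⟨s, hs⟩, hns⟩ := Q.exists_five hι h2 hgen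
  have hs0 : s ≠ 0 := fun h0 => (g ^ 5).ne_zero (by rw [hs, h0, zero_smul])
  obtain ⟨hroot, hsurj⟩ := fifth_root h
  obtain ⟨c, hc, hcs⟩ := hsurj s hs0
  have h5 : (c • (g : Mat)) ^ 5 = 1 := by
    rw [smul_pow, ← Units.val_pow_eq_pow_val, hs, smul_smul, hcs, one_smul]
  let y : GL ι F := Units.ofPowEqOne _ 5 h5 (by norm_num)
  have hy : (y : Mat) = c • (g : Mat) := rfl
  have hy5 : y ^ 5 = 1 := Units.ext (by rw [Units.val_pow_eq_pow_val, hy, h5, Units.val_one])
  refine ⟨y, mem_normalizer_smul hg hy, hy5, fun h1 => hns c⁻¹ ?_, hroot _ ?_⟩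
  · have : (y : Mat) = 1 := by rw [h1, Units.val_one]
    rw [← this, hy, smul_smul, inv_mul_cancel₀ hc, one_smul]
  · rw [← Matrix.det_pow, ← Units.val_pow_eq_pow_val, hy5, Units.val_one, Matrix.det_one]

end Cfsg.Agent.Lib.Elusive19.Pauli4
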