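/-
Elements with a large commutant are not conjugate into the normalizer.
-/
import Cfsg.Agent.Lib.Elusive19.Pauli4.Setup
import Mathlib.LinearAlgebra.Matrix.Determinant.Basic
import Mathlib.LinearAlgebra.Dimension.Constructions

set_option autoImplicit false
set_option linter.unusedSectionVars false

namespace Cfsg.Agent.Lib.Elusive19.Pauli4

open Cfsg.Geo Module
open scoped Matrix MatrixGroups

variable {F : Type*} [Field F] {ι : Type} [Fintype ι] [DecidableEq ι]

local notation "Mat" => Matrix ι ι F

/-- Everything the group provides. -/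
structure Frame (R : Subgroup (GL ι F)) where
  Q : Quad R
  hι : Fintype.card ι = 4
  h2 : (2 : F) ≠ 0
  gen : ∀ x ∈ R, ∃ (v : E) (c : F), c ≠ 0 ∧ (x : Mat) = c • Q.Wm v

theorem conj_pow_scalar (g x : GL ι F) (r : ℕ) {z : F} (hz : ((x ^ r : GL ι F) : Mat) = z • 1) :
    (((g⁻¹ * x * g) ^ r : GL ι F) : Mat) = z • 1 := by
  have e : (g⁻¹ * x * g) ^ r = g⁻¹ * x ^ r * g := by
    have := (map_pow (MulAut.conj g⁻¹) x r).symm
    simpa [mul_assoc] using this
  rw [e, Units.val_mul, Units.val_mul, hz, mul_smul_comm, mul_one, smul_mul_assoc, Units.inv_mul]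

theorem conj_nonscalar (g x : GL ι F) (hns : ∀ c : F, (x : Mat) ≠ c • 1) (c : F) :
    ((g⁻¹ * x * g : GL ι F) : Mat) ≠ c • 1 := fun h => by
  refine hns c ?_
  have h' := congrArg (fun M => (g : Mat) * M * ((g⁻¹ : GL ι F) : Mat)) h
  simpa [mul_assoc, smul_mul_assoc, mul_smul_comm] using h'

theorem finrank_commutant_conj (g x : GL ι F) :
    finrank F (Act.commutant x) ≤ finrank F (Act.commutant (g⁻¹ * x * g)) := by
  let f : Mat →ₗ[F] Mat :=
    (LinearMap.mulLeft F ((g⁻¹ : GL ι F) : Mat)).comp (LinearMap.mulRight F (g : Mat))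
  have hf : Function.Injective f := by
    intro a b h
    simp only [f, LinearMap.comp_apply, LinearMap.mulLeft_apply, LinearMap.mulRight_apply] at h
    exact g.isUnit.mul_right_cancel ((g⁻¹).isUnit.mul_left_cancel h)
  have hmap : ∀ X ∈ Act.commutant x, f X ∈ Act.commutant (g⁻¹ * x * g) := by
    intro X hX
    rw [Act.mem_commutant] at hX ⊢
    have hcongr := congrArg (fun M => ((g⁻¹ : GL ι F) : Mat) * M * (g : Mat)) hX
    simpa [f, mul_assoc] using hcongr
  exact LinearMap.finrank_le_finrank_of_injective (f := f.restrict hmap)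
    (fun a b h => Subtype.ext (hf (congrArg Subtype.val h)))

namespace Frame

variable {R : Subgroup (GL ι F)} (D : Frame R)

include D

theorem nonempty_ι : Nonempty ι := Fintype.card_pos_iff.mp (by rw [D.hι]; norm_num)

theorem not_conj_large {x g : GL ι F} {r : ℕ} (hr : r.Prime) (hr7 : 7 ≤ r) {z : F}
    (hz : ((x ^ r : GL ι F) : Mat) = z • 1) (hns : ∀ c : F, (x : Mat) ≠ c • 1) :
    g⁻¹ * x * g ∉ subgroupNormalizer R := fun hmem => by
  obtain ⟨A⟩ := D.Q.exists_act D.hι D.h2 D.gen hmem
  obtain ⟨c, hc⟩ := A.scalar_of_large D.hι D.h2 hr hr7 (conj_pow_scalar g x r hz)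
  exact conj_nonscalar g x hns c hc

theorem not_conj_five {x g : GL ι F} {z : F} (hz : ((x ^ 5 : GL ι F) : Mat) = z • 1)
    (hns : ∀ c : F, (x : Mat) ≠ c • 1) (hcom : 5 ≤ finrank F (Act.commutant x)) :
    g⁻¹ * x * g ∉ subgroupNormalizer R := fun hmem => by
  obtain ⟨A⟩ := D.Q.exists_act D.hι D.h2 D.gen hmem
  have h := ((A.commutant_bound D.hι D.h2 (by norm_num) (Or.inr rfl) (conj_pow_scalar g x 5 hz)
    (conj_nonscalar g x hns)).2 rfl)
  have := finrank_commutant_conj g x
  omega

theorem not_conj_three {x g : GL ι F} {z : F} (hz : ((x ^ 3 : GL ι F) : Mat) = z • 1)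
    (hns : ∀ c : F, (x : Mat) ≠ c • 1) (hcom : 9 ≤ finrank F (Act.commutant x)) :
    g⁻¹ * x * g ∉ subgroupNormalizer R := fun hmem => by
  obtain ⟨A⟩ := D.Q.exists_act D.hι D.h2 D.gen hmem
  have h := ((A.commutant_bound D.hι D.h2 Nat.prime_three (Or.inl rfl) (conj_pow_scalar g x 3 hz)
    (conj_nonscalar g x hns)).1 rfl).1
  have := finrank_commutant_conj g x
  omega

end Frame

/-- A scalar multiple of a transvection or a pseudo-reflection has a commutant of dimension nine. -/
theorem nine_le_commutant (hι : Fintype.card ι = 4) {x : GL ι F} {c : F} {u w : ι → F}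
    (hx : (x : Mat) = c • (1 + Matrix.vecMulVec u w)) (hu : u ≠ 0) :
    9 ≤ finrank F (Act.commutant x) := by
  classical
  obtain ⟨j, hj⟩ := Function.ne_iff.mp hu
  let f : Mat →ₗ[F] (ι → F) × ({k : ι // k ≠ j} → F) :=
    { toFun := fun X => (X *ᵥ u, fun k => (w ᵥ* X) k.1)
      map_add' := fun X Y => by
        ext
        · simp [Matrix.add_mulVec]
        · simp [Matrix.vecMul_add]
      map_smul' := fun a X => by
        ext
        · simp [Matrix.smul_mulVec]
        · simp [Matrix.vecMul_smul] }
  have hle : LinearMap.ker f ≤ Act.commutant x := by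
    intro X hX
    have h1 : X *ᵥ u = 0 := congrArg Prod.fst (LinearMap.mem_ker.mp hX)
    have h2 : ∀ k, k ≠ j → (w ᵥ* X) k = 0 := fun k hk =>
      congrFun (congrArg Prod.snd (LinearMap.mem_ker.mp hX)) ⟨k, hk⟩
    have h3 : w ᵥ* X = 0 := by
      funext k
      by_cases hk : k = j
      · subst hk
        have h4 : (w ᵥ* X) ⬝ᵥ u = 0 := by rw [← Matrix.dotProduct_mulVec, h1, dotProduct_zero]
        rw [dotProduct, Finset.sum_eq_single k (fun b _ hb => by rw [h2 b hb, zero_mul]) (by simp)]
          at h4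
        exact (mul_eq_zero.mp h4).resolve_right hj
      · exact h2 k hk
    rw [Act.mem_commutant, hx, smul_mul_assoc, mul_smul_comm, add_mul, mul_add, one_mul, mul_one,
      Matrix.vecMulVec_mul, h3, Matrix.mul_vecMulVec, h1]
    simp
  refine le_trans ?_ (Submodule.finrank_mono hle)
  have hrank := f.finrank_range_add_finrank_ker
  rw [finrank_matrix, finrank_self, hι] at hrank
  have hr := Submodule.finrank_le (LinearMap.range f)
  rw [finrank_prod, finrank_pi, finrank_pi, hι, Fintype.card_subtype_compl, Fintype.card_subtype_eq,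
    hι] at hr
  omega

/-- An element fixing two coordinates has a commutant of dimension five. -/
theorem five_le_commutant {x : GL ι F} (i : Fin 2 → ι) (hi : Function.Injective i) {l : ι}
    (hl : ∀ a, i a ≠ l) (hcol : ∀ a k, (x : Mat) k (i a) = if k = i a then 1 else 0)
    (hrow : ∀ a k, (x : Mat) (i a) k = if i a = k then 1 else 0) :
    5 ≤ finrank F (Act.commutant x) := by
  classical
  let f : (Matrix (Fin 2) (Fin 2) F) × F →ₗ[F] Mat :=
    { toFun := fun T => T.2 • (1 : Mat) + ∑ a, ∑ b, T.1 a b • Matrix.single (i a) (i b) (1 : F)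
      map_add' := fun T T' => by simp only [Prod.fst_add, Prod.snd_add, Matrix.add_apply, add_smul,
        Finset.sum_add_distrib]; abel
      map_smul' := fun c T => by simp only [Prod.smul_fst, Prod.smul_snd, Matrix.smul_apply,
        smul_eq_mul, mul_smul, Finset.smul_sum, smul_add, RingHom.id_apply] }
  have hf : Function.Injective f := by
    refine (injective_iff_map_eq_zero f).mpr fun T hT => ?_
    have hl' := congrFun₂ hT l l
    simp [f, Matrix.sum_apply, Matrix.single_apply, hl] at hl'
    refine Prod.ext (Matrix.ext fun a b => ?_) hl'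
    have h := congrFun₂ hT (i a) (i b)
    simp [f, hl', Matrix.sum_apply, Matrix.single_apply, hi.eq_iff, ite_and] at h
    fin_cases a <;> fin_cases b <;> simpa using h
  have hmem : ∀ T, f T ∈ Act.commutant x := by
    intro T
    rw [Act.mem_commutant]
    simp only [f, LinearMap.coe_mk, AddHom.coe_mk, mul_add, add_mul, mul_smul_comm, smul_mul_assoc,
      Finset.mul_sum, Finset.sum_mul, mul_one, one_mul]
    congr 1
    refine Finset.sum_congr rfl fun a _ => Finset.sum_congr rfl fun b _ => ?_
    congr 1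
    ext m n
    simp only [Matrix.mul_apply, Matrix.single_apply, ite_and, mul_ite, ite_mul, mul_one, one_mul,
      mul_zero, zero_mul, Finset.sum_ite_irrel, Finset.sum_const_zero, Finset.sum_ite_eq,
      Finset.sum_ite_eq', Finset.mem_univ, if_true]
    rw [hcol, hrow]
    split_ifs <;> simp_all
  have := LinearMap.finrank_le_finrank_of_injective (f := f.codRestrict _ hmem)
    (fun a b h => hf (congrArg Subtype.val h))
  rwa [finrank_prod, finrank_matrix, finrank_self, Fintype.card_fin] at this

/-- The two by two matrices of determinant one satisfy their equation. -/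
theorem sq_of_det_one {t : F} {C : Matrix (Fin 2) (Fin 2) F} (ht : C 0 0 + C 1 1 = t)
    (hd : C 0 0 * C 1 1 - C 0 1 * C 1 0 = 1) : C * C = t • C - 1 := by
  ext a b
  fin_cases a <;> fin_cases b <;> simp [Matrix.mul_apply, Fin.sum_univ_two, ← ht] <;>
    first | ring1 | linear_combination -hd

theorem pow_five_of_sq {t : F} {C : Matrix (Fin 2) (Fin 2) F} (h : C * C = t • C - 1)
    (ht : t * t + t = 1) : C ^ 5 = 1 := by
  have h3 : C ^ 3 = -(t • C) - t • 1 := by
    rw [pow_succ, pow_two, h, sub_mul, smul_mul_assoc, h, one_mul, smul_sub, smul_smul]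
    have e : (t * t) • C - C = -(t • C) := by
      rw [show t * t = 1 - t by linear_combination ht, sub_smul, one_smul]; abel
    rw [← e]; abel
  have h4 : C ^ 4 = -C + t • 1 := by
    rw [pow_succ, h3, sub_mul, neg_mul, smul_mul_assoc, h, smul_mul_assoc, one_mul, smul_sub,
      smul_smul]
    have e : -((t * t) • C) - t • C = -C := by
      rw [← neg_add', ← add_smul, ht, one_smul]
    rw [← e]; abel
  rw [pow_succ, h4, add_mul, neg_mul, h, smul_mul_assoc, one_mul]
  abel

theorem pow_three_of_sq {C : Matrix (Fin 2) (Fin 2) F} (h : C * C = (-1 : F) • C - 1) : C ^ 3 = 1 := by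
  rw [pow_succ, pow_two, h, sub_mul, smul_mul_assoc, h, one_mul, smul_sub, smul_smul, neg_one_smul]
  simp

/-- A two by two matrix acting on two coordinates. -/
def emb (j k : ι) (C : Matrix (Fin 2) (Fin 2) F) : Mat := Matrix.of fun a b =>
  if a = j then (if b = j then C 0 0 else if b = k then C 0 1 else 0)
  else if a = k then (if b = j then C 1 0 else if b = k then C 1 1 else 0)
  else if a = b then 1 else 0

section emb

variable {j k : ι} (hjk : j ≠ k)
include hjk

theorem emb_one : emb j k (1 : Matrix (Fin 2) (Fin 2) F) = (1 : Mat) := by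
  ext a b
  simp only [emb, Matrix.of_apply, Matrix.one_apply]
  split_ifs <;> simp_all

theorem emb_mulVec (C : Matrix (Fin 2) (Fin 2) F) (v : ι → F) (a : ι) : (emb j k C *ᵥ v) a =
    if a = j then C 0 0 * v j + C 0 1 * v k else if a = k then C 1 0 * v j + C 1 1 * v k else v a := by
  simp only [Matrix.mulVec, dotProduct, emb, Matrix.of_apply]
  split_ifs with h1 h2
  · rw [Finset.sum_eq_add j k hjk (fun b _ hb => by simp [hb.1, hb.2]) (by simp) (by simp)]
    simp [hjk.symm]
  · rw [Finset.sum_eq_add j k hjk (fun b _ hb => by simp [hb.1, hb.2]) (by simp) (by simp)]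
    simp [hjk.symm]
  · simp

theorem emb_mul (C C' : Matrix (Fin 2) (Fin 2) F) : emb j k C * emb j k C' = emb j k (C * C') := by
  refine Matrix.ext_of_mulVec_single fun l => ?_
  funext a
  rw [← Matrix.mulVec_mulVec]
  simp only [emb_mulVec hjk, if_true, if_neg hjk.symm, Matrix.mul_apply, Fin.sum_univ_two]
  split_ifs <;> ring

theorem emb_pow (C : Matrix (Fin 2) (Fin 2) F) (n : ℕ) : emb j k C ^ n = emb j k (C ^ n) := by
  induction n with
  | zero => rw [pow_zero, pow_zero, emb_one hjk]
  | succ n ih => rw [pow_succ, pow_succ, ih, emb_mul hjk]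

theorem emb_ne_scalar {l : ι} (hlj : l ≠ j) (hlk : l ≠ k) {C : Matrix (Fin 2) (Fin 2) F} (hC : C ≠ 1)
    (c : F) : emb j k C ≠ c • (1 : Mat) := by
  intro h
  have hc : c = 1 := by
    have := congrFun₂ h l l
    simpa [emb, hlj, hlk] using this.symm
  rw [hc, one_smul] at h
  have h00 := congrFun₂ h j j
  have h01 := congrFun₂ h j k
  have h10 := congrFun₂ h k j
  have h11 := congrFun₂ h k k
  simp [emb, hjk, hjk.symm] at h00 h01 h10 h11
  refine hC (Matrix.ext fun a b => ?_)
  fin_cases a <;> fin_cases b <;> simpa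

theorem trace_emb (hι : Fintype.card ι = 4) (C : Matrix (Fin 2) (Fin 2) F) :
    (emb j k C).trace = C 0 0 + C 1 1 + 2 := by
  classical
  rw [Matrix.trace, ← Finset.add_sum_erase _ _ (Finset.mem_univ j),
    ← Finset.add_sum_erase _ _ (Finset.mem_erase.mpr ⟨hjk.symm, Finset.mem_univ k⟩)]
  rw [Finset.sum_congr rfl (fun a ha => by
    simp only [Finset.mem_erase] at ha
    show Matrix.diag (emb j k C) a = 1
    simp [emb, ha.1, ha.2.1])]
  rw [Finset.sum_const, Finset.card_erase_of_mem (Finset.mem_erase.mpr ⟨hjk.symm, Finset.mem_univ k⟩),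
    Finset.card_erase_of_mem (Finset.mem_univ j), Finset.card_univ, hι]
  simp [emb, hjk.symm, add_assoc]

theorem five_le_emb {x : GL ι F} (hι : Fintype.card ι = 4) {C : Matrix (Fin 2) (Fin 2) F}
    (hx : (x : Mat) = emb j k C) : 5 ≤ finrank F (Act.commutant x) := by
  classical
  have hc : Fintype.card {a : ι // a ≠ j ∧ a ≠ k} = 2 := by
    rw [Fintype.card_subtype, show (Finset.univ.filter fun a : ι => a ≠ j ∧ a ≠ k) =
      (Finset.univ.erase j).erase k by ext; simp [and_comm],
      Finset.card_erase_of_mem (Finset.mem_erase.mpr ⟨hjk.symm, Finset.mem_univ k⟩),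
      Finset.card_erase_of_mem (Finset.mem_univ j), Finset.card_univ, hι]
  let e := (Fintype.equivFinOfCardEq hc).symm
  refine five_le_commutant (fun a => (e a).1) (fun a b h => e.injective (Subtype.ext h)) (l := j)
    (fun a => (e a).2.1) (fun a m => ?_) (fun a m => ?_)
  · rw [hx]; simp only [emb, Matrix.of_apply, if_neg (e a).2.1, if_neg (e a).2.2]
    obtain ⟨a', h1, h2⟩ := e a
    split_ifs <;> simp_all
  · rw [hx]; simp only [emb, Matrix.of_apply, if_neg (e a).2.1, if_neg (e a).2.2]

end emb

end Cfsg.Agent.Lib.Elusive19.Pauli4
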