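/-
Elements of order two and three in the normalizer.
-/
import Cfsg.Agent.Lib.Elusive19.Pauli4.Witness
import Mathlib.Tactic.Module

set_option autoImplicit false
set_option linter.unusedSectionVars false

namespace Cfsg.Agent.Lib.Elusive19.Pauli4

open Cfsg.Geo
open scoped Matrix MatrixGroups

variable {F : Type*} [Field F] {ι : Type} [Fintype ι] [DecidableEq ι]

local notation "Mat" => Matrix ι ι F

/-- The element of order three of a quaternion pair. -/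
def hQ (a b : Mat) : Mat := (2 : F)⁻¹ • (-1 + a + b + a * b)

/-- The involution of a pair of commuting involutions. -/
def jInv (a b : Mat) : Mat := (2 : F)⁻¹ • (1 + a + b - a * b)

section pair

variable (h2 : (2 : F) ≠ 0) {a b : Matrix ι ι F}

include h2

theorem hQ_sq (ha : a * a = -1) (hb : b * b = -1) (hba : b * a = -(a * b)) :
    hQ a b * hQ a b = -hQ a b - 1 := by
  have e1 : ∀ x, a * (a * x) = -x := fun x => by rw [← mul_assoc, ha, neg_one_mul]
  have e2 : ∀ x, b * (b * x) = -x := fun x => by rw [← mul_assoc, hb, neg_one_mul]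
  have e3 : ∀ x, b * (a * x) = -(a * (b * x)) := fun x => by
    rw [← mul_assoc, hba, neg_mul, mul_assoc]
  simp only [hQ, smul_mul_assoc, mul_smul_comm, mul_add, add_mul, mul_neg, neg_mul, one_mul, mul_one,
    mul_assoc, ha, hb, hba, e1, e2, e3, neg_neg, smul_smul]
  match_scalars <;> field_simp <;> ring

theorem hQ_cube (ha : a * a = -1) (hb : b * b = -1) (hba : b * a = -(a * b)) :
    hQ a b * (hQ a b * hQ a b) = 1 := by
  rw [hQ_sq h2 ha hb hba, mul_sub, mul_neg, hQ_sq h2 ha hb hba, mul_one]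
  abel

omit h2 in
theorem hQ_conj_left (ha : a * a = -1) (hb : b * b = -1) (hba : b * a = -(a * b)) :
    hQ a b * a = a * b * hQ a b := by
  have e2 : ∀ x, b * (b * x) = -x := fun x => by rw [← mul_assoc, hb, neg_one_mul]
  have e3 : ∀ x, b * (a * x) = -(a * (b * x)) := fun x => by
    rw [← mul_assoc, hba, neg_mul, mul_assoc]
  have e1 : ∀ x, a * (a * x) = -x := fun x => by rw [← mul_assoc, ha, neg_one_mul]
  simp only [hQ, smul_mul_assoc, mul_smul_comm, mul_add, add_mul, mul_neg, neg_mul, one_mul, mul_one,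
    mul_assoc, ha, hb, hba, e1, e2, e3, neg_neg]
  congr 1
  abel

omit h2 in
theorem hQ_conj_right (ha : a * a = -1) (hb : b * b = -1) (hba : b * a = -(a * b)) :
    hQ a b * b = a * hQ a b := by
  have e1 : ∀ x, a * (a * x) = -x := fun x => by rw [← mul_assoc, ha, neg_one_mul]
  simp only [hQ, smul_mul_assoc, mul_smul_comm, mul_add, add_mul, mul_neg, neg_mul, one_mul, mul_one,
    mul_assoc, ha, hb, hba, e1, neg_neg]
  congr 1
  abel

omit h2 in
theorem commute_hQ {x : Mat} (hxa : Commute x a) (hxb : Commute x b) : Commute x (hQ a b) := by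
  unfold hQ
  exact Commute.smul_right
    (((((Commute.one_right x).neg_right).add_right hxa).add_right hxb).add_right (hxa.mul_right hxb)) _

theorem jInv_sq (ha : a * a = 1) (hb : b * b = 1) (hab : Commute a b) :
    jInv a b * jInv a b = 1 := by
  have e1 : ∀ x, a * (a * x) = x := fun x => by rw [← mul_assoc, ha, one_mul]
  have e3 : ∀ x, b * (a * x) = a * (b * x) := fun x => by rw [← mul_assoc, ← hab.eq, mul_assoc]
  simp only [jInv, smul_mul_assoc, mul_smul_comm, mul_add, add_mul, mul_sub, sub_mul, one_mul, mul_one,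
    mul_assoc, ha, hb, hab.eq.symm, e1, e3, smul_smul]
  match_scalars <;> field_simp <;> ring

omit h2 in
theorem commute_jInv {x : Mat} (hxa : Commute x a) (hxb : Commute x b) : Commute x (jInv a b) := by
  unfold jInv
  exact Commute.smul_right
    ((((Commute.one_right x).add_right hxa).add_right hxb).sub_right (hxa.mul_right hxb)) _

omit h2 in
theorem jInv_anti_left {x : Mat} (hb : b * b = 1) (hab : Commute a b)
    (hxa : a * x = -(x * a)) (hxb : Commute x b) : jInv a b * x = x * b * jInv a b := by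
  have e3 : b * a = a * b := hab.eq.symm
  have e4 : ∀ y, b * (a * y) = a * (b * y) := fun y => by rw [← mul_assoc, e3, mul_assoc]
  have e5 : a * (x * b) = -(x * (a * b)) := by
    rw [← mul_assoc, hxa, neg_mul, mul_assoc]
  simp only [jInv, smul_mul_assoc, mul_smul_comm, mul_add, add_mul, mul_sub, sub_mul, one_mul, mul_one,
    mul_assoc, hxa, hb, e3, e4, e5, ← hxb.eq, mul_neg]
  congr 1
  abel

omit h2 in
theorem jInv_anti_right {x : Mat} (ha : a * a = 1) (hab : Commute a b)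
    (hxb : b * x = -(x * b)) (hxa : Commute x a) : jInv a b * x = x * a * jInv a b := by
  have e : jInv a b = jInv b a := by rw [jInv, jInv, hab.eq, add_right_comm (1 : Mat) a b]
  rw [e]
  exact jInv_anti_left ha hab.symm hxb hxa

end pair

/-- The generators as words. -/
theorem Quad.gens_eq {R : Subgroup (GL ι F)} (Q : Quad R) :
    (Q.a1 : Mat) = Q.Wm (1, 0, 0, 0) ∧ (Q.b1 : Mat) = Q.Wm (0, 1, 0, 0) ∧
      (Q.a2 : Mat) = Q.Wm (0, 0, 1, 0) ∧ (Q.b2 : Mat) = Q.Wm (0, 0, 0, 1) := by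
  refine ⟨?_, ?_, ?_, ?_⟩ <;> simp [Quad.Wm, Quad.W, ZMod.val_one]

namespace Frame

variable [Fintype F] {R : Subgroup (GL ι F)} (D : Frame R)

include D

/-- The first element of order three. -/
def hg : GL ι F :=
  ⟨hQ (D.Q.a2 : Mat) D.Q.b2, hQ (D.Q.a2 : Mat) D.Q.b2 * hQ (D.Q.a2 : Mat) D.Q.b2,
    hQ_cube D.h2 D.Q.a2_sq D.Q.b2_sq D.Q.anti2,
    by rw [mul_assoc]; exact hQ_cube D.h2 D.Q.a2_sq D.Q.b2_sq D.Q.anti2⟩

theorem hg_pow : D.hg ^ 3 = 1 :=
  Units.ext (by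
    simpa [pow_succ', pow_zero, hg] using hQ_cube D.h2 D.Q.a2_sq D.Q.b2_sq D.Q.anti2)

theorem hg_quad : (D.hg : Mat) * D.hg + D.hg + 1 = 0 := by
  show hQ (D.Q.a2 : Mat) D.Q.b2 * hQ (D.Q.a2 : Mat) D.Q.b2 + hQ (D.Q.a2 : Mat) D.Q.b2 + 1 = 0
  rw [hQ_sq D.h2 D.Q.a2_sq D.Q.b2_sq D.Q.anti2]
  abel

theorem hg_mem : D.hg ∈ subgroupNormalizer R := by
  have hconj : ∀ (x x' : GL ι F), x' ∈ R → (D.hg : Mat) * x = (x' : Mat) * D.hg →
      D.hg * x * D.hg⁻¹ ∈ R := by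
    intro x x' hx' h
    rwa [show D.hg * x = x' * D.hg from Units.ext h, mul_inv_cancel_right]
  refine D.Q.mem_normalizer_of_gens D.gen
    (hconj _ _ D.Q.a1_mem ((commute_hQ D.Q.c_aa D.Q.c_ab).symm.eq))
    (hconj _ _ D.Q.b1_mem ((commute_hQ D.Q.c_ba D.Q.c_bb).symm.eq))
    (hconj _ (D.Q.a2 * D.Q.b2) (R.mul_mem D.Q.a2_mem D.Q.b2_mem) ?_)
    (hconj _ D.Q.a2 D.Q.a2_mem ?_)
  · rw [Units.val_mul]; exact hQ_conj_left D.Q.a2_sq D.Q.b2_sq D.Q.anti2
  · exact hQ_conj_right D.Q.a2_sq D.Q.b2_sq D.Q.anti2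

section withI

variable {u : GL ι F} {i : F} (hu : u ∈ R) (hui : (u : Matrix ι ι F) = i • (1 : Matrix ι ι F))
  (hi : i * i = -1)

include hu hui hi

omit hu in
theorem twist_facts : (i • (D.Q.a1 : Mat)) * (i • (D.Q.a1 : Mat)) = -1 ∧
    (i • (D.Q.b1 : Mat)) * (i • (D.Q.b1 : Mat)) = -1 ∧
    (i • (D.Q.b1 : Mat)) * (i • (D.Q.a1 : Mat)) = -((i • (D.Q.a1 : Mat)) * (i • (D.Q.b1 : Mat))) ∧
    (i • (D.Q.a2 : Mat)) * (i • (D.Q.a2 : Mat)) = 1 := by
  simp [smul_smul, hi, D.Q.a1_sq, D.Q.b1_sq, D.Q.a2_sq, D.Q.anti1]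

omit hu hui in
/-- The second element of order three commutes with the first. -/
theorem exists_twist : ∃ g : GL ι F, (g : Mat) = hQ (i • (D.Q.a1 : Mat)) (i • (D.Q.b1 : Mat)) ∧
    g ^ 3 = 1 ∧ Commute g D.hg := by
  have hA : (i • (D.Q.a1 : Mat)) * (i • (D.Q.a1 : Mat)) = -1 := by simp [smul_smul, hi, D.Q.a1_sq]
  have hB : (i • (D.Q.b1 : Mat)) * (i • (D.Q.b1 : Mat)) = -1 := by simp [smul_smul, hi, D.Q.b1_sq]
  have hBA : (i • (D.Q.b1 : Mat)) * (i • (D.Q.a1 : Mat)) =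
      -((i • (D.Q.a1 : Mat)) * (i • (D.Q.b1 : Mat))) := by simp [smul_smul, hi, D.Q.anti1]
  refine ⟨⟨_, _, hQ_cube D.h2 hA hB hBA, by rw [mul_assoc]; exact hQ_cube D.h2 hA hB hBA⟩, rfl,
    Units.ext (by simpa [pow_succ', pow_zero] using hQ_cube D.h2 hA hB hBA), ?_⟩
  refine Units.ext ?_
  show hQ (i • (D.Q.a1 : Mat)) (i • (D.Q.b1 : Mat)) * hQ (D.Q.a2 : Mat) D.Q.b2 =
    hQ (D.Q.a2 : Mat) D.Q.b2 * hQ (i • (D.Q.a1 : Mat)) (i • (D.Q.b1 : Mat))
  exact (commute_hQ (commute_hQ (D.Q.c_aa.symm.smul_right i) (D.Q.c_ba.symm.smul_right i)).symm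
    (commute_hQ (D.Q.c_ab.symm.smul_right i) (D.Q.c_bb.symm.smul_right i)).symm).eq

/-- The element of order three and trace one. -/
theorem exists_three : ∃ g ∈ subgroupNormalizer R, ∃ g' : GL ι F,
    (g' : Mat) = hQ (i • (D.Q.a1 : Mat)) (i • (D.Q.b1 : Mat)) ∧ g = D.hg * g' ∧ g ^ 3 = 1 ∧
    (g : Mat).trace = 1 := by
  obtain ⟨hA, hB, hBA, -⟩ := D.twist_facts hui hi
  obtain ⟨g', hg', h3, hc⟩ := D.exists_twist hi
  have huA : ((u * D.Q.a1 : GL ι F) : Mat) = i • (D.Q.a1 : Mat) := by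
    rw [Units.val_mul, hui, smul_mul_assoc, one_mul]
  have huB : ((u * D.Q.b1 : GL ι F) : Mat) = i • (D.Q.b1 : Mat) := by
    rw [Units.val_mul, hui, smul_mul_assoc, one_mul]
  have huc : ∀ x : GL ι F, x * u = u * x := fun x => Units.ext (by simp [hui])
  have hconj : ∀ (x x' : GL ι F), x' ∈ R → g' * (u * x) = x' * g' → g' * x * g'⁻¹ ∈ R := by
    intro x x' hx' h
    have e : g' * x = u⁻¹ * x' * g' := by
      rw [mul_assoc u⁻¹, ← h, ← mul_assoc g', huc, mul_assoc u g', inv_mul_cancel_left]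
    rw [e, mul_inv_cancel_right]
    exact R.mul_mem (R.inv_mem hu) hx'
  have hcomm : ∀ x : GL ι F, x ∈ R → Commute (x : Mat) D.Q.a1 → Commute (x : Mat) D.Q.b1 →
      g' * x * g'⁻¹ ∈ R := by
    intro x hx h1 h2
    have e : g' * x = x * g' := Units.ext (by
      rw [Units.val_mul, Units.val_mul, hg']
      exact (commute_hQ (h1.smul_right i) (h2.smul_right i)).symm.eq)
    rwa [e, mul_inv_cancel_right]
  have hmem : g' ∈ subgroupNormalizer R := D.Q.mem_normalizer_of_gens D.gen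
    (hconj _ (u * D.Q.a1 * (u * D.Q.b1))
      (R.mul_mem (R.mul_mem hu D.Q.a1_mem) (R.mul_mem hu D.Q.b1_mem))
      (Units.ext (by
        rw [Units.val_mul, huA, Units.val_mul (u * D.Q.a1 * (u * D.Q.b1)), Units.val_mul (u * D.Q.a1),
          huA, huB, hg']
        exact hQ_conj_left hA hB hBA)))
    (hconj _ (u * D.Q.a1) (R.mul_mem hu D.Q.a1_mem) (Units.ext (by
      rw [Units.val_mul, huB, Units.val_mul (u * D.Q.a1), huA, hg']
      exact hQ_conj_right hA hB hBA)))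
    (hcomm _ D.Q.a2_mem D.Q.c_aa.symm D.Q.c_ba.symm)
    (hcomm _ D.Q.b2_mem D.Q.c_ab.symm D.Q.c_bb.symm)
  refine ⟨D.hg * g', Subgroup.mul_mem _ D.hg_mem hmem, g', hg', rfl, ?_, ?_⟩
  · rw [hc.symm.mul_pow, h3, D.hg_pow, one_mul]
  · rw [Units.val_mul, hg']
    show (hQ (D.Q.a2 : Mat) D.Q.b2 * hQ (i • (D.Q.a1 : Mat)) (i • (D.Q.b1 : Mat))).trace = 1
    obtain ⟨e1, e2, e3, e4⟩ := D.Q.gens_eq
    have h4 : (4 : F) ≠ 0 := by
      rw [show (4 : F) = 2 * 2 by norm_num]; exact mul_ne_zero D.h2 D.h2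
    have ht : ∀ w : E, w ≠ 0 → (D.Q.Wm w).trace = 0 := fun w hw => D.Q.trace_Wm D.h2 hw
    rw [e1, e2, e3, e4]
    simp only [hQ, smul_mul_assoc, mul_smul_comm, mul_add, add_mul, mul_neg, neg_mul, one_mul, mul_one,
      smul_add, smul_neg, smul_smul, Quad.Wm_mul, Matrix.trace_add, Matrix.trace_neg, Matrix.trace_smul,
      Prod.mk_add_mk, add_zero, zero_add, neg_neg]
    simp [ht, Matrix.trace_one, D.hι]
    field_simp
    norm_num [h4]

/-- An involution of trace two. -/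
theorem exists_two : ∃ g ∈ subgroupNormalizer R,
    (g : Mat) = jInv (D.Q.a1 : Mat) (i • (D.Q.a2 : Mat)) ∧ (g : Mat) * g = 1 ∧
    (g : Mat).trace = 2 ∧ ∀ c : F, (g : Mat) ≠ c • 1 := by
  obtain ⟨-, -, -, hB⟩ := D.twist_facts hui hi
  have hAB : Commute (D.Q.a1 : Mat) (i • (D.Q.a2 : Mat)) := D.Q.c_aa.smul_right i
  have hsq := jInv_sq D.h2 D.Q.a1_sq hB hAB
  let g : GL ι F := ⟨_, _, hsq, hsq⟩
  have hgv : (g : Mat) = jInv (D.Q.a1 : Mat) (i • (D.Q.a2 : Mat)) := rfl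
  have hua : ((u * D.Q.a2 : GL ι F) : Mat) = i • (D.Q.a2 : Mat) := by
    rw [Units.val_mul, hui, smul_mul_assoc, one_mul]
  have hconj : ∀ (x x' : GL ι F), x' ∈ R → (g : Mat) * x = (x' : Mat) * g → g * x * g⁻¹ ∈ R := by
    intro x x' hx' h
    rwa [show g * x = x' * g from Units.ext h, mul_inv_cancel_right]
  have hb1 : (D.Q.a1 : Mat) * D.Q.b1 = -((D.Q.b1 : Mat) * D.Q.a1) := by rw [D.Q.anti1, neg_neg]
  have hb2 : (i • (D.Q.a2 : Mat)) * D.Q.b2 = -((D.Q.b2 : Mat) * (i • (D.Q.a2 : Mat))) := by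
    rw [smul_mul_assoc, mul_smul_comm, D.Q.anti2, smul_neg, neg_neg]
  refine ⟨g, D.Q.mem_normalizer_of_gens D.gen
    (hconj _ _ D.Q.a1_mem (commute_jInv (Commute.refl _) hAB).symm.eq)
    (hconj _ (D.Q.b1 * (u * D.Q.a2)) (R.mul_mem D.Q.b1_mem (R.mul_mem hu D.Q.a2_mem)) ?_)
    (hconj _ _ D.Q.a2_mem (commute_jInv D.Q.c_aa.symm ((Commute.refl _).smul_right i)).symm.eq)
    (hconj _ (D.Q.b2 * D.Q.a1) (R.mul_mem D.Q.b2_mem D.Q.a1_mem) ?_), hgv, hsq, ?_, ?_⟩
  · rw [Units.val_mul, hua, hgv]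
    exact jInv_anti_left hB hAB hb1 (D.Q.c_ba.smul_right i)
  · rw [Units.val_mul, hgv]
    exact jInv_anti_right D.Q.a1_sq hAB hb2 D.Q.c_ab.symm
  · obtain ⟨e1, e2, e3, e4⟩ := D.Q.gens_eq
    have ht : ∀ w : E, w ≠ 0 → (D.Q.Wm w).trace = 0 := fun w hw => D.Q.trace_Wm D.h2 hw
    rw [hgv, jInv, e1, e3, mul_smul_comm, Quad.Wm_mul]
    simp [ht, Matrix.trace_one, D.hι]
    rw [inv_mul_eq_iff_eq_mul₀ D.h2]
    norm_num
  · intro c hc
    have e : D.Q.b1 = D.Q.b1 * (u * D.Q.a2) := by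
      have h := jInv_anti_left hB hAB hb1 (D.Q.c_ba.smul_right i)
      rw [← hgv, ← hua, ← Units.val_mul D.Q.b1, ← Units.val_mul g, ← Units.val_mul] at h
      have h' : g * D.Q.b1 = D.Q.b1 * g := Units.ext (by simp [hc])
      exact mul_right_cancel (h'.symm.trans (Units.ext h))
    have e' := congrArg (fun t : GL ι F => (t : Mat)) (left_eq_mul.mp e)
    simp only [hua, Units.val_one] at e'
    rw [D.Q.gens_eq.2.2.1, ← D.Q.Wm_zero] at e'
    exact absurd (D.Q.word_inj D.hι D.h2 (left_ne_zero_of_mul (hi ▸ neg_ne_zero.mpr one_ne_zero))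
      (e'.trans (one_smul F _).symm)).1 (by decide)

end withI

end Frame

end Cfsg.Agent.Lib.Elusive19.Pauli4
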