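/-
Arguments shared by the three statements.
-/
import Cfsg.Agent.Lib.Elusive19.Pauli4.Invariant
import Cfsg.Agent.Lib.Elusive19.Pauli4.Five
import Cfsg.Agent.Lib.Elusive19.Pauli4.Targets
import Mathlib.NumberTheory.LegendreSymbol.QuadraticReciprocity
import Mathlib.GroupTheory.Perm.Cycle.Type

set_option autoImplicit false
set_option linter.unusedSectionVars false

namespace Cfsg.Agent.Lib.Elusive19.Pauli4

open Cfsg.Geo
open scoped Matrix MatrixGroups

theorem orderOf_five_iff (p : ℕ) : orderOf (p : ZMod 5) = 4 ↔ p % 5 = 2 ∨ p % 5 = 3 := by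
  rw [← ZMod.natCast_mod p 5]
  have hlt := Nat.mod_lt p (show 5 > 0 by norm_num)
  have h4 : ∀ a : ZMod 5, a ^ 4 = 1 → a ^ 2 ≠ 1 → orderOf a = 4 := fun a h h' =>
    orderOf_eq_prime_pow (p := 2) (n := 1) (by simpa using h') (by simpa using h)
  constructor
  · intro h
    interval_cases hr : p % 5
    · exfalso; have := pow_orderOf_eq_one (((0 : ℕ) : ZMod 5)); rw [h] at this; exact absurd this (by decide)
    · exfalso; simp at h
    · exact Or.inl rfl
    · exact Or.inr rfl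
    · exfalso
      have h2 : orderOf ((4 : ℕ) : ZMod 5) ∣ 2 := orderOf_dvd_of_pow_eq_one (by decide)
      rw [h] at h2; norm_num at h2
  · rintro (h | h) <;> rw [h] <;> exact h4 _ (by decide) (by decide)

/-- A root of `X² + X - 1`. -/
theorem exists_golden {F : Type*} [Field F] {p : ℕ} [Fact p.Prime] [CharP F p] (hp : p ≠ 2)
    (h : ¬ (p % 5 = 2 ∨ p % 5 = 3)) : ∃ t : F, t * t + t = 1 ∧ t ^ p = t := by
  haveI : Fact (Nat.Prime 5) := ⟨by norm_num⟩
  have hsq : IsSquare ((5 : ℕ) : ZMod p) := by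
    have h0 : IsSquare ((p : ℕ) : ZMod 5) := by
      rw [← ZMod.natCast_mod p 5]
      have hlt := Nat.mod_lt p (show 5 > 0 by norm_num)
      interval_cases hr : p % 5 <;>
        first
          | exact absurd (Or.inl rfl) h
          | exact absurd (Or.inr rfl) h
          | exact ⟨0, rfl⟩
          | exact ⟨1, rfl⟩
          | exact ⟨2, rfl⟩
    exact (ZMod.exists_sq_eq_prime_iff_of_mod_four_eq_one (p := 5) (q := p) (by norm_num) hp).mp h0
  obtain ⟨s, hs⟩ := hsq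
  obtain ⟨s', hs', hfix⟩ : ∃ s' : F, s' * s' = 5 ∧ s' ^ p = s' := ⟨ZMod.castHom dvd_rfl F s, by
    rw [← map_mul, ← hs, map_natCast]; norm_num, by rw [← map_pow, ZMod.pow_card]⟩
  have h2 : (2 : F) ≠ 0 := Ring.two_ne_zero (by rw [ringChar.eq F p]; exact hp)
  refine ⟨(s' - 1) / 2, ?_, ?_⟩
  · field_simp
    linear_combination hs'
  · show frobenius F p _ = _
    rw [map_div₀, map_sub, map_one, map_ofNat, frobenius_def, hfix]

theorem two_ne_zero_of {F : Type*} [Field F] {p : ℕ} [CharP F p] (hp : p ≠ 2) : (2 : F) ≠ 0 :=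
  Ring.two_ne_zero (by rw [ringChar.eq F p]; exact hp)

theorem three_ne_zero_of {F : Type*} [Field F] {p : ℕ} [Fact p.Prime] [CharP F p] (hp : p ≠ 3) :
    (3 : F) ≠ 0 := by
  intro h
  have h' : ((3 : ℕ) : F) = 0 := by exact_mod_cast h
  rw [CharP.cast_eq_zero_iff F p] at h'
  exact hp ((Nat.prime_dvd_prime_iff_eq Fact.out (by norm_num)).mp h')

variable {F : Type*} [Field F] {ι : Type} [Fintype ι] [DecidableEq ι]

local notation "Mat" => Matrix ι ι F

theorem pow_four_of_det (hι : Fintype.card ι = 4) {c : F} {x : GL ι F} (hx : (x : Mat) = c • 1)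
    (hd : (x : Mat).det = 1) : c ^ 4 = 1 := by
  rw [hx, Matrix.det_smul, hι, Matrix.det_one, mul_one] at hd
  exact hd

theorem pow_scalar_of_det (hι : Fintype.card ι = 4) {z : F} {x : GL ι F} {r : ℕ}
    (hz : ((x ^ r : GL ι F) : Mat) = z • 1) (hd : (x : Mat).det = 1) : z ^ 4 = 1 := by
  refine pow_four_of_det hι hz ?_
  rw [Units.val_pow_eq_pow_val, Matrix.det_pow, hd, one_pow]

/-- From an element of order `r` modulo scalars to one of order `r`. -/
theorem reduce_four {R : Subgroup (GL ι F)} {x : GL ι F} {z : F} {r : ℕ} (hr : r = 3 ∨ r = 5)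
    (hz : ((x ^ r : GL ι F) : Mat) = z • 1) (hz4 : z ^ 4 = 1) (hns : ∀ c : F, (x : Mat) ≠ c • 1) :
    (x ^ 4) ^ r = 1 ∧ x ^ 4 ≠ 1 ∧
      ∀ g : GL ι F, g⁻¹ * x ^ 4 * g ∈ subgroupNormalizer R → g⁻¹ * x * g ∈ subgroupNormalizer R := by
  have hpow : (x ^ 4) ^ r = 1 := Units.ext (by
    rw [← pow_mul, mul_comm, pow_mul, Units.val_pow_eq_pow_val, hz, smul_pow, one_pow, hz4, one_smul,
      Units.val_one])
  obtain ⟨a, b, hab⟩ : ∃ a b : ℕ, 4 * a = 1 + b * r := by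
    rcases hr with rfl | rfl
    exacts [⟨1, 1, rfl⟩, ⟨4, 3, rfl⟩]
  have hx : (x : Mat) = (z ^ b)⁻¹ • (((x ^ 4) ^ a : GL ι F) : Mat) := by
    rw [← pow_mul, hab, pow_add, pow_one, mul_comm b, pow_mul, Units.val_mul,
      Units.val_pow_eq_pow_val (x ^ r), hz, smul_pow, one_pow, mul_smul_comm, mul_one, smul_smul,
      inv_mul_cancel₀ (pow_ne_zero b (fun h => by simp [h] at hz4)), one_smul]
  refine ⟨hpow, fun h1 => hns _ (by rw [hx, h1, one_pow, Units.val_one]), fun g hg => ?_⟩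
  refine mem_normalizer_smul (c := (z ^ b)⁻¹) (Subgroup.pow_mem _ hg a) ?_
  have e : (g⁻¹ * x ^ 4 * g) ^ a = g⁻¹ * (x ^ 4) ^ a * g := by
    have := (map_pow (MulAut.conj g⁻¹) (x ^ 4) a).symm
    simpa [mul_assoc] using this
  rw [e, Units.val_mul, Units.val_mul, Units.val_mul, Units.val_mul, hx, mul_smul_comm, smul_mul_assoc]

/-- Some prime element of order at least seven. -/
theorem exists_large [Finite (GL ι F)] {G : Subgroup (GL ι F)}
    (hscal : ∀ x ∈ G, ∀ c : F, (x : Mat) = c • 1 → c ^ 4 = 1) {r : ℕ} (hr : r.Prime) (hr2 : r ≠ 2)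
    (hdvd : r ∣ Nat.card G) :
    ∃ x ∈ G, ((x ^ r : GL ι F) : Mat) = (1 : F) • 1 ∧ ∀ c : F, (x : Mat) ≠ c • 1 := by
  haveI := Fact.mk hr
  obtain ⟨x, hx⟩ := exists_prime_orderOf_dvd_card' r hdvd
  have hx' : orderOf (x : GL ι F) = r := by rw [Subgroup.orderOf_coe]; exact hx
  refine ⟨x, x.2, ?_, fun c hc => ?_⟩
  · rw [← hx', pow_orderOf_eq_one, Units.val_one, one_smul]
  · have h4 : ((x : GL ι F)) ^ 4 = 1 := Units.ext (by
      rw [Units.val_pow_eq_pow_val, hc, smul_pow, one_pow, hscal x x.2 c hc, one_smul, Units.val_one])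
    have h := orderOf_dvd_of_pow_eq_one h4
    rw [hx'] at h
    have h' : r ∣ 2 := hr.dvd_of_dvd_pow (show r ∣ 2 ^ 2 from h)
    exact hr2 ((Nat.prime_dvd_prime_iff_eq hr Nat.prime_two).mp h')

theorem five_not_dvd {p e : ℕ} (hp : p % 5 = 2 ∨ p % 5 = 3) (he : e = 1 ∨ e = 2) :
    ¬ 5 ∣ p ^ e - 1 := by
  have h : p ^ e % 5 = (p % 5) ^ e % 5 := Nat.pow_mod p e 5
  intro hd
  have h1 : 1 ≤ p ^ e := Nat.one_le_pow _ _ (by omega)
  rcases hp with h2 | h2 <;> rcases he with rfl | rfl <;> rw [h2] at h <;> norm_num at h hd h1 <;> omega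

/-- Any two subgroups of order five are conjugate. -/
theorem five_conj [Finite (GL ι F)] [Nonempty ι] (h5 : (5 : F) ≠ 0) {R G : Subgroup (GL ι F)}
    (H : ∀ c ∈ G, c ^ 5 = 1 → ((c : Mat) - 1).det = 0 → c = 1) {y : GL ι F}
    (hy : y ∈ subgroupNormalizer R) (hyG : y ∈ G) (hy5 : y ^ 5 = 1) (hy1 : y ≠ 1) {x : GL ι F}
    (hx : x ∈ G) {z : F} (hz : ((x ^ 5 : GL ι F) : Mat) = z • 1) (hz4 : z ^ 4 = 1)
    (hns : ∀ c : F, (x : Mat) ≠ c • 1) :
    ∃ g ∈ G, g⁻¹ * x * g ∈ subgroupNormalizer R := by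
  obtain ⟨h4, h41, hred⟩ := reduce_four (R := R) (Or.inr rfl) hz hz4 hns
  obtain ⟨g, hg, hmem⟩ := Five.exists_conj h5 H (G.pow_mem hx 4) hyG h4 hy5 h41 hy1
  exact ⟨g, hg, hred g ((Subgroup.zpowers_le.mpr hy) hmem)⟩

end Cfsg.Agent.Lib.Elusive19.Pauli4
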