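/-
Normal forms of involutions and of elements of order three in the general linear group.
-/
import Cfsg.Agent.Lib.Elusive19.Pauli4.Witness
import Mathlib.LinearAlgebra.Basis.VectorSpace
import Mathlib.FieldTheory.Finite.Basic
import Mathlib.Logic.Equiv.Fintype

set_option autoImplicit false
set_option linter.unusedSectionVars false

namespace Cfsg.Agent.Lib.Elusive19.Pauli4

open Module
open scoped Matrix MatrixGroups

variable {F : Type*} [Field F] {ι : Type} [Fintype ι] [DecidableEq ι]

local notation "Mat" => Matrix ι ι F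

/-- Independent columns form an invertible matrix. -/
theorem exists_cols {b : ι → ι → F} (hb : LinearIndependent F b) :
    ∃ P : GL ι F, ∀ i, (P : Mat) *ᵥ Pi.single i 1 = b i := by
  let M : Mat := Matrix.of fun a i => b i a
  have hM : ∀ v, M *ᵥ v = ∑ i, v i • b i := fun v => by
    funext a; simp [M, Matrix.mulVec, dotProduct, mul_comm]
  have hd : M.det ≠ 0 := fun h => by
    obtain ⟨v, hv, hv0⟩ := Matrix.exists_mulVec_eq_zero_iff.mpr h
    rw [hM] at hv0
    exact hv (funext (Fintype.linearIndependent_iff.mp hb v hv0))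
  refine ⟨Matrix.GeneralLinearGroup.mkOfDetNeZero M hd, fun i => ?_⟩
  show M *ᵥ _ = _
  funext a
  simp [M]

/-- An intertwining identity checked on the columns. -/
theorem mul_eq_of_cols {x M : Mat} {P : GL ι F}
    (h : ∀ i, x *ᵥ ((P : Mat) *ᵥ Pi.single i 1) = (P : Mat) *ᵥ (M *ᵥ Pi.single i 1)) :
    x * (P : Mat) = (P : Mat) * M :=
  Matrix.ext_of_mulVec_single fun i => by rw [← Matrix.mulVec_mulVec, ← Matrix.mulVec_mulVec]; exact h i

/-- Conjugate two elements with the same normal form. -/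
theorem conj_of_normal {x y P Q Z : GL ι F} {M : Mat} (hx : (x : Mat) * P = (P : Mat) * M)
    (hy : (y : Mat) * Q = (Q : Mat) * M) (hZ : (Z : Mat) * M = M * Z) :
    (P * Z * Q⁻¹)⁻¹ * x * (P * Z * Q⁻¹) = y := by
  have e1 : x * (P * Z) = P * Z * (Q⁻¹ * y * Q) := by
    refine Units.ext ?_
    simp only [Units.val_mul]
    rw [mul_assoc ((Q⁻¹ : GL ι F) : Mat), hy, ← mul_assoc ((Q⁻¹ : GL ι F) : Mat), Units.inv_mul,
      one_mul, ← mul_assoc, hx, mul_assoc, mul_assoc, hZ]
  calc (P * Z * Q⁻¹)⁻¹ * x * (P * Z * Q⁻¹) = Q * (P * Z)⁻¹ * (x * (P * Z)) * Q⁻¹ := by group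
    _ = y := by rw [e1]; group

/-- An involution is diagonal in some basis. -/
theorem exists_diag (h2 : (2 : F) ≠ 0) {J : Mat} (hJ : J * J = 1) :
    ∃ (P : GL ι F) (u : ι → F), (∀ i, u i = 1 ∨ u i = -1) ∧
      J * (P : Mat) = (P : Mat) * Matrix.diagonal u := by
  classical
  let S : Set (ι → F) := {v | J *ᵥ v = v ∨ J *ᵥ v = -v}
  have hS : ⊤ ≤ Submodule.span F S := by
    intro v _
    have e : v = (2 : F)⁻¹ • (v + J *ᵥ v) + (2 : F)⁻¹ • (v - J *ᵥ v) := by
      rw [← smul_add, add_add_sub_cancel, ← two_smul F v, smul_smul, inv_mul_cancel₀ h2, one_smul]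
    rw [e]
    refine Submodule.add_mem _ (Submodule.smul_mem _ _ (Submodule.subset_span (Or.inl ?_)))
      (Submodule.smul_mem _ _ (Submodule.subset_span (Or.inr ?_)))
    · rw [Matrix.mulVec_add, Matrix.mulVec_mulVec, hJ, Matrix.one_mulVec, add_comm]
    · rw [Matrix.mulVec_sub, Matrix.mulVec_mulVec, hJ, Matrix.one_mulVec, neg_sub]
  let B := Module.Basis.ofSpan hS
  letI := FiniteDimensional.fintypeBasisIndex B
  let B' := B.reindex (Fintype.equivOfCardEq
    ((Module.finrank_eq_card_basis B).symm.trans (Module.finrank_pi F)))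
  have hB : ∀ i, B' i ∈ S := fun i => by
    rw [Module.Basis.reindex_apply]
    exact Module.Basis.ofSpan_subset hS ⟨_, rfl⟩
  obtain ⟨P, hP⟩ := exists_cols B'.linearIndependent
  have hex : ∀ i, ∃ a : F, (a = 1 ∨ a = -1) ∧ J *ᵥ B' i = a • B' i := fun i => by
    rcases hB i with h | h
    · exact ⟨1, Or.inl rfl, by rw [h, one_smul]⟩
    · exact ⟨-1, Or.inr rfl, by rw [h, neg_one_smul]⟩
  choose u hu hJu using hex
  refine ⟨P, u, hu, mul_eq_of_cols fun i => ?_⟩
  rw [hP, hJu, Matrix.diagonal_mulVec_single, mul_one,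
    show Pi.single i (u i) = u i • (Pi.single i (1 : F) : ι → F) by simp [← Pi.single_smul],
    Matrix.mulVec_smul, hP]

/-- The number of entries `-1`. -/
noncomputable def negCount (u : ι → F) : ℕ := Nat.card {i : ι // u i = -1}

theorem negCount_sum (h2 : (2 : F) ≠ 0) {u : ι → F} (hu : ∀ i, u i = 1 ∨ u i = -1) :
    ∑ i, u i = (Fintype.card ι : F) - 2 * negCount u ∧ ∏ i, u i = (-1) ^ negCount u := by
  classical
  have h11 : (1 : F) ≠ -1 := fun h => h2 (by linear_combination h)
  have e : negCount u = (Finset.univ.filter fun i => u i = -1).card := by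
    rw [negCount, Nat.card_eq_fintype_card, Fintype.card_subtype]
  have he : ∀ i, u i = if u i = -1 then (-1 : F) else 1 := fun i => by
    rcases hu i with h | h <;> simp [h, h11]
  constructor
  · rw [e, Finset.sum_congr rfl fun i _ => he i]
    have h1 : ∀ i, (if u i = -1 then (-1 : F) else 1) = 1 - 2 * (if u i = -1 then (1 : F) else 0) :=
      fun i => by split_ifs <;> ring
    simp only [h1, Finset.sum_sub_distrib, ← Finset.mul_sum, Finset.sum_boole]
    simp
  · rw [e, Finset.prod_congr rfl fun i _ => he i, Finset.prod_ite]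
    simp

/-- The data of an involution in dimension four. -/
theorem involution_data (hι : Fintype.card ι = 4) (h2 : (2 : F) ≠ 0) {J : Mat} {P : GL ι F}
    {u : ι → F} (hu : ∀ i, u i = 1 ∨ u i = -1) (hd : J * (P : Mat) = (P : Mat) * Matrix.diagonal u) :
    J.trace = 4 - 2 * (negCount u : F) ∧ J.det = (-1) ^ negCount u ∧ negCount u ≤ 4 ∧
      (negCount u = 0 → J = 1) ∧ (negCount u = 4 → J = -1) := by
  classical
  have hJ : J = (P : Mat) * Matrix.diagonal u * ((P⁻¹ : GL ι F) : Mat) := by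
    rw [← hd, mul_assoc, Units.mul_inv, mul_one]
  obtain ⟨h1, h3⟩ := negCount_sum h2 hu
  refine ⟨?_, ?_, ?_, ?_, ?_⟩
  · rw [hJ, Matrix.trace_mul_cycle, Units.inv_mul, one_mul, Matrix.trace_diagonal, h1, hι,
      Nat.cast_ofNat]
  · rw [hJ, Matrix.det_mul_right_comm, Units.mul_inv, one_mul, Matrix.det_diagonal, h3]
  · have := Finite.card_subtype_le (fun i => u i = -1)
    rw [Nat.card_eq_fintype_card (α := ι), hι] at this
    exact this
  · intro h0
    have hu1 : u = fun _ => 1 := funext fun i => (hu i).resolve_right fun h => by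
      haveI : Nonempty {i : ι // u i = -1} := ⟨⟨i, h⟩⟩
      exact Nat.card_pos.ne' h0
    rw [hJ, hu1, Matrix.diagonal_one, mul_one, Units.mul_inv]
  · intro h4
    have hu1 : u = fun _ => -1 := funext fun i => by
      have hb : Function.Bijective (Subtype.val : {i : ι // u i = -1} → ι) :=
        Subtype.val_injective.bijective_of_nat_card_le (by
          rw [Nat.card_eq_fintype_card (α := ι), hι]; exact h4.ge)
      obtain ⟨⟨j, hj⟩, rfl⟩ := hb.surjective i
      exact hj
    rw [hJ, hu1, ← Matrix.diagonal_neg, Matrix.diagonal_one, mul_neg, mul_one, neg_mul, Units.mul_inv]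

theorem perm_of_count {u u' : ι → F} (hu : ∀ i, u i = 1 ∨ u i = -1)
    (hu' : ∀ i, u' i = 1 ∨ u' i = -1) (h : negCount u = negCount u') :
    ∃ σ : Equiv.Perm ι, ∀ i, u (σ i) = u' i := by
  classical
  obtain ⟨e⟩ := Finite.card_eq.mp h.symm
  refine ⟨e.extendSubtype, fun i => ?_⟩
  by_cases hi : u' i = -1
  · rw [e.extendSubtype_mem i hi, hi]
  · rw [(hu' i).resolve_right hi]
    exact (hu _).resolve_right (e.extendSubtype_not_mem i hi)

/-- Permuting a diagonalising matrix. -/
theorem diag_perm {x : Mat} {P : GL ι F} {u : ι → F} (hx : x * (P : Mat) = (P : Mat) * Matrix.diagonal u)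
    {S : GL ι F} {σ : Equiv.Perm ι} (hS : (S : Mat) = σ.permMatrix F) :
    x * ((P * S⁻¹ : GL ι F) : Mat) = ((P * S⁻¹ : GL ι F) : Mat) * Matrix.diagonal (fun i => u (σ i)) := by
  have h1 : (S : Mat) * Matrix.diagonal u = Matrix.diagonal (fun i => u (σ i)) * S := by
    refine Matrix.ext_of_mulVec_single fun j => funext fun i => ?_
    rw [← Matrix.mulVec_mulVec, ← Matrix.mulVec_mulVec, hS, Matrix.permMatrix_mulVec,
      Matrix.permMatrix_mulVec, Matrix.mulVec_diagonal, Function.comp_apply, Function.comp_apply,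
      Matrix.mulVec_diagonal]
  have h2 := congrArg (fun M => ((S⁻¹ : GL ι F) : Mat) * M * ((S⁻¹ : GL ι F) : Mat)) h1
  rw [← mul_assoc ((S⁻¹ : GL ι F) : Mat) (S : Mat), Units.inv_mul, one_mul, mul_assoc, mul_assoc,
    Units.mul_inv, mul_one] at h2
  rw [Units.val_mul, ← mul_assoc, hx, mul_assoc, h2, ← mul_assoc]

theorem exists_permGL (σ : Equiv.Perm ι) : ∃ S : GL ι F, (S : Mat) = σ.permMatrix F := by
  refine ⟨Matrix.GeneralLinearGroup.mkOfDetNeZero (σ.permMatrix F) ?_, rfl⟩
  rw [Matrix.det_permutation]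
  rcases Int.units_eq_one_or (Equiv.Perm.sign σ) with h | h <;> simp [h]

/-- Involutions with the same count are conjugate by an element of determinant one. -/
theorem conj_of_involution [Nonempty ι] {x y : GL ι F} {P Q : GL ι F} {u v : ι → F}
    (hu : ∀ i, u i = 1 ∨ u i = -1) (hv : ∀ i, v i = 1 ∨ v i = -1) (h : negCount u = negCount v)
    (hx : (x : Mat) * P = (P : Mat) * Matrix.diagonal u)
    (hy : (y : Mat) * Q = (Q : Mat) * Matrix.diagonal v) :
    ∃ g : GL ι F, (g : Mat).det = 1 ∧ g⁻¹ * x * g = y := by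
  classical
  obtain ⟨σ, hσ⟩ := perm_of_count hu hv h
  obtain ⟨S, hS⟩ := exists_permGL (F := F) σ
  have hx' := diag_perm hx hS
  rw [funext hσ] at hx'
  set P' := P * S⁻¹
  let i₀ : ι := Classical.arbitrary ι
  let dd : ι → F := Function.update 1 i₀ ((Q : Mat).det / (P' : Mat).det)
  have hP0 : (P' : Mat).det ≠ 0 := (Matrix.isUnits_det_units P').ne_zero
  have hQ0 : (Q : Mat).det ≠ 0 := (Matrix.isUnits_det_units Q).ne_zero
  have hprod : ∏ i, dd i = (Q : Mat).det / (P' : Mat).det := by
    rw [Finset.prod_eq_single i₀ (fun i _ hi => by simp [dd, hi]) (by simp)]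
    simp [dd]
  let Z : GL ι F := Matrix.GeneralLinearGroup.mkOfDetNeZero (Matrix.diagonal dd)
    (by rw [Matrix.det_diagonal, hprod]; exact div_ne_zero hQ0 hP0)
  have hZ : (Z : Mat) = Matrix.diagonal dd := rfl
  refine ⟨P' * Z * Q⁻¹, ?_, conj_of_normal hx' hy ?_⟩
  · rw [Units.val_mul, Units.val_mul, Matrix.det_mul, Matrix.det_mul, hZ, Matrix.det_diagonal, hprod,
      mul_div_cancel₀ _ hP0, ← Matrix.det_mul, Units.mul_inv, Matrix.det_one]
  · rw [hZ, Matrix.diagonal_mul_diagonal, Matrix.diagonal_mul_diagonal]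
    simp only [mul_comm]

/-- Pairs `v, xv` are independent of an invariant subspace. -/
theorem pair_step (hno : ∀ c : F, c * c + c + 1 ≠ 0) {x : Mat} (hx : x * (x * x) = 1)
    (W : Submodule F (ι → F)) (hW : ∀ w ∈ W, x *ᵥ w ∈ W) {v : ι → F} (hv : v ∉ W)
    (hq : x *ᵥ (x *ᵥ v) + x *ᵥ v + v = 0) {a b : F} (h : a • v + b • (x *ᵥ v) ∈ W) : a = 0 ∧ b = 0 := by
  by_contra hne
  -- a second relation follows from the first
  have h' : (a - b) • (x *ᵥ v) + -b • v ∈ W := by
    have h1 := hW _ h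
    rw [Matrix.mulVec_add, Matrix.mulVec_smul, Matrix.mulVec_smul,
      show x *ᵥ (x *ᵥ v) = -(x *ᵥ v) - v by linear_combination (norm := module) hq] at h1
    convert h1 using 1
    module
  have hmem : (a * a - a * b + b * b) • v ∈ W := by
    have e : (a * a - a * b + b * b) • v =
        (a - b) • (a • v + b • (x *ᵥ v)) - b • ((a - b) • (x *ᵥ v) + -b • v) := by module
    rw [e]
    exact W.sub_mem (W.smul_mem _ h) (W.smul_mem _ h')
  have h0 : a * a - a * b + b * b = 0 := by
    by_contra h0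
    exact hv ((W.smul_mem_iff h0).mp hmem)
  refine hne ?_
  by_cases hb : b = 0
  · subst hb
    exact ⟨by simpa using h0, rfl⟩
  · exfalso
    refine hno (-a / b) ?_
    field_simp
    linear_combination h0

end Cfsg.Agent.Lib.Elusive19.Pauli4
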