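/-
Involutions modulo scalars and diagonal witnesses.
-/
import Cfsg.Agent.Lib.Elusive19.Pauli4.Normal
import Cfsg.Agent.Lib.Elusive19.Pauli4.Common

set_option autoImplicit false
set_option linter.unusedSectionVars false

namespace Cfsg.Agent.Lib.Elusive19.Pauli4

open Cfsg.Geo
open scoped Matrix MatrixGroups

variable {F : Type*} [Field F] {ι : Type} [Fintype ι] [DecidableEq ι]

local notation "Mat" => Matrix ι ι F

theorem count_mid (hι : Fintype.card ι = 4) (h2 : (2 : F) ≠ 0) {J : Mat} {P : GL ι F} {u : ι → F}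
    (hu : ∀ i, u i = 1 ∨ u i = -1) (hd : J * (P : Mat) = (P : Mat) * Matrix.diagonal u)
    (hns : ∀ c : F, J ≠ c • 1) : negCount u = 1 ∨ negCount u = 2 ∨ negCount u = 3 := by
  obtain ⟨-, -, hle, h0, h4⟩ := involution_data hι h2 hu hd
  have n0 : negCount u ≠ 0 := fun h => hns 1 (by rw [h0 h, one_smul])
  have n4 : negCount u ≠ 4 := fun h => hns (-1) (by rw [h4 h, neg_one_smul])
  omega

theorem count_of_trace [Fintype F] {p : ℕ} [Fact p.Prime] [CharP F p] (hp : p ≠ 2)
    (hι : Fintype.card ι = 4) {J : Mat} {P : GL ι F} {u : ι → F}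
    (hu : ∀ i, u i = 1 ∨ u i = -1) (hd : J * (P : Mat) = (P : Mat) * Matrix.diagonal u)
    (hns : ∀ c : F, J ≠ c • 1) {k : ℕ} (hk : k = 1 ∨ k = 2) (ht : J.trace = 4 - 2 * (k : F)) :
    negCount u = k := by
  have h2 : (2 : F) ≠ 0 := two_ne_zero_of hp
  obtain ⟨h1, -⟩ := involution_data hι h2 hu hd
  rw [h1] at ht
  have he : (negCount u : F) = (k : F) := mul_left_cancel₀ h2 (by linear_combination -ht)
  rw [CharP.natCast_eq_natCast F p] at he
  have h3 : 3 ≤ p := by have := (Fact.out : p.Prime).two_le; omega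
  have hmid := count_mid hι h2 hu hd hns
  unfold Nat.ModEq at he
  by_cases hp3 : p = 3
  · subst hp3; omega
  · rw [Nat.mod_eq_of_lt (show negCount u < p by omega), Nat.mod_eq_of_lt (show k < p by omega)] at he
    exact he

/-- Changing the sign exchanges the two eigenspaces. -/
theorem negCount_neg (hι : Fintype.card ι = 4) (h2 : (2 : F) ≠ 0) {u : ι → F}
    (hu : ∀ i, u i = 1 ∨ u i = -1) : negCount (fun i => -u i) = 4 - negCount u := by
  classical
  have h11 : (1 : F) ≠ -1 := fun h => h2 (by linear_combination h)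
  simp only [negCount, Nat.card_eq_fintype_card, neg_inj]
  have e : (fun i => u i = 1) = fun i => ¬ u i = -1 := funext fun i => propext
    ⟨fun h => by rw [h]; exact h11, fun h => (hu i).resolve_right h⟩
  simp only [Fintype.card_subtype]
  rw [Finset.filter_congr (q := fun i => ¬ u i = -1) (fun i _ => iff_of_eq (congrFun e i))]
  have := Finset.card_filter_add_card_filter_not (s := (Finset.univ : Finset ι)) (fun i => u i = -1)
  rw [Finset.card_univ, hι] at this
  omega

/-- The data of an element whose square is `a²`. -/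
theorem exists_split (hι : Fintype.card ι = 4) (h2 : (2 : F) ≠ 0) {X : Mat} {a : F} (ha : a ≠ 0)
    (hX : X * X = (a * a) • 1) :
    ∃ (P : GL ι F) (u : ι → F), (∀ i, u i = 1 ∨ u i = -1) ∧
      (a⁻¹ • X) * (P : Mat) = (P : Mat) * Matrix.diagonal u ∧
      X.det = a ^ 4 * (-1) ^ negCount u ∧ X.trace = a * (4 - 2 * (negCount u : F)) := by
  have hJ : (a⁻¹ • X) * (a⁻¹ • X) = 1 := by
    rw [smul_mul_assoc, mul_smul_comm, hX, smul_smul, smul_smul]
    field_simp
    simp
  obtain ⟨P, u, hu, hd⟩ := exists_diag h2 hJ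
  obtain ⟨ht, hdet, -⟩ := involution_data hι h2 hu hd
  have e : X = a • (a⁻¹ • X) := by rw [smul_smul, mul_inv_cancel₀ ha, one_smul]
  refine ⟨P, u, hu, hd, ?_, ?_⟩
  · conv_lhs => rw [e]
    rw [Matrix.det_smul, hdet, hι]
  · conv_lhs => rw [e]
    rw [Matrix.trace_smul, ht, smul_eq_mul]

theorem nonscalar_smul {x : GL ι F} {a : F} (ha : a ≠ 0) (hns : ∀ c : F, (x : Mat) ≠ c • 1) (c : F) :
    a⁻¹ • (x : Mat) ≠ c • 1 := fun h => hns (a * c) (by
  rw [mul_smul, ← h, smul_smul, mul_inv_cancel₀ ha, one_smul])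

theorem word_nonscalar {R : Subgroup (GL ι F)} (D : Frame R) {w : E} (hw : w ≠ 0) (c : F) :
    D.Q.Wm w ≠ c • 1 := fun h => by
  rw [← D.Q.Wm_zero] at h
  exact hw (D.Q.word_inj D.hι D.h2 one_ne_zero ((one_smul F _).trans h)).1

theorem det_emb (C : Matrix (Fin 2) (Fin 2) F) :
    (emb (0 : Fin 4) 1 C).det = C 0 0 * C 1 1 - C 0 1 * C 1 0 := by
  simp [Matrix.det_succ_row_zero, Fin.sum_univ_succ, emb, show Fin.succAbove (1 : Fin 4) 2 = 3 from rfl]
  ring

/-- A pseudo-reflection times a scalar. -/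
theorem exists_reflection {ω : F} (hω : ω ^ 3 = 1) (hω1 : ω ≠ 1) :
    ∃ x : GL (Fin 4) F, (x : Matrix (Fin 4) (Fin 4) F) = Matrix.diagonal ![1, ω, ω, ω] ∧
      (x : Matrix (Fin 4) (Fin 4) F).det = 1 ∧ x ^ 3 = 1 ∧
      (∀ c : F, (x : Matrix (Fin 4) (Fin 4) F) ≠ c • 1) ∧
      9 ≤ Module.finrank F (Act.commutant x) := by
  have hd : (Matrix.diagonal ![1, ω, ω, ω] : Matrix (Fin 4) (Fin 4) F).det = 1 := by
    rw [Matrix.det_diagonal, Fin.prod_univ_four]
    show 1 * ω * ω * ω = 1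
    linear_combination hω
  let x : GL (Fin 4) F := Matrix.GeneralLinearGroup.mkOfDetNeZero _ (by rw [hd]; exact one_ne_zero)
  have hx : (x : Matrix (Fin 4) (Fin 4) F) = Matrix.diagonal ![1, ω, ω, ω] := rfl
  refine ⟨x, hx, hd, Units.ext ?_, fun c h => ?_, ?_⟩
  · rw [Units.val_pow_eq_pow_val, hx, Matrix.diagonal_pow, Units.val_one, ← Matrix.diagonal_one]
    congr 1
    funext i; fin_cases i <;> simp [hω]
  · rw [hx, Matrix.smul_one_eq_diagonal] at h
    have h0 := congrFun₂ h 0 0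
    have h1 := congrFun₂ h 1 1
    simp at h0 h1
    exact hω1 (h1.trans h0.symm)
  · refine nine_le_commutant (Fintype.card_fin 4) (c := ω) (u := Pi.single 0 (ω * ω - 1))
      (w := Pi.single 0 1) ?_ ?_
    · rw [hx]
      ext i j
      fin_cases i <;> fin_cases j <;> simp [Matrix.vecMulVec_apply, Matrix.one_apply]
      linear_combination -hω
    · simp only [ne_eq, Pi.single_eq_zero_iff, sub_eq_zero]
      intro h
      exact hω1 (by linear_combination hω - ω * h)

namespace Frame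

variable [Fintype F] {R : Subgroup (GL ι F)} (D : Frame R)

theorem trace_hg : (D.hg : Mat).trace = -2 := by
  show (hQ (D.Q.a2 : Mat) D.Q.b2).trace = -2
  obtain ⟨-, -, e3, e4⟩ := D.Q.gens_eq
  have ht : ∀ w : E, w ≠ 0 → (D.Q.Wm w).trace = 0 := fun w hw => D.Q.trace_Wm D.h2 hw
  rw [e3, e4, hQ, Quad.Wm_mul]
  simp [ht, Matrix.trace_one, D.hι]
  rw [inv_mul_eq_iff_eq_mul₀ D.h2]
  norm_num

theorem hg_ne_one (h3 : (3 : F) ≠ 0) : D.hg ≠ 1 := by
  intro h
  haveI := D.nonempty_ι
  have h' := D.hg_quad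
  rw [h, Units.val_one, mul_one] at h'
  have h'' := congrFun₂ h' (Classical.arbitrary ι) (Classical.arbitrary ι)
  simp at h''
  exact h3 (by linear_combination h'')

end Frame

end Cfsg.Agent.Lib.Elusive19.Pauli4
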