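/-
Symplectic frames adapted to elements whose square is a scalar.
-/
import Cfsg.Prelude.Def_ClassicalGeometry
import Cfsg.Agent.Lib.Elusive19.Pauli4.Normal
import Mathlib.LinearAlgebra.SymplecticGroup

set_option autoImplicit false
set_option linter.unusedSectionVars false

namespace Cfsg.Agent.Lib.Elusive19.Pauli4

open Module
open scoped Matrix MatrixGroups

variable {F : Type*} [Field F]

local notation "I4" => Fin 2 ⊕ Fin 2
local notation "Vec" => Fin 2 ⊕ Fin 2 → F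
local notation "sp" => Cfsg.sympForm 2 F
local notation "J4" => Matrix.J (Fin 2) F

theorem sp_single (i j : I4) : sp (Pi.single i (1 : F)) (Pi.single j 1) = J4 i j := by
  rw [Cfsg.sympForm, single_dotProduct, one_mul, Matrix.mulVec_single_one, Matrix.col_apply]

theorem sp_add_left (u v w : Vec) : sp (u + v) w = sp u w + sp v w := by
  simp [Cfsg.sympForm, add_dotProduct]

theorem sp_add_right (u v w : Vec) : sp u (v + w) = sp u v + sp u w := by
  simp [Cfsg.sympForm, Matrix.mulVec_add, dotProduct_add]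

theorem sp_smul_left (c : F) (u w : Vec) : sp (c • u) w = c * sp u w := by
  simp [Cfsg.sympForm, smul_dotProduct]

theorem sp_smul_right (c : F) (u w : Vec) : sp u (c • w) = c * sp u w := by
  simp [Cfsg.sympForm, Matrix.mulVec_smul, dotProduct_smul]

theorem sp_neg_left (u w : Vec) : sp (-u) w = -sp u w := by
  simp [Cfsg.sympForm, neg_dotProduct]

theorem sp_neg_right (u w : Vec) : sp u (-w) = -sp u w := by
  simp [Cfsg.sympForm, Matrix.mulVec_neg, dotProduct_neg]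

theorem sp_sub_left (u v w : Vec) : sp (u - v) w = sp u w - sp v w := by
  rw [sub_eq_add_neg, sp_add_left, sp_neg_left, sub_eq_add_neg]

theorem sp_sub_right (u v w : Vec) : sp u (v - w) = sp u v - sp u w := by
  rw [sub_eq_add_neg, sp_add_right, sp_neg_right, sub_eq_add_neg]

theorem sp_swap (u v : Vec) : sp u v = -sp v u := by
  simp [Cfsg.sympForm, Matrix.J, Matrix.mulVec, dotProduct, Fintype.sum_sum_type, Fin.sum_univ_two,
    Matrix.one_apply]
  ring

theorem sp_nondeg {u : Vec} (hu : u ≠ 0) : ∃ v, sp u v = 1 := by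
  obtain ⟨i, hi⟩ := Function.ne_iff.mp hu
  have hu' : Matrix.J (Fin 2) F *ᵥ u ≠ 0 := fun h => hu (by
    have := congrArg (fun t => J4 *ᵥ t) h
    rw [Matrix.mulVec_mulVec, Matrix.J_squared, Matrix.neg_mulVec, Matrix.one_mulVec,
      Matrix.mulVec_zero, neg_eq_zero] at this
    exact this)
  obtain ⟨j, hj⟩ := Function.ne_iff.mp hu'
  simp only [Pi.zero_apply] at hj
  refine ⟨(-((J4 *ᵥ u) j))⁻¹ • Pi.single j 1, ?_⟩
  rw [sp_smul_right, sp_swap, Cfsg.sympForm, single_dotProduct, one_mul,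
    inv_mul_cancel₀ (neg_ne_zero.mpr hj)]

theorem mem_spGL_of_mat {P : GL I4 F}
    (h : (P : Matrix I4 I4 F)ᵀ * J4 * (P : Matrix I4 I4 F) = J4) : P ∈ Cfsg.spGL 2 F := by
  intro u v
  show ((P : Matrix I4 I4 F) *ᵥ u) ⬝ᵥ (J4 *ᵥ ((P : Matrix I4 I4 F) *ᵥ v)) = u ⬝ᵥ (J4 *ᵥ v)
  rw [dotProduct_comm, ← Matrix.dotProduct_transpose_mulVec, Matrix.mulVec_mulVec,
    Matrix.mulVec_mulVec, h]

theorem mat_of_mem_spGL {P : GL I4 F} (h : P ∈ Cfsg.spGL 2 F) :
    (P : Matrix I4 I4 F)ᵀ * J4 * (P : Matrix I4 I4 F) = J4 := by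
  ext i j
  have h' : sp ((P : Matrix I4 I4 F) *ᵥ Pi.single i 1) ((P : Matrix I4 I4 F) *ᵥ Pi.single j 1) =
      sp (Pi.single i 1) (Pi.single j 1) := h _ _
  rw [Cfsg.sympForm, dotProduct_comm, ← Matrix.dotProduct_transpose_mulVec, Matrix.mulVec_mulVec,
    Matrix.mulVec_mulVec, sp_single, single_dotProduct, one_mul,
    Matrix.mulVec_single_one, Matrix.col_apply] at h'
  exact h'

/-- A symplectic basis gives an element of the group. -/
theorem exists_sp_cols {b : I4 → Vec} (h : ∀ i j, sp (b i) (b j) = J4 i j) :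
    ∃ P : GL I4 F, P ∈ Cfsg.spGL 2 F ∧ ∀ i, (P : Matrix I4 I4 F) *ᵥ Pi.single i 1 = b i := by
  let M : Matrix I4 I4 F := Matrix.of fun a i => b i a
  have hcol : ∀ i, M *ᵥ Pi.single i 1 = b i := fun i => by funext a; simp [M]
  have hM : Mᵀ * J4 * M = J4 := by
    ext i j
    have h' := h i j
    rw [← hcol i, ← hcol j, Cfsg.sympForm, dotProduct_comm, ← Matrix.dotProduct_transpose_mulVec,
      Matrix.mulVec_mulVec, Matrix.mulVec_mulVec, single_dotProduct, one_mul,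
      Matrix.mulVec_single_one, Matrix.col_apply] at h'
    exact h'
  have hd : M.det ≠ 0 := fun h0 => by
    have := congrArg Matrix.det hM
    rw [Matrix.det_mul, h0, mul_zero] at this
    exact (Matrix.isUnit_det_J (Fin 2) F).ne_zero this.symm
  exact ⟨Matrix.GeneralLinearGroup.mkOfDetNeZero M hd, mem_spGL_of_mat hM, hcol⟩

/-- A frame with values `1` and `0`. -/
theorem gram_of_pairs {u v : Fin 2 → Vec} (h1 : ∀ i, sp (u i) (v i) = 1)
    (h12 : sp (u 0) (u 1) = 0) (h34 : sp (v 0) (v 1) = 0) (h14 : sp (u 0) (v 1) = 0)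
    (h23 : sp (u 1) (v 0) = 0) (h2 : (2 : F) ≠ 0) :
    ∀ i j, sp (Sum.elim v u i) (Sum.elim v u j) = J4 i j := by
  have hs : ∀ w : Vec, sp w w = 0 := fun w => by
    have h := sp_swap w w
    exact (mul_eq_zero.mp (show (2 : F) * sp w w = 0 by linear_combination h)).resolve_left h2
  rintro (i | i) (j | j) <;> fin_cases i <;> fin_cases j <;>
    simp [Matrix.J, hs, h1, h12, h34, h14, h23, sp_swap (u 1) (u 0), sp_swap (v 1) (v 0),
      sp_swap (v 1) (u 0), sp_swap (v 0) (u 1), sp_swap (v 0) (u 0), sp_swap (v 1) (u 1)]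

variable [Fintype F]

/-- The diagonal normal form. -/
theorem frame_one (h2 : (2 : F) ≠ 0) {x : GL I4 F} (hx : x ∈ Cfsg.spGL 2 F)
    (hx2 : (x : Matrix I4 I4 F) * x = 1) (hns : ∀ c : F, (x : Matrix I4 I4 F) ≠ c • 1) :
    ∃ P : GL I4 F, P ∈ Cfsg.spGL 2 F ∧ (x : Matrix I4 I4 F) * (P : Matrix I4 I4 F) =
      (P : Matrix I4 I4 F) * Matrix.diagonal (Sum.elim ![1, -1] ![1, -1]) := by
  set X : Matrix I4 I4 F := (x : Matrix I4 I4 F) with hX
  have hinv : ∀ u v, sp (X *ᵥ u) (X *ᵥ v) = sp u v := hx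
  have hXX : ∀ u, X *ᵥ (X *ᵥ u) = u := fun u => by rw [Matrix.mulVec_mulVec, hx2, Matrix.one_mulVec]
  have hpair : ∀ e : F, e = 1 ∨ e = -1 →
      ∃ u v, X *ᵥ u = e • u ∧ X *ᵥ v = e • v ∧ sp u v = 1 := by
    intro e he
    have hee : e * e = 1 := by rcases he with rfl | rfl <;> ring
    obtain ⟨a, ha⟩ : ∃ a, a + e • (X *ᵥ a) ≠ 0 := by
      by_contra h
      push Not at h
      refine hns (-e) (Matrix.ext_of_mulVec_single fun i => ?_)
      have := h (Pi.single i 1)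
      rw [Matrix.smul_mulVec, Matrix.one_mulVec]
      have h' := congrArg (fun t => e • t) this
      rw [smul_add, smul_smul, hee, one_smul, smul_zero] at h'
      linear_combination (norm := module) h'
    set u := a + e • (X *ᵥ a) with hu
    have hxu : X *ᵥ u = e • u := by
      rw [hu, Matrix.mulVec_add, Matrix.mulVec_smul, hXX, smul_add, smul_smul, hee, one_smul, add_comm]
    obtain ⟨v, hv⟩ := sp_nondeg ha
    refine ⟨u, (2 : F)⁻¹ • (v + e • (X *ᵥ v)), hxu, ?_, ?_⟩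
    · have hxv : X *ᵥ (v + e • (X *ᵥ v)) = e • (v + e • (X *ᵥ v)) := by
        rw [Matrix.mulVec_add, Matrix.mulVec_smul, hXX, smul_add, smul_smul, hee, one_smul, add_comm]
      rw [Matrix.mulVec_smul, hxv, smul_comm]
    · have h' := hinv u v
      rw [hxu, sp_smul_left] at h'
      rw [sp_smul_right, sp_add_right, sp_smul_right, h', hv]
      field_simp
      norm_num
  obtain ⟨u₁, v₁, hu₁, hv₁, h₁⟩ := hpair 1 (Or.inl rfl)
  obtain ⟨u₂, v₂, hu₂, hv₂, h₂⟩ := hpair (-1) (Or.inr rfl)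
  have hcross : ∀ a b, X *ᵥ a = (1 : F) • a → X *ᵥ b = (-1 : F) • b → sp a b = 0 := by
    intro a b ha hb
    have h := hinv a b
    rw [ha, hb, sp_smul_left, sp_smul_right] at h
    exact (mul_eq_zero.mp (show (2 : F) * sp a b = 0 by linear_combination -h)).resolve_left h2
  obtain ⟨P, hP, hcol⟩ := exists_sp_cols (gram_of_pairs (u := ![u₁, u₂]) (v := ![v₁, v₂])
    (fun i => by fin_cases i <;> assumption) (hcross _ _ hu₁ hu₂) (hcross _ _ hv₁ hv₂)
    (hcross _ _ hu₁ hv₂) (by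
      have h := hcross _ _ hv₁ hu₂
      show sp u₂ v₁ = 0
      rw [sp_swap, h, neg_zero]) h2)
  refine ⟨P, hP, mul_eq_of_cols fun i => ?_⟩
  rw [Matrix.diagonal_mulVec_single, mul_one,
    show Pi.single i ((Sum.elim ![1, -1] ![1, -1] : I4 → F) i) =
      (Sum.elim ![1, -1] ![1, -1] : I4 → F) i • (Pi.single i (1 : F) : Vec) by simp [← Pi.single_smul],
    Matrix.mulVec_smul, hcol]
  rcases i with i | i <;> fin_cases i <;> simp [hu₁, hv₁, hu₂, hv₂]

/-- The complex normal form. -/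
theorem frame_neg_one (h2 : (2 : F) ≠ 0) (hodd : Fintype.card F % 2 = 1) {x : GL I4 F}
    (hx : x ∈ Cfsg.spGL 2 F) (hx2 : (x : Matrix I4 I4 F) * x = -1) :
    ∃ P : GL I4 F, P ∈ Cfsg.spGL 2 F ∧
      (x : Matrix I4 I4 F) * (P : Matrix I4 I4 F) = (P : Matrix I4 I4 F) * -J4 := by
  classical
  set X : Matrix I4 I4 F := (x : Matrix I4 I4 F) with hX
  have hinv : ∀ u v, sp (X *ᵥ u) (X *ᵥ v) = sp u v := hx
  have hXX : ∀ u, X *ᵥ (X *ᵥ u) = -u := fun u => by
    rw [Matrix.mulVec_mulVec, hx2, Matrix.neg_mulVec, Matrix.one_mulVec]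
  let B : Vec → Vec → F := fun u v => sp u (X *ᵥ v)
  have Bsymm : ∀ u v, B u v = B v u := fun u v => by
    show sp u (X *ᵥ v) = sp v (X *ᵥ u)
    rw [← hinv u (X *ᵥ v), hXX, sp_neg_right, ← sp_swap]
  have Badd : ∀ u v w, B (u + v) w = B u w + B v w := fun u v w => sp_add_left _ _ _
  have Bsmul : ∀ (c : F) u w, B (c • u) w = c * B u w := fun c u w => sp_smul_left _ _ _
  have Bsub : ∀ u v w, B (u - v) w = B u w - B v w := fun u v w => sp_sub_left _ _ _
  have polar : ∀ u v, B (u + v) (u + v) = B u u + 2 * B u v + B v v := fun u v => by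
    rw [Badd, Bsymm u (u + v), Bsymm v (u + v), Badd, Badd, Bsymm v u]; ring
  have represent : ∀ W : Submodule F Vec, (∀ w ∈ W, w ≠ 0 → ∃ v ∈ W, B w v ≠ 0) →
      (∀ e, ∃ w ∈ W, w ∉ Submodule.span F {e}) → ∃ u ∈ W, B u u = 1 := by
    intro W hnd hbig
    have aniso : ∀ W' : Submodule F Vec, (∀ w ∈ W', w ≠ 0 → ∃ v ∈ W', B w v ≠ 0) →
        ∀ w ∈ W', w ≠ 0 → ∃ e ∈ W', B e e ≠ 0 := by
      intro W' h w hw hw0
      by_contra hh
      push Not at hh
      obtain ⟨v, hv, hne⟩ := h w hw hw0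
      have := polar w v
      rw [hh _ (W'.add_mem hw hv), hh _ hw, hh _ hv, zero_add, add_zero] at this
      exact hne ((mul_eq_zero.mp this.symm).resolve_left h2)
    obtain ⟨w₀, hw₀, hw₀'⟩ := hbig 0
    obtain ⟨e, he, hee⟩ := aniso W hnd w₀ hw₀ (fun h => hw₀' (by rw [h]; exact Submodule.zero_mem _))
    let φ : Vec →ₗ[F] F :=
      { toFun := fun w => B w e
        map_add' := fun _ _ => Badd _ _ _
        map_smul' := fun _ _ => Bsmul _ _ _ }
    let proj : Vec → Vec := fun w => w - (B w e / B e e) • e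
    have hproj : ∀ w ∈ W, proj w ∈ W ⊓ LinearMap.ker φ := fun w hw => by
      refine ⟨W.sub_mem hw (W.smul_mem _ he), ?_⟩
      show B (w - _) e = 0
      rw [Bsub, Bsmul, div_mul_cancel₀ _ hee, sub_self]
    obtain ⟨w₁, hw₁, hw₁'⟩ := hbig e
    obtain ⟨f, ⟨hf, hfe⟩, hff⟩ := aniso (W ⊓ LinearMap.ker φ) (by
        rintro w ⟨hw, hwe⟩ hw0
        obtain ⟨v, hv, hne⟩ := hnd w hw hw0
        refine ⟨proj v, hproj v hv, ?_⟩
        show B w (v - _) ≠ 0
        have hwe' : B w e = 0 := hwe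
        rw [Bsymm, Bsub, Bsmul, Bsymm e w, hwe', mul_zero, sub_zero, Bsymm]
        exact hne)
      (proj w₁) (hproj w₁ hw₁) (fun h => hw₁' (by
        rw [sub_eq_zero.mp h]; exact Submodule.smul_mem _ _ (Submodule.mem_span_singleton_self e)))
    obtain ⟨a, b, hab⟩ := FiniteField.exists_root_sum_quadratic (R := F)
      (f := Polynomial.C (B e e) * Polynomial.X ^ 2 + Polynomial.C (-1 : F))
      (g := Polynomial.C (B f f) * Polynomial.X ^ 2)
      (by
        have h : (Polynomial.C (-1 : F)).degree < (Polynomial.C (B e e) * Polynomial.X ^ 2).degree := by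
          rw [Polynomial.degree_C_mul_X_pow 2 hee]
          exact lt_of_le_of_lt Polynomial.degree_C_le
            (show (0 : WithBot ℕ) < ((2 : ℕ) : WithBot ℕ) by norm_num)
        rw [Polynomial.degree_add_eq_left_of_degree_lt h, Polynomial.degree_C_mul_X_pow 2 hee]
        norm_num)
      (Polynomial.degree_C_mul_X_pow 2 hff) hodd
    simp at hab
    refine ⟨a • e + b • f, W.add_mem (W.smul_mem _ he) (W.smul_mem _ hf), ?_⟩
    have hfe' : B f e = 0 := hfe
    rw [polar, Bsmul, Bsmul, Bsymm e (a • e), Bsmul, Bsmul, Bsymm f (b • f), Bsmul,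
      Bsymm e (b • f), Bsmul, hfe']
    linear_combination hab
  obtain ⟨u₁, -, hu₁⟩ := represent ⊤ (fun w _ hw => by
      obtain ⟨v, hv⟩ := sp_nondeg hw
      refine ⟨-(X *ᵥ v), trivial, ?_⟩
      show sp w (X *ᵥ (-(X *ᵥ v))) ≠ 0
      rw [Matrix.mulVec_neg, hXX, neg_neg, hv]; exact one_ne_zero)
    (fun e => by
      have hne : Submodule.span F {e} ≠ ⊤ := fun h => by
        have := finrank_span_le_card (R := F) ({e} : Set Vec)
        rw [h, finrank_top, Module.finrank_pi] at this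
        simp at this
      obtain ⟨w, -, hw⟩ := SetLike.exists_of_lt (lt_top_iff_ne_top.mpr hne)
      exact ⟨w, trivial, hw⟩)
  have hu₁' : sp u₁ (X *ᵥ u₁) = 1 := hu₁
  let φ : Vec →ₗ[F] F × F :=
    { toFun := fun w => (sp w u₁, sp w (X *ᵥ u₁))
      map_add' := fun a b => Prod.ext (sp_add_left _ _ _) (sp_add_left _ _ _)
      map_smul' := fun c a => Prod.ext (sp_smul_left _ _ _) (sp_smul_left _ _ _) }
  have hker : ∀ w, w ∈ LinearMap.ker φ ↔ sp w u₁ = 0 ∧ sp w (X *ᵥ u₁) = 0 := fun w => by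
    simp [φ]
  have hdim : 2 ≤ finrank F (LinearMap.ker φ) := by
    have h := φ.finrank_range_add_finrank_ker
    have h' := Submodule.finrank_le (LinearMap.range φ)
    rw [Module.finrank_prod, Module.finrank_self] at h'
    rw [Module.finrank_pi] at h
    simp at h
    omega
  have hself : ∀ w, sp w w = 0 := fun w => by
    have h := sp_swap w w
    exact (mul_eq_zero.mp (show (2 : F) * sp w w = 0 by linear_combination h)).resolve_left h2
  obtain ⟨u₂, hu₂m, hu₂⟩ := represent (LinearMap.ker φ) (fun w hw hw0 => by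
      obtain ⟨v, hv⟩ := sp_nondeg hw0
      obtain ⟨hw1, hw2⟩ := (hker w).mp hw
      set v' := -(X *ᵥ v)
      have hxv' : X *ᵥ v' = v := by rw [Matrix.mulVec_neg, hXX, neg_neg]
      refine ⟨v' - sp v' (X *ᵥ u₁) • u₁ + sp v' u₁ • (X *ᵥ u₁), (hker _).mpr ⟨?_, ?_⟩, ?_⟩
      · rw [sp_add_left, sp_sub_left, sp_smul_left, sp_smul_left, hself, sp_swap (X *ᵥ u₁), hu₁']
        ring
      · rw [sp_add_left, sp_sub_left, sp_smul_left, sp_smul_left, hself, hu₁']; ring
      · show sp w (X *ᵥ _) ≠ 0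
        rw [Matrix.mulVec_add, Matrix.mulVec_sub, Matrix.mulVec_smul, Matrix.mulVec_smul, hXX,
          sp_add_right, sp_sub_right, sp_smul_right, sp_smul_right, sp_neg_right, hw1, hw2, hxv', hv]
        simp)
    (fun e => by
      by_contra h
      push Not at h
      have h1 := Submodule.finrank_mono (show LinearMap.ker φ ≤ Submodule.span F {e} from fun w hw => h w hw)
      have h2' := finrank_span_le_card (R := F) ({e} : Set Vec)
      simp at h2'
      omega)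
  obtain ⟨h21, h22⟩ := (hker u₂).mp hu₂m
  have hu₂' : sp u₂ (X *ᵥ u₂) = 1 := hu₂
  obtain ⟨P, hP, hcol⟩ := exists_sp_cols (gram_of_pairs (u := ![u₁, u₂])
    (v := ![X *ᵥ u₁, X *ᵥ u₂]) (fun i => by fin_cases i <;> assumption)
    (by show sp u₁ u₂ = 0; rw [sp_swap, h21, neg_zero])
    (by show sp (X *ᵥ u₁) (X *ᵥ u₂) = 0; rw [hinv, sp_swap, h21, neg_zero])
    (by show sp u₁ (X *ᵥ u₂) = 0; exact (Bsymm u₁ u₂).trans h22) h22 h2)
  refine ⟨P, hP, mul_eq_of_cols fun i => ?_⟩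
  have hM : ∀ j : Fin 2, (-J4) *ᵥ (Pi.single (Sum.inr j) 1 : Vec) = Pi.single (Sum.inl j) 1 ∧
      (-J4) *ᵥ (Pi.single (Sum.inl j) 1 : Vec) = -Pi.single (Sum.inr j) 1 := by
    intro j
    constructor <;> funext a <;> rcases a with a | a <;> fin_cases j <;> fin_cases a <;>
      simp [Matrix.J, Matrix.neg_mulVec]
  rcases i with i | i
  · rw [(hM i).2, Matrix.mulVec_neg, hcol, hcol]
    fin_cases i <;> simp [← hX, Matrix.mulVec_mulVec, hx2, Matrix.neg_mulVec]
  · rw [(hM i).1, hcol, hcol]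
    fin_cases i <;> simp

/-- Elements with the same scalar square are conjugate. -/
theorem conj_sp (h2 : (2 : F) ≠ 0) (hodd : Fintype.card F % 2 = 1) {x y : GL I4 F}
    (hx : x ∈ Cfsg.spGL 2 F) (hy : y ∈ Cfsg.spGL 2 F) {e : F} (he : e = 1 ∨ e = -1)
    (hx2 : (x : Matrix I4 I4 F) * x = e • 1) (hy2 : (y : Matrix I4 I4 F) * y = e • 1)
    (hxs : ∀ c : F, (x : Matrix I4 I4 F) ≠ c • 1) (hys : ∀ c : F, (y : Matrix I4 I4 F) ≠ c • 1) :
    ∃ g ∈ Cfsg.spGL 2 F, g⁻¹ * x * g = y := by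
  have key : ∀ {M : Matrix I4 I4 F} {P Q : GL I4 F}, P ∈ Cfsg.spGL 2 F → Q ∈ Cfsg.spGL 2 F →
      (x : Matrix I4 I4 F) * (P : Matrix I4 I4 F) = (P : Matrix I4 I4 F) * M →
      (y : Matrix I4 I4 F) * (Q : Matrix I4 I4 F) = (Q : Matrix I4 I4 F) * M →
      ∃ g ∈ Cfsg.spGL 2 F, g⁻¹ * x * g = y := by
    intro M P Q hP hQ h1 h2
    exact ⟨P * 1 * Q⁻¹, (Cfsg.spGL 2 F).mul_mem ((Cfsg.spGL 2 F).mul_mem hP (one_mem _))
      ((Cfsg.spGL 2 F).inv_mem hQ), conj_of_normal h1 h2 (by simp)⟩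
  rcases he with rfl | rfl
  · rw [one_smul] at hx2 hy2
    obtain ⟨P, hP, h1⟩ := frame_one h2 hx hx2 hxs
    obtain ⟨Q, hQ, h1'⟩ := frame_one h2 hy hy2 hys
    exact key hP hQ h1 h1'
  · rw [neg_one_smul] at hx2 hy2
    obtain ⟨P, hP, h1⟩ := frame_neg_one h2 hodd hx hx2
    obtain ⟨Q, hQ, h1'⟩ := frame_neg_one h2 hodd hy hy2
    exact key hP hQ h1 h1'

end Cfsg.Agent.Lib.Elusive19.Pauli4
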