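/-
Elements of order three in the general linear group of dimension four over a field without cube
roots of unity.
-/
import Cfsg.Agent.Lib.Elusive19.Pauli4.Normal

set_option autoImplicit false
set_option linter.unusedSectionVars false

namespace Cfsg.Agent.Lib.Elusive19.Pauli4

open Module
open scoped Matrix MatrixGroups

variable {F : Type*} [Field F]

local notation "M4" => Matrix (Fin 4) (Fin 4) F

/-- The companion of `X² + X + 1`. -/
def cC : Matrix (Fin 2) (Fin 2) F := !![0, -1; 1, -1]

/-- Two blocks of order three. -/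
def MA : Matrix (Fin 4) (Fin 4) F := emb 0 1 cC * emb 2 3 cC

/-- One block of order three. -/
def MB : Matrix (Fin 4) (Fin 4) F := emb 0 1 cC

theorem commute_block (a b : F) :
    (emb 0 1 !![a, -b; b, a - b] : M4) * MB = MB * emb 0 1 !![a, -b; b, a - b] ∧
      (emb 0 1 !![a, -b; b, a - b] : M4) * MA = MA * emb 0 1 !![a, -b; b, a - b] := by
  have h : (!![a, -b; b, a - b] : Matrix (Fin 2) (Fin 2) F) * cC = cC * !![a, -b; b, a - b] := by
    ext i j; fin_cases i <;> fin_cases j <;>
      simp [cC, Matrix.mul_apply, Fin.sum_univ_two] <;> ring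
  have hd : ∀ X : Matrix (Fin 2) (Fin 2) F, (emb 0 1 X : M4) * emb 2 3 cC = emb 2 3 cC * emb 0 1 X := by
    intro X
    refine Matrix.ext_of_mulVec_single fun l => funext fun i => ?_
    rw [← Matrix.mulVec_mulVec, ← Matrix.mulVec_mulVec]
    simp only [emb_mulVec (show (0 : Fin 4) ≠ 1 by decide), emb_mulVec (show (2 : Fin 4) ≠ 3 by decide)]
    fin_cases i <;> simp
  have hMB : (emb 0 1 !![a, -b; b, a - b] : M4) * MB = MB * emb 0 1 !![a, -b; b, a - b] := by
    rw [MB, emb_mul (by decide), emb_mul (by decide), h]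
  refine ⟨hMB, ?_⟩
  rw [MA, ← mul_assoc, show (emb 0 1 !![a, -b; b, a - b] : M4) * emb 0 1 cC =
    emb 0 1 cC * emb 0 1 !![a, -b; b, a - b] from hMB, mul_assoc, hd, ← mul_assoc]

theorem det_block (a b : F) : (emb 0 1 !![a, -b; b, a - b] : M4).det = a * a - a * b + b * b := by
  simp [Matrix.det_succ_row_zero, Fin.sum_univ_succ, emb, show Fin.succAbove (1 : Fin 4) 2 = 3 from rfl]
  ring

theorem exists_norm [Fintype F] (h2 : (2 : F) ≠ 0) (hodd : Fintype.card F % 2 = 1) (d : F) :
    ∃ a b : F, a * a - a * b + b * b = d ∨ (3 : F) = 0 := by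
  by_cases h3 : (3 : F) = 0
  · exact ⟨0, 0, Or.inr h3⟩
  obtain ⟨A, B, h⟩ := FiniteField.exists_root_sum_quadratic (R := F)
    (f := Polynomial.X ^ 2 - Polynomial.C (4 * d)) (g := Polynomial.C (3 : F) * Polynomial.X ^ 2)
    (Polynomial.degree_X_pow_sub_C (by norm_num) _)
    (Polynomial.degree_C_mul_X_pow 2 h3) hodd
  simp at h
  refine ⟨(A + B) / 2, B, Or.inl ?_⟩
  field_simp
  linear_combination h

variable [Fintype F]

/-- Two elements with the same normal form are conjugate with determinant one. -/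
theorem conj_three (h2 : (2 : F) ≠ 0) (h3 : (3 : F) ≠ 0) (hodd : Fintype.card F % 2 = 1)
    {x y P Q : GL (Fin 4) F} {M : M4} (hM : M = MA ∨ M = MB)
    (hx : (x : M4) * (P : M4) = (P : M4) * M) (hy : (y : M4) * (Q : M4) = (Q : M4) * M) :
    ∃ g : GL (Fin 4) F, (g : M4).det = 1 ∧ g⁻¹ * x * g = y := by
  have hP0 : (P : M4).det ≠ 0 := (Matrix.isUnits_det_units P).ne_zero
  have hQ0 : (Q : M4).det ≠ 0 := (Matrix.isUnits_det_units Q).ne_zero
  obtain ⟨a, b, h⟩ := exists_norm h2 hodd ((Q : M4).det / (P : M4).det)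
  have h' := h.resolve_right h3
  let Z : GL (Fin 4) F := Matrix.GeneralLinearGroup.mkOfDetNeZero (emb 0 1 !![a, -b; b, a - b])
    (by rw [det_block, h']; exact div_ne_zero hQ0 hP0)
  have hZ : (Z : M4) = emb 0 1 !![a, -b; b, a - b] := rfl
  refine ⟨P * Z * Q⁻¹, ?_, conj_of_normal hx hy ?_⟩
  · rw [Units.val_mul, Units.val_mul, Matrix.det_mul, Matrix.det_mul, hZ, det_block, h',
      mul_div_cancel₀ _ hP0, ← Matrix.det_mul, Units.mul_inv, Matrix.det_one]
  · rw [hZ]
    rcases hM with rfl | rfl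
    exacts [(commute_block a b).2, (commute_block a b).1]

theorem trace_MA : (MA : M4).trace = -2 := by
  simp [MA, Matrix.trace, Matrix.mul_apply, Fin.sum_univ_four, emb, cC]
  norm_num

theorem trace_MB : (MB : M4).trace = 1 := by
  simp [MB, Matrix.trace, Fin.sum_univ_four, emb, cC]

theorem trace_of_normal {x P : GL (Fin 4) F} {M : M4} (h : (x : M4) * (P : M4) = (P : M4) * M) :
    (x : M4).trace = M.trace := by
  have e : (x : M4) = (P : M4) * M * ((P⁻¹ : GL (Fin 4) F) : M4) := by
    rw [← h, mul_assoc, Units.mul_inv, mul_one]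
  rw [e, Matrix.trace_mul_cycle, Units.inv_mul, one_mul]

/-- The normal forms. -/
theorem normal_three (hno : ∀ c : F, c * c + c + 1 ≠ 0) {x : GL (Fin 4) F} (hx : x ^ 3 = 1)
    (hx1 : x ≠ 1) :
    ((x : M4) * x + x + 1 = 0 ∧ ∃ P : GL (Fin 4) F, (x : M4) * (P : M4) = (P : M4) * MA) ∨
      ((x : M4).trace = 1 ∧ ∃ P : GL (Fin 4) F, (x : M4) * (P : M4) = (P : M4) * MB) := by
  classical
  set X : M4 := (x : M4) with hX
  have hX3 : X * (X * X) = 1 := by
    have := congrArg (fun t : GL (Fin 4) F => (t : M4)) hx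
    simpa [pow_succ', hX] using this
  have h3 : (3 : F) ≠ 0 := fun h => hno 1 (by linear_combination h)
  set L : (Fin 4 → F) →ₗ[F] (Fin 4 → F) := Matrix.mulVecLin X with hL
  have hLv : ∀ v, L v = X *ᵥ v := fun v => rfl
  have hq3 : ∀ v, X *ᵥ (X *ᵥ (X *ᵥ v)) = v := fun v => by
    rw [Matrix.mulVec_mulVec, Matrix.mulVec_mulVec, mul_assoc, hX3, Matrix.one_mulVec]
  let q : (Fin 4 → F) →ₗ[F] (Fin 4 → F) := L.comp L + L + LinearMap.id
  have hqv : ∀ v, q v = X *ᵥ (X *ᵥ v) + X *ᵥ v + v := fun v => rfl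
  let K : Submodule F (Fin 4 → F) := LinearMap.ker (L - LinearMap.id)
  have hK : ∀ v, v ∈ K ↔ X *ᵥ v = v := fun v => by simp [K, sub_eq_zero, hLv]
  have hqK : ∀ v, q v ∈ K := fun v => by
    rw [hK, hqv, Matrix.mulVec_add, Matrix.mulVec_add, hq3]; abel
  have hKinv : ∀ w ∈ K, X *ᵥ w ∈ K := fun w hw => by
    rw [hK] at hw ⊢; rw [hw, hw]
  -- the span of a pair
  have hU : ∀ v, q v = 0 → ∀ w ∈ Submodule.span F {v, X *ᵥ v}, X *ᵥ w ∈ Submodule.span F {v, X *ᵥ v} := by
    intro v hv w hw
    obtain ⟨a, b, rfl⟩ := Submodule.mem_span_pair.mp hw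
    refine Submodule.mem_span_pair.mpr ⟨-b, a - b, ?_⟩
    rw [hqv] at hv
    rw [Matrix.mulVec_add, Matrix.mulVec_smul, Matrix.mulVec_smul,
      show X *ᵥ (X *ᵥ v) = -(X *ᵥ v) - v by linear_combination (norm := module) hv]
    module
  have hli : ∀ v, v ≠ 0 → q v = 0 → LinearIndependent F ![v, X *ᵥ v] := by
    intro v hv hqv'
    refine LinearIndependent.pair_iff.mpr fun a b hab => ?_
    exact pair_step hno hX3 ⊥ (by simp) (by simpa using hv) (by rw [← hqv]; exact hqv')
      (by simp [hab])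
  have hdim : ∀ v, v ≠ 0 → q v = 0 → finrank F (Submodule.span F {v, X *ᵥ v}) = 2 := by
    intro v hv hqv'
    have := finrank_span_eq_card (hli v hv hqv')
    rwa [Matrix.range_cons, Matrix.range_cons, Matrix.range_empty, Set.union_empty,
      Set.singleton_union, Fintype.card_fin] at this
  by_cases hA : ∀ v, q v = 0
  · refine Or.inl ⟨?_, ?_⟩
    · refine Matrix.ext_of_mulVec_single fun i => ?_
      rw [Matrix.add_mulVec, Matrix.add_mulVec, ← Matrix.mulVec_mulVec, Matrix.one_mulVec,
        Matrix.zero_mulVec]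
      exact hA _
    let v : Fin 4 → F := Pi.single 0 1
    have hv : v ≠ 0 := by simp [v]
    set U := Submodule.span F {v, X *ᵥ v}
    obtain ⟨w, -, hw⟩ := SetLike.exists_of_lt (show U < ⊤ from lt_top_iff_ne_top.mpr fun h => by
      have := hdim v hv (hA v)
      change finrank F U = 2 at this
      rw [h, finrank_top, Module.finrank_pi, Fintype.card_fin] at this
      omega)
    have hind : LinearIndependent F ![v, X *ᵥ v, w, X *ᵥ w] := by
      refine Fintype.linearIndependent_iff.mpr fun g hg => ?_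
      simp [Fin.sum_univ_four] at hg
      have hmem : g 2 • w + g 3 • (X *ᵥ w) ∈ U := Submodule.mem_span_pair.mpr
        ⟨-g 0, -g 1, by linear_combination (norm := module) -hg⟩
      obtain ⟨e2, e3⟩ := pair_step hno hX3 U (hU v (hA v)) hw (by rw [← hqv]; exact hA w) hmem
      rw [e2, e3] at hg
      simp at hg
      obtain ⟨e0, e1⟩ := LinearIndependent.pair_iff.mp (hli v hv (hA v)) _ _ hg
      intro i; fin_cases i <;> assumption
    obtain ⟨P, hP⟩ := exists_cols hind
    refine ⟨P, mul_eq_of_cols fun i => ?_⟩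
    have hw' := hA w
    have hv' := hA v
    rw [hqv] at hw' hv'
    have hM : MA *ᵥ Pi.single i (1 : F) = ![Pi.single 1 1, -Pi.single 0 1 - Pi.single 1 1,
        Pi.single 3 1, -Pi.single 2 1 - Pi.single 3 1] i := by
      rw [MA, ← Matrix.mulVec_mulVec]
      funext j
      simp only [emb_mulVec (show (0 : Fin 4) ≠ 1 by decide), emb_mulVec (show (2 : Fin 4) ≠ 3 by decide)]
      fin_cases i <;> fin_cases j <;> simp [cC]
    rw [hM]
    fin_cases i
    · simp [hP]
    · simp [hP, Matrix.mulVec_sub, Matrix.mulVec_neg, ← Matrix.mulVec_mulVec]; linear_combination (norm := module) hv'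
    · simp [hP]
    · simp [hP, Matrix.mulVec_sub, Matrix.mulVec_neg, ← Matrix.mulVec_mulVec]; linear_combination (norm := module) hw'
  · right
    push Not at hA
    obtain ⟨u₀, hu₀⟩ := hA
    -- a vector killed by the quadratic
    obtain ⟨a₀, ha₀⟩ : ∃ v, X *ᵥ v ≠ v := by
      by_contra h
      push Not at h
      exact hx1 (Units.ext (Matrix.ext_of_mulVec_single fun i => by
        rw [Units.val_one, Matrix.one_mulVec, ← hX]; exact h _))
    set v := X *ᵥ a₀ - a₀ with hvdef
    have hqv0 : q v = 0 := by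
      rw [hqv, hvdef]; simp only [Matrix.mulVec_sub, hq3]; abel
    have hv0 : v ≠ 0 := fun h => ha₀ (sub_eq_zero.mp h)
    have hdisj : ∀ (W : Submodule F (Fin 4 → F)), (∀ w ∈ W, X *ᵥ w ∈ W) → ∀ z, q z = 0 → z ∉ W →
        Disjoint (Submodule.span F {z, X *ᵥ z}) W := by
      intro W hW z hz hzW
      rw [Submodule.disjoint_def]
      intro t ht htW
      obtain ⟨a, b, rfl⟩ := Submodule.mem_span_pair.mp ht
      obtain ⟨rfl, rfl⟩ := pair_step hno hX3 W hW hzW (by rw [← hqv]; exact hz) htW
      simp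
    have hvK : v ∉ K := fun h => by
      rw [hK] at h
      have h' := hqv0
      rw [hqv, h, h] at h'
      exact hv0 ((smul_eq_zero.mp (show (3 : F) • v = 0 by linear_combination (norm := module) h')).resolve_left h3)
    set U := Submodule.span F {v, X *ᵥ v}
    have hUK := hdisj K hKinv v hqv0 hvK
    have hsum : finrank F ↥(U ⊔ K) = 2 + finrank F K := by
      have := Submodule.finrank_sup_add_finrank_inf_eq U K
      rw [disjoint_iff.mp hUK, finrank_bot, hdim v hv0 hqv0] at this
      omega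
    have hK0 : 0 < finrank F K := by
      haveI : Nontrivial K := ⟨⟨⟨q u₀, hqK _⟩, 0, fun h => hu₀ (congrArg Subtype.val h)⟩⟩
      exact Module.finrank_pos
    have htop : U ⊔ K = ⊤ := by
      by_contra hne
      obtain ⟨z, -, hz⟩ := SetLike.exists_of_lt (lt_top_iff_ne_top.mpr hne)
      set z' := z - (3 : F)⁻¹ • q z with hz'
      have hz'mem : z' ∉ U ⊔ K := fun h => hz (by
        have e : z = z' + (3 : F)⁻¹ • q z := by rw [hz', sub_add_cancel]
        rw [e]
        exact (U ⊔ K).add_mem h (Submodule.mem_sup_right (K.smul_mem _ (hqK z))))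
      have hqz : q z' = 0 := by
        rw [hz', map_sub, map_smul, hqv (q z), (hK _).mp (hqK z), (hK _).mp (hqK z)]
        rw [show q z + q z + q z = (3 : F) • q z by module, smul_smul, inv_mul_cancel₀ h3, one_smul,
          sub_self]
      have hinv : ∀ w ∈ U ⊔ K, X *ᵥ w ∈ U ⊔ K := by
        intro w hw
        obtain ⟨a, ha, b, hb, rfl⟩ := Submodule.mem_sup.mp hw
        rw [Matrix.mulVec_add]
        exact Submodule.add_mem_sup (hU v hqv0 a ha) (hKinv b hb)
      have h2 := Submodule.finrank_sup_add_finrank_inf_eq (Submodule.span F {z', X *ᵥ z'}) (U ⊔ K)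
      rw [disjoint_iff.mp (hdisj _ hinv z' hqz hz'mem), finrank_bot,
        hdim z' (fun h => hz'mem (h ▸ Submodule.zero_mem _)) hqz, hsum] at h2
      have h4 := Submodule.finrank_le (Submodule.span F {z', X *ᵥ z'} ⊔ (U ⊔ K))
      rw [Module.finrank_pi, Fintype.card_fin] at h4
      omega
    rw [htop, finrank_top, Module.finrank_pi, Fintype.card_fin] at hsum
    let B := Module.finBasisOfFinrankEq F K (show finrank F K = 2 by omega)
    have hind : LinearIndependent F ![v, X *ᵥ v, (B 0 : Fin 4 → F), (B 1 : Fin 4 → F)] := by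
      refine Fintype.linearIndependent_iff.mpr fun g hg => ?_
      simp [Fin.sum_univ_four] at hg
      have hmem : g 0 • v + g 1 • (X *ᵥ v) ∈ K := by
        rw [show g 0 • v + g 1 • (X *ᵥ v) = -(g 2 • (B 0 : Fin 4 → F) + g 3 • (B 1 : Fin 4 → F)) by
          linear_combination (norm := module) hg]
        exact K.neg_mem (K.add_mem (K.smul_mem _ (B 0).2) (K.smul_mem _ (B 1).2))
      obtain ⟨e0, e1⟩ := pair_step hno hX3 K hKinv hvK (by rw [← hqv]; exact hqv0) hmem
      rw [e0, e1] at hg
      simp at hg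
      have h' : ∑ i, ![g 2, g 3] i • B i = 0 := Subtype.ext (by simpa [Fin.sum_univ_two] using hg)
      have e := Fintype.linearIndependent_iff.mp B.linearIndependent _ h'
      intro i; fin_cases i
      · exact e0
      · exact e1
      · exact e 0
      · exact e 1
    obtain ⟨P, hP⟩ := exists_cols hind
    have hPM : X * (P : M4) = (P : M4) * MB := by
      refine mul_eq_of_cols fun i => ?_
      have hv' := hqv0
      rw [hqv] at hv'
      have hM : MB *ᵥ Pi.single i (1 : F) = ![Pi.single 1 1, -Pi.single 0 1 - Pi.single 1 1,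
          Pi.single 2 1, Pi.single 3 1] i := by
        funext j
        simp only [MB, emb_mulVec (show (0 : Fin 4) ≠ 1 by decide)]
        fin_cases i <;> fin_cases j <;> simp [cC]
      rw [hM]
      fin_cases i
      · simp [hP]
      · simp [hP, Matrix.mulVec_sub, Matrix.mulVec_neg, ← Matrix.mulVec_mulVec]; linear_combination (norm := module) hv'
      · simp [hP]; exact (hK _).mp (B 0).2
      · simp [hP]; exact (hK _).mp (B 1).2
    refine ⟨?_, P, hPM⟩
    have e : X = (P : M4) * MB * ((P⁻¹ : GL (Fin 4) F) : M4) := by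
      rw [← hPM, mul_assoc, Units.mul_inv, mul_one]
    rw [e, Matrix.trace_mul_cycle, Units.inv_mul, one_mul, MB,
      trace_emb (show (0 : Fin 4) ≠ 1 by decide) (Fintype.card_fin 4)]
    simp [cC]
    norm_num

end Cfsg.Agent.Lib.Elusive19.Pauli4
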