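/-
Unitary matters: membership, and frames adapted to elements of order three.
-/
import Cfsg.Agent.Lib.Elusive19.Pauli4.Normal
import Cfsg.Agent.Lib.Elusive19.Pauli4.Targets
import Cfsg.Agent.Lib.Unitary.Witt

set_option autoImplicit false
set_option linter.unusedSectionVars false

namespace Cfsg.Agent.Lib.Elusive19.Pauli4

open Module Cfsg.Agent.Lib.Unitary
open scoped Matrix MatrixGroups

variable {F : Type*} [Field F] [Fintype F] {p n : ℕ}

local notation "M4" => Matrix (Fin 4) (Fin 4) F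
local notation "H4" => Cfsg.hermForm 4 F p

/-- Conjugate transpose. -/
def ctr (hF : Fintype.card F = p ^ 2) (a : M4) : M4 := (a.map (Unitary.conj hF))ᵀ

theorem ctr_mul (hF : Fintype.card F = p ^ 2) (a b : M4) : ctr hF (a * b) = ctr hF b * ctr hF a := by
  simp only [ctr, Matrix.map_mul, Matrix.transpose_mul]

theorem ctr_one (hF : Fintype.card F = p ^ 2) : ctr hF (1 : M4) = 1 := by
  rw [ctr, Matrix.map_one _ (map_zero _) (map_one _), Matrix.transpose_one]

theorem mem_GU_iff_ctr (hF : Fintype.card F = p ^ 2) {y : GL (Fin 4) F} :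
    y ∈ Cfsg.GU 4 F p ↔ ctr hF (y : M4) * (y : M4) = 1 := by
  have e : ∀ a b, (ctr hF (y : M4) * (y : M4)) a b =
      H4 ((y : M4) *ᵥ Pi.single b 1) ((y : M4) *ᵥ Pi.single a 1) := by
    intro a b
    rw [Matrix.mul_apply, Cfsg.hermForm]
    refine Finset.sum_congr rfl fun m _ => ?_
    simp only [Matrix.mulVec_single_one, Matrix.col_apply, ctr, Matrix.transpose_apply, Matrix.map_apply]
    show (y : M4) m a ^ p * _ = _
    ring
  constructor
  · intro h
    ext a b
    rw [e, mem_GU_iff.mp h, herm_std hF, Matrix.one_apply]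
    simp only [eq_comm]
  · intro h
    rw [mem_GU_iff]
    intro u v
    have hu : ∀ w : Fin 4 → F, w = ∑ i, w i • Pi.single i (1 : F) := fun w => by
      funext j; simp [Pi.single_apply]
    conv_lhs => rw [hu u, hu v, Matrix.mulVec_sum, Matrix.mulVec_sum]
    conv_rhs => rw [hu u, hu v]
    rw [herm_sum_left, herm_sum_left]
    refine Finset.sum_congr rfl fun i _ => ?_
    rw [herm_sum_right _ hF, herm_sum_right _ hF]
    refine Finset.sum_congr rfl fun j _ => ?_
    simp only [Matrix.mulVec_smul, herm_smul_left, herm_smul_right, ← e, h, herm_std hF, Matrix.one_apply]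
    simp only [eq_comm]

theorem inv_two_fixed (hF : Fintype.card F = p ^ 2) : ((2 : F)⁻¹) ^ p = (2 : F)⁻¹ := by
  show Unitary.conj hF (2 : F)⁻¹ = _
  rw [map_inv₀, map_ofNat]

/-- An isometry with square `±1` is self adjoint up to that sign. -/
theorem adjoint_of_sq (hF : Fintype.card F = p ^ 2) {a : GL (Fin 4) F} (ha : a ∈ Cfsg.GU 4 F p) {e : F}
    (he : e = 1 ∨ e = -1) (h : (a : M4) * a = e • 1) (u v : Fin 4 → F) :
    H4 ((a : M4) *ᵥ u) v = e * H4 u ((a : M4) *ᵥ v) := by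
  have hee : e ^ p = e := by
    show Unitary.conj hF e = e
    rcases he with rfl | rfl <;> simp [map_one, map_neg]
  have h2 : e * e = 1 := by rcases he with rfl | rfl <;> ring
  have h3 := mem_GU_iff.mp ha u ((a : M4) *ᵥ v)
  rw [Matrix.mulVec_mulVec, h, Matrix.smul_mulVec, Matrix.one_mulVec, herm_smul_right, hee] at h3
  rw [← h3, ← mul_assoc, h2, one_mul]

/-- The quaternion element of order three is unitary. -/
theorem hQ_mem_GU (hF : Fintype.card F = p ^ 2) (h2 : (2 : F) ≠ 0) {g a b : GL (Fin 4) F}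
    (ha : a ∈ Cfsg.GU 4 F p) (hb : b ∈ Cfsg.GU 4 F p) (ha2 : (a : M4) * a = -1)
    (hb2 : (b : M4) * b = -1) (hba : (b : M4) * a = -((a : M4) * b))
    (hg : (g : M4) = hQ (a : M4) b) : g ∈ Cfsg.GU 4 F p := by
  rw [mem_GU_iff]
  intro u v
  rw [hg]
  have hadja := adjoint_of_sq hF ha (Or.inr rfl) (by rw [ha2, neg_one_smul])
  have hadjb := adjoint_of_sq hF hb (Or.inr rfl) (by rw [hb2, neg_one_smul])
  have hadj : ∀ u v, H4 (hQ (a : M4) b *ᵥ u) v = H4 u ((hQ (a : M4) b * hQ (a : M4) b) *ᵥ v) := by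
    intro u v
    have e : hQ (a : M4) b * hQ (a : M4) b =
        (2 : F)⁻¹ • (-1 - (a : M4) - (b : M4) - (a : M4) * b) := by
      rw [hQ_sq h2 ha2 hb2 hba, hQ]
      match_scalars <;> field_simp <;> ring
    rw [e, hQ]
    simp only [Matrix.smul_mulVec, Matrix.add_mulVec, Matrix.sub_mulVec, Matrix.neg_mulVec,
      Matrix.one_mulVec, herm_smul_left, herm_smul_right, inv_two_fixed hF, herm_add_left,
      herm_neg_left, herm_sub_right _ _ _ hF, herm_neg_right _ _ hF, ← Matrix.mulVec_mulVec, hadja, hadjb]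
    have hswap : ∀ w, (b : M4) *ᵥ ((a : M4) *ᵥ w) = -((a : M4) *ᵥ ((b : M4) *ᵥ w)) := fun w => by
      rw [Matrix.mulVec_mulVec, hba, Matrix.neg_mulVec, Matrix.mulVec_mulVec]
    rw [hswap, herm_neg_right _ _ hF]
    ring
  rw [hadj, Matrix.mulVec_mulVec, mul_assoc, hQ_cube h2 ha2 hb2 hba, Matrix.one_mulVec]

/-- The involution of trace two is unitary. -/
theorem jInv_mem_GU (hF : Fintype.card F = p ^ 2) (h2 : (2 : F) ≠ 0) {g a b : GL (Fin 4) F}
    (ha : a ∈ Cfsg.GU 4 F p) (hb : b ∈ Cfsg.GU 4 F p) (ha2 : (a : M4) * a = 1)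
    (hb2 : (b : M4) * b = 1) (hab : Commute (a : M4) b)
    (hg : (g : M4) = jInv (a : M4) b) : g ∈ Cfsg.GU 4 F p := by
  rw [mem_GU_iff]
  intro u v
  rw [hg]
  have hadja := adjoint_of_sq hF ha (Or.inl rfl) (by rw [ha2, one_smul])
  have hadjb := adjoint_of_sq hF hb (Or.inl rfl) (by rw [hb2, one_smul])
  have hadj : ∀ u v, H4 (jInv (a : M4) b *ᵥ u) v = H4 u (jInv (a : M4) b *ᵥ v) := by
    intro u v
    simp only [jInv, Matrix.smul_mulVec, Matrix.add_mulVec, Matrix.sub_mulVec, Matrix.one_mulVec,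
      herm_smul_left, herm_smul_right, inv_two_fixed hF, herm_add_left, herm_sub_left,
      herm_add_right _ _ _ hF, herm_sub_right _ _ _ hF, ← Matrix.mulVec_mulVec, hadja, hadjb, one_mul]
    rw [show (b : M4) *ᵥ ((a : M4) *ᵥ v) = (a : M4) *ᵥ ((b : M4) *ᵥ v) by
      rw [Matrix.mulVec_mulVec, ← hab.eq, Matrix.mulVec_mulVec]]
  rw [hadj, Matrix.mulVec_mulVec, jInv_sq h2 ha2 hb2 hab, Matrix.one_mulVec]

/-- Two frames with the same values and the same diagonal form. -/
theorem conj_of_frames (hF : Fintype.card F = p ^ 2) {x y : GL (Fin 4) F} {d : Fin 4 → F}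
    {σ : Fin 4 → Fin 4} (hσ : σ 0 = 2 ∧ σ 2 = 0) (hσσ : ∀ i, σ (σ i) = i) {b c : Fin 4 → Fin 4 → F}
    (hb : ∀ i, (x : M4) *ᵥ b i = d i • b i) (hc : ∀ i, (y : M4) *ᵥ c i = d i • c i)
    (hbg : ∀ i j, H4 (b i) (b j) = if j = σ i then 1 else 0)
    (hcg : ∀ i j, H4 (c i) (c j) = if j = σ i then 1 else 0) :
    ∃ g ∈ Cfsg.GU 4 F p, (g : M4).det = 1 ∧ g⁻¹ * x * g = y := by
  have hli : ∀ {w : Fin 4 → Fin 4 → F}, (∀ i j, H4 (w i) (w j) = if j = σ i then 1 else 0) →
      LinearIndependent F w := by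
    intro w hw
    refine Fintype.linearIndependent_iff.mpr fun g hg i => ?_
    have h := congrArg (fun t => H4 t (w (σ i))) hg
    simp only [herm_sum_left, herm_smul_left, herm_zero_left, hw] at h
    rw [Finset.sum_eq_single i] at h
    · simpa using h
    · intro j _ hj
      rw [if_neg fun h' => hj (by rw [← hσσ j, ← h', hσσ]), mul_zero]
    · simp
  obtain ⟨Q, hQ⟩ := exists_cols (hli hcg)
  -- an isometry carrying one frame to the other
  have hiso : ∀ {w : Fin 4 → Fin 4 → F} {P : GL (Fin 4) F},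
      (∀ i, (P : M4) *ᵥ Pi.single i 1 = w i) → (∀ i j, H4 (w i) (w j) = if j = σ i then 1 else 0) →
      P * Q⁻¹ ∈ Cfsg.GU 4 F p := by
    intro w P hP hw
    rw [mem_GU_iff]
    intro u v
    have key : ∀ a b : Fin 4 → F, H4 ((P : M4) *ᵥ a) ((P : M4) *ᵥ b) = H4 ((Q : M4) *ᵥ a) ((Q : M4) *ᵥ b) := by
      intro a b
      have hu : ∀ w : Fin 4 → F, w = ∑ i, w i • Pi.single i (1 : F) := fun w => by
        funext j; simp [Pi.single_apply]
      conv_lhs => rw [hu a, hu b, Matrix.mulVec_sum, Matrix.mulVec_sum]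
      conv_rhs => rw [hu a, hu b, Matrix.mulVec_sum, Matrix.mulVec_sum]
      simp only [Matrix.mulVec_smul, hP, hQ, herm_sum_left, herm_sum_right _ hF, herm_smul_left,
        herm_smul_right, hw, hcg]
    rw [Units.val_mul, ← Matrix.mulVec_mulVec, ← Matrix.mulVec_mulVec, key, Matrix.mulVec_mulVec,
      Matrix.mulVec_mulVec, Units.mul_inv, Matrix.one_mulVec, Matrix.one_mulVec]
  obtain ⟨P, hP⟩ := exists_cols (hli hbg)
  have hg := hiso hP hbg
  set d₀ := ((P * Q⁻¹ : GL (Fin 4) F) : M4).det with hd₀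
  have hnorm : d₀ * d₀ ^ p = 1 := det_norm_one hF ⟨_, hg⟩
  obtain ⟨t, ht, htd⟩ := exists_div_conj hF (z := d₀⁻¹) (by rw [inv_pow, ← mul_inv, hnorm, inv_one])
  have htp : t ^ p ≠ 0 := pow_ne_zero _ ht
  let s : Fin 4 → F := ![t, 1, (t ^ p)⁻¹, 1]
  have hs : ∀ i, s i * s (σ i) ^ p = 1 := by
    have h13 : ∀ i, i = 1 ∨ i = 3 → σ i = 1 ∨ σ i = 3 := by
      intro i hi
      have h0 : σ i ≠ 0 := fun h => by
        have := hσσ i; rw [h, hσ.1] at this; subst this; simp at hi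
      have h2 : σ i ≠ 2 := fun h => by
        have := hσσ i; rw [h, hσ.2] at this; subst this; simp at hi
      exact (by decide : ∀ k : Fin 4, k ≠ 0 → k ≠ 2 → k = 1 ∨ k = 3) (σ i) h0 h2
    intro i
    fin_cases i
    · simp [hσ.1, s, inv_pow, pow_q_q hF, ht]
    · rcases h13 1 (Or.inl rfl) with h | h <;> simp [h, s]
    · simp [hσ.2, s, htp]
    · rcases h13 3 (Or.inr rfl) with h | h <;> simp [h, s]
  have hb'g : ∀ i j, H4 (s i • b i) (s j • b j) = if j = σ i then 1 else 0 := by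
    intro i j
    rw [herm_smul_left, herm_smul_right, hbg]
    split_ifs with h
    · rw [h, mul_one, hs]
    · simp
  obtain ⟨P', hP'⟩ := exists_cols (hli hb'g)
  have hP'eq : (P' : M4) = (P : M4) * Matrix.diagonal s := Matrix.ext_of_mulVec_single fun i => by
    rw [hP', ← Matrix.mulVec_mulVec, Matrix.diagonal_mulVec_single, mul_one,
      show Pi.single i (s i) = s i • (Pi.single i (1 : F) : Fin 4 → F) by simp [← Pi.single_smul],
      Matrix.mulVec_smul, hP]
  refine ⟨P' * 1 * Q⁻¹, by simpa using hiso hP' hb'g, ?_,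
    conj_of_normal (M := Matrix.diagonal d) ?_ ?_ (by simp)⟩
  · rw [mul_one, Units.val_mul, hP'eq, Matrix.det_mul, Matrix.det_mul, Matrix.det_diagonal]
    have e : (∏ i, s i) = d₀⁻¹ := by
      rw [Fin.prod_univ_four]
      show t * 1 * (t ^ p)⁻¹ * 1 = _
      rw [mul_one, mul_one, mul_inv_eq_iff_eq_mul₀ htp]
      exact htd
    rw [e, mul_right_comm, ← Matrix.det_mul, ← Units.val_mul, ← hd₀, mul_inv_cancel₀]
    exact left_ne_zero_of_mul_eq_one hnorm
  · refine mul_eq_of_cols fun i => ?_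
    rw [hP', Matrix.mulVec_smul, hb, Matrix.diagonal_mulVec_single, mul_one,
      show Pi.single i (d i) = d i • (Pi.single i (1 : F) : Fin 4 → F) by simp [← Pi.single_smul],
      Matrix.mulVec_smul, hP', smul_comm]
  · refine mul_eq_of_cols fun i => ?_
    rw [hQ, hc, Matrix.diagonal_mulVec_single, mul_one,
      show Pi.single i (d i) = d i • (Pi.single i (1 : F) : Fin 4 → F) by simp [← Pi.single_smul],
      Matrix.mulVec_smul, hQ]

/-- The two normal forms of an element of order three. -/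
theorem three_frames (hF : Fintype.card F = p ^ 2) {ω : F} (hω : ω * ω + ω + 1 = 0) (hωp : ω ^ p = ω)
    (h3 : (3 : F) ≠ 0) {x : GL (Fin 4) F} (hxU : x ∈ Cfsg.GU 4 F p) (hx : x ^ 3 = 1) (hx1 : x ≠ 1) :
    (∃ b : Fin 4 → Fin 4 → F, (∀ i, (x : M4) *ᵥ b i = ![ω, ω, ω * ω, ω * ω] i • b i) ∧
        (∀ i j, H4 (b i) (b j) = if j = ![2, 3, 0, 1] i then 1 else 0) ∧
        (x : M4).trace = -2) ∨
      ∃ b : Fin 4 → Fin 4 → F, (∀ i, (x : M4) *ᵥ b i = ![ω, 1, ω * ω, 1] i • b i) ∧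
        (∀ i j, H4 (b i) (b j) = if j = ![2, 1, 0, 3] i then 1 else 0) ∧
        (x : M4).trace = 1 := by
  classical
  set X : M4 := (x : M4)
  have hX3 : ∀ v, X *ᵥ (X *ᵥ (X *ᵥ v)) = v := fun v => by
    have := congrArg (fun g : GL (Fin 4) F => (g : M4) *ᵥ v) hx
    simpa [pow_succ', ← Matrix.mulVec_mulVec] using this
  have hinv : ∀ u v, H4 (X *ᵥ u) (X *ᵥ v) = H4 u v := mem_GU_iff.mp hxU
  have hω0 : ω ≠ 0 := fun h => by simp [h] at hω
  have hω3 : ω * (ω * ω) = 1 := by linear_combination (ω - 1) * hω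
  have hω1 : ω ≠ 1 := fun h => h3 (by rw [h] at hω; linear_combination hω)
  have hω2 : ω * ω ≠ 1 := fun h => hω1 (by linear_combination hω3 - ω * h)
  have hfix : ∀ l : F, l = 1 ∨ l = ω ∨ l = ω * ω → l ^ p = l ∧ l * (l * l) = 1 := by
    rintro l (rfl | rfl | rfl)
    · simp
    · exact ⟨hωp, hω3⟩
    · exact ⟨by rw [mul_pow, hωp], by linear_combination (ω * (ω * ω) + 1) * hω3⟩
  let Pr : F → (Fin 4 → F) → Fin 4 → F := fun l v =>
    (3 : F)⁻¹ • (v + (l * l) • (X *ᵥ v) + l • (X *ᵥ (X *ᵥ v)))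
  have hPr : ∀ l, l = 1 ∨ l = ω ∨ l = ω * ω → ∀ v, X *ᵥ Pr l v = l • Pr l v := by
    intro l hl v
    obtain ⟨-, hl3⟩ := hfix l hl
    simp only [Pr, Matrix.mulVec_smul, Matrix.mulVec_add, hX3]
    rw [smul_comm l]
    congr 1
    rw [smul_add, smul_add, smul_smul, smul_smul, hl3, one_smul]
    module
  have hsum : ∀ v, Pr 1 v + Pr ω v + Pr (ω * ω) v = v := by
    intro v
    have hw : ω * ω = -1 - ω := by linear_combination hω
    have hw' : ω * ω * (ω * ω) = ω := by linear_combination ω * hω3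
    simp only [Pr, hw']
    rw [hw]
    match_scalars <;> field_simp <;> ring
  have hzero : ∀ {l m : F} {u v : Fin 4 → F}, (m = 1 ∨ m = ω ∨ m = ω * ω) → X *ᵥ u = l • u →
      X *ᵥ v = m • v → l * m ≠ 1 → H4 u v = 0 := by
    intro l m u v hm hu hv hne
    have h := hinv u v
    rw [hu, hv, herm_smul_left, herm_smul_right, (hfix m hm).1, ← mul_assoc] at h
    by_contra h0
    exact hne (mul_right_cancel₀ h0 (h.trans (one_mul _).symm))
  have hpair : ∀ {l : F} {u : Fin 4 → F}, (l = 1 ∨ l = ω ∨ l = ω * ω) → X *ᵥ u = l • u →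
      ∀ v, H4 u v = H4 u (Pr (l * l) v) := by
    intro l u hl hu v
    obtain ⟨hlp, hl3⟩ := hfix l hl
    have hux : ∀ w, H4 u (X *ᵥ w) = l * l * H4 u w := by
      intro w
      have h := hinv u w
      rw [hu, herm_smul_left] at h
      linear_combination (l * l) * h - H4 u (X *ᵥ w) * hl3
    have h3' : ((3 : F)⁻¹) ^ p = (3 : F)⁻¹ := by
      show Unitary.conj hF (3 : F)⁻¹ = _
      rw [map_inv₀, map_ofNat]
    simp only [Pr, herm_smul_right, herm_add_right _ _ _ hF, h3', mul_pow, hlp, hux]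
    have e1 : l * l * (l * l) * (l * l) = 1 := by linear_combination (l * (l * l) + 1) * hl3
    field_simp
    linear_combination (-(2 * H4 u v) * (l ^ 3 + 1)) * hl3
  have hpartner : ∀ {l : F} {u : Fin 4 → F}, (l = 1 ∨ l = ω ∨ l = ω * ω) → X *ᵥ u = l • u → u ≠ 0 →
      ∃ v, X *ᵥ v = (l * l) • v ∧ H4 u v = 1 := by
    intro l u hl hu hu0
    obtain ⟨v, hv⟩ : ∃ v, H4 u v ≠ 0 := by
      by_contra h
      push Not at h
      exact hu0 (herm_nondeg_left hF h)
    rw [hpair hl hu] at hv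
    have hll : l * l = 1 ∨ l * l = ω ∨ l * l = ω * ω := by
      rcases hl with rfl | rfl | rfl
      · simp
      · simp
      · exact Or.inr (Or.inl (by linear_combination ω * hω3))
    refine ⟨((H4 u (Pr (l * l) v))⁻¹) ^ p • Pr (l * l) v, ?_, ?_⟩
    · rw [Matrix.mulVec_smul, hPr _ hll, smul_comm]
    · rw [herm_smul_right, pow_q_q hF, inv_mul_cancel₀ hv]
  -- an anisotropic vector
  have haniso : ∀ (W : Submodule F (Fin 4 → F)) (z : Fin 4 → F), z ∈ W → z ≠ 0 →
      (∀ v, ∃ v' ∈ W, H4 z v = H4 z v') → ∃ w ∈ W, H4 w w = 1 := by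
    intro W z hz hz0 hproj
    obtain ⟨w, hw, hww⟩ : ∃ w ∈ W, H4 w w ≠ 0 := by
      by_contra h
      push Not at h
      refine hz0 (herm_nondeg_left hF fun v => ?_)
      obtain ⟨v', hv', e⟩ := hproj v
      rw [e]
      refine eq_zero_of_trace_mul_eq_zero hF fun c => ?_
      have h' := h (c • z + v') (W.add_mem (W.smul_mem _ hz) hv')
      simp only [herm_add_left, herm_add_right _ _ _ hF, herm_smul_left, herm_smul_right, h z hz,
        h v' hv', mul_zero, add_zero, zero_add] at h'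
      rw [mul_pow, herm_conj z v' hF]
      linear_combination h'
    obtain ⟨t, ht⟩ := norm_surj hF (y := (H4 w w)⁻¹) (by rw [inv_pow, herm_self_fixed w hF])
    refine ⟨t • w, W.smul_mem _ hw, ?_⟩
    rw [herm_smul_left, herm_smul_right, ← mul_assoc, ht, inv_mul_cancel₀ hww]
  have hconj1 : ∀ {u v : Fin 4 → F}, H4 u v = 1 → H4 v u = 1 := fun h => by
    rw [← herm_conj _ _ hF, h, one_pow]
  have htrace : ∀ (d : Fin 4 → F) (b : Fin 4 → Fin 4 → F) (σ : Fin 4 → Fin 4), (∀ i, σ (σ i) = i) →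
      (∀ i j, H4 (b i) (b j) = if j = σ i then 1 else 0) → (∀ i, X *ᵥ b i = d i • b i) →
      X.trace = ∑ i, d i := by
    intro d b σ hσσ hg hd
    have hind : LinearIndependent F b := by
      refine Fintype.linearIndependent_iff.mpr fun g hg' i => ?_
      have h := congrArg (fun t => H4 t (b (σ i))) hg'
      simp only [herm_sum_left, herm_smul_left, herm_zero_left, hg] at h
      rw [Finset.sum_eq_single i] at h
      · simpa using h
      · intro j _ hj
        rw [if_neg fun h' => hj (by rw [← hσσ j, ← h', hσσ]), mul_zero]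
      · simp
    obtain ⟨P, hP⟩ := exists_cols hind
    have h : X * (P : M4) = (P : M4) * Matrix.diagonal d := mul_eq_of_cols fun i => by
      rw [hP, hd, Matrix.diagonal_mulVec_single, mul_one,
        show Pi.single i (d i) = d i • (Pi.single i (1 : F) : Fin 4 → F) by simp [← Pi.single_smul],
        Matrix.mulVec_smul, hP]
    have e : X = (P : M4) * Matrix.diagonal d * ((P⁻¹ : GL (Fin 4) F) : M4) := by
      rw [← h, mul_assoc, Units.mul_inv, mul_one]
    rw [e, Matrix.trace_mul_cycle, Units.inv_mul, one_mul, Matrix.trace_diagonal]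
  -- the first pair
  have lω : ω = 1 ∨ ω = ω ∨ ω = ω * ω := Or.inr (Or.inl rfl)
  have lω2 : ω * ω = 1 ∨ ω * ω = ω ∨ ω * ω = ω * ω := Or.inr (Or.inr rfl)
  have l1 : (1 : F) = 1 ∨ (1 : F) = ω ∨ (1 : F) = ω * ω := Or.inl rfl
  have hω4 : ω * ω * (ω * ω) = ω := by linear_combination ω * hω3
  obtain ⟨u1, v1, hu1, hv1, h11⟩ : ∃ u v, X *ᵥ u = ω • u ∧ X *ᵥ v = (ω * ω) • v ∧ H4 u v = 1 := by
    by_cases h : ∀ v, Pr ω v = 0 ∧ Pr (ω * ω) v = 0
    · refine absurd (Units.ext (Matrix.ext_of_mulVec_single fun i => ?_)) hx1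
      have e := hsum (Pi.single i 1)
      rw [(h _).1, (h _).2, add_zero, add_zero] at e
      show X *ᵥ Pi.single i 1 = (1 : M4) *ᵥ Pi.single i 1
      rw [Matrix.one_mulVec]
      nth_rw 1 [← e]
      rw [hPr 1 l1, one_smul, e]
    · push Not at h
      obtain ⟨v, hv⟩ := h
      by_cases h0 : Pr ω v = 0
      · obtain ⟨u, hu, hh⟩ := hpartner lω2 (hPr _ lω2 v) (hv h0)
        rw [hω4] at hu
        exact ⟨u, _, hu, hPr _ lω2 v, hconj1 hh⟩
      · obtain ⟨w, hw, hh⟩ := hpartner lω (hPr _ lω v) h0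
        exact ⟨_, w, hPr _ lω v, hw, hh⟩
  have hu1u : ∀ u, X *ᵥ u = ω • u → H4 u1 u = 0 := fun u hu => hzero lω hu1 hu hω2
  have hωω : ω * ω * (ω * ω) ≠ 1 := by rw [hω4]; exact hω1
  by_cases hA : ∃ u, u ≠ 0 ∧ X *ᵥ u = ω • u ∧ H4 u v1 = 0
  · obtain ⟨u2, hu20, hu2, h21⟩ := hA
    obtain ⟨v, hv, h2v⟩ := hpartner lω hu2 hu20
    set v2 := v - (H4 u1 v) ^ p • v1 with hv2def
    have hv2 : X *ᵥ v2 = (ω * ω) • v2 := by
      rw [hv2def, Matrix.mulVec_sub, Matrix.mulVec_smul, hv, hv1, smul_sub, smul_comm]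
    have h22 : H4 u2 v2 = 1 := by
      rw [hv2def, herm_sub_right _ _ _ hF, herm_smul_right, h21, h2v]; ring
    have h12 : H4 u1 v2 = 0 := by
      rw [hv2def, herm_sub_right _ _ _ hF, herm_smul_right, h11, pow_q_q hF]; ring
    have hd : ∀ i, X *ᵥ ![u1, u2, v1, v2] i = ![ω, ω, ω * ω, ω * ω] i • ![u1, u2, v1, v2] i := by
      intro i; fin_cases i <;> assumption
    have hg : ∀ i j, H4 (![u1, u2, v1, v2] i) (![u1, u2, v1, v2] j) =
        if j = ![2, 3, 0, 1] i then 1 else 0 := by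
      intro i j
      fin_cases i <;> fin_cases j <;> simp [h11, h22, h12, h21, hconj1 h11, hconj1 h22,
        herm_eq_zero_symm hF h12, herm_eq_zero_symm hF h21, hzero lω hu1 hu1 hω2,
        hzero lω hu1 hu2 hω2, hzero lω hu2 hu1 hω2, hzero lω hu2 hu2 hω2, hzero lω2 hv1 hv1 hωω,
        hzero lω2 hv1 hv2 hωω, hzero lω2 hv2 hv1 hωω, hzero lω2 hv2 hv2 hωω]
    refine Or.inl ⟨_, hd, hg, ?_⟩
    rw [htrace _ _ ![2, 3, 0, 1] (by decide) hg hd, Fin.sum_univ_four]
    show ω + ω + ω * ω + ω * ω = -2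
    linear_combination 2 * hω
  · right
    push Not at hA
    have hspanu : ∀ u, X *ᵥ u = ω • u → u = H4 u v1 • u1 := by
      intro u hu
      by_contra hne
      refine hA (u - H4 u v1 • u1) (sub_ne_zero.mpr hne) ?_ ?_
      · rw [Matrix.mulVec_sub, Matrix.mulVec_smul, hu, hu1, smul_sub, smul_comm]
      · rw [herm_sub_left, herm_smul_left, h11]; ring
    have hspanv : ∀ v, X *ᵥ v = (ω * ω) • v → v = (H4 u1 v) ^ p • v1 := by
      intro v hv
      by_contra hne
      set w := v - (H4 u1 v) ^ p • v1 with hwdef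
      have hw : X *ᵥ w = (ω * ω) • w := by
        rw [hwdef, Matrix.mulVec_sub, Matrix.mulVec_smul, hv, hv1, smul_sub, smul_comm]
      have hw1 : H4 u1 w = 0 := by
        rw [hwdef, herm_sub_right _ _ _ hF, herm_smul_right, h11, pow_q_q hF]; ring
      obtain ⟨u, hu, hwu⟩ := hpartner lω2 hw (sub_ne_zero.mpr hne)
      rw [hω4] at hu
      rw [hspanu u hu, herm_smul_right, herm_eq_zero_symm hF hw1, mul_zero] at hwu
      exact zero_ne_one hwu
    let E1 : Submodule F (Fin 4 → F) := LinearMap.ker (Matrix.mulVecLin X - LinearMap.id)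
    have hE1 : ∀ v, v ∈ E1 ↔ X *ᵥ v = v := fun v => by simp [E1, sub_eq_zero]
    have hPr1 : ∀ v, Pr 1 v ∈ E1 := fun v => (hE1 _).mpr (by rw [hPr 1 l1, one_smul])
    have hout : ∀ s : Finset (Fin 4 → F), u1 ∈ s → v1 ∈ s → s.card < 4 →
        ∃ z ∈ E1, z ∉ Submodule.span F (s : Set (Fin 4 → F)) := by
      intro s hs1 hs2 hcard
      obtain ⟨z, -, hz⟩ := SetLike.exists_of_lt (show Submodule.span F (s : Set (Fin 4 → F)) < ⊤ from
        lt_top_iff_ne_top.mpr fun h => by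
          have h' := finrank_span_finset_le_card (R := F) s
          rw [Set.finrank, h, finrank_top, Module.finrank_pi, Fintype.card_fin] at h'
          omega)
      refine ⟨Pr 1 z, hPr1 z, fun hmem => hz ?_⟩
      rw [← hsum z, hspanu _ (hPr _ lω z), hspanv _ (hPr _ lω2 z)]
      exact Submodule.add_mem _ (Submodule.add_mem _ hmem
        (Submodule.smul_mem _ _ (Submodule.subset_span hs1)))
        (Submodule.smul_mem _ _ (Submodule.subset_span hs2))
    obtain ⟨z1, hz1, hz1'⟩ := hout {u1, v1} (by simp) (by simp)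
      (lt_of_le_of_lt Finset.card_le_two (by norm_num))
    obtain ⟨w1, hw1m, hw1⟩ := haniso E1 z1 hz1 (fun h => hz1' (h ▸ Submodule.zero_mem _))
      (fun v => ⟨Pr 1 v, hPr1 v, by
        have h := hpair l1 (by rw [one_smul]; exact (hE1 z1).mp hz1) v
        rwa [one_mul] at h⟩)
    let φ : (Fin 4 → F) →ₗ[F] F :=
      { toFun := fun v => H4 v w1
        map_add' := fun a b => herm_add_left a b w1
        map_smul' := fun c a => herm_smul_left a w1 c }
    have hproj : ∀ v ∈ E1, v - H4 v w1 • w1 ∈ E1 ⊓ LinearMap.ker φ := fun v hv => by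
      refine ⟨E1.sub_mem hv (E1.smul_mem _ hw1m), ?_⟩
      show H4 (v - H4 v w1 • w1) w1 = 0
      rw [herm_sub_left, herm_smul_left, hw1]; ring
    obtain ⟨z2, hz2, hz2'⟩ := hout {u1, v1, w1} (by simp) (by simp)
      (lt_of_le_of_lt Finset.card_le_three (by norm_num))
    obtain ⟨w2, ⟨hw2m, hw21⟩, hw2⟩ := haniso (E1 ⊓ LinearMap.ker φ) _ (hproj z2 hz2)
      (fun h => hz2' (by
        rw [sub_eq_zero.mp h]
        exact Submodule.smul_mem _ _ (Submodule.subset_span (by simp))))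
      (fun v => ⟨_, hproj _ (hPr1 v), by
        obtain ⟨hm, hk⟩ := hproj z2 hz2
        have h := hpair l1 (by rw [one_smul]; exact (hE1 _).mp hm) v
        rw [one_mul] at h
        rw [herm_sub_right _ _ _ hF, herm_smul_right _ w1 _, show H4 (z2 - H4 z2 w1 • w1) w1 = 0 from hk,
          mul_zero, sub_zero]
        exact h⟩)
    have hw1e : X *ᵥ w1 = (1 : F) • w1 := by rw [one_smul]; exact (hE1 _).mp hw1m
    have hw2e : X *ᵥ w2 = (1 : F) • w2 := by rw [one_smul]; exact (hE1 _).mp hw2m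
    have h21' : H4 w2 w1 = 0 := hw21
    have hd : ∀ i, X *ᵥ ![u1, w1, v1, w2] i = ![ω, 1, ω * ω, 1] i • ![u1, w1, v1, w2] i := by
      intro i; fin_cases i <;> assumption
    have hg : ∀ i j, H4 (![u1, w1, v1, w2] i) (![u1, w1, v1, w2] j) =
        if j = ![2, 1, 0, 3] i then 1 else 0 := by
      intro i j
      have n1 : ω * 1 ≠ 1 := by rw [mul_one]; exact hω1
      have n2 : ω * ω * 1 ≠ 1 := by rw [mul_one]; exact hω2
      fin_cases i <;> fin_cases j <;> simp [h11, hconj1 h11, hw1, hw2, h21', herm_eq_zero_symm hF h21',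
        hzero lω hu1 hu1 hω2, hzero lω2 hv1 hv1 hωω, hzero l1 hu1 hw1e n1, hzero l1 hu1 hw2e n1,
        hzero l1 hv1 hw1e n2, hzero l1 hv1 hw2e n2, herm_eq_zero_symm hF (hzero l1 hu1 hw1e n1),
        herm_eq_zero_symm hF (hzero l1 hu1 hw2e n1), herm_eq_zero_symm hF (hzero l1 hv1 hw1e n2),
        herm_eq_zero_symm hF (hzero l1 hv1 hw2e n2)]
    refine ⟨_, hd, hg, ?_⟩
    rw [htrace _ _ ![2, 1, 0, 3] (by decide) hg hd, Fin.sum_univ_four]
    show ω + 1 + ω * ω + 1 = 1
    linear_combination hω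

end Cfsg.Agent.Lib.Elusive19.Pauli4
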